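import Mathlib
import Cfsg.Agent.Lib.EqualOrderConj.Basic
import Cfsg.Agent.Lib.Forms.SolubilizerPSL2.Inst
import Cfsg.Agent.Lib.JT.LocalPSL
import Cfsg.Agent.Lib.GW.KleinPSL

/-!
# Local facts on `PSL₂(q)`, `q ≡ ±3 (mod 8)`
-/

set_option autoImplicit false
set_option linter.style.haveILetI false
set_option linter.unusedSectionVars false

namespace Cfsg.Agent.EqConjOdd

open Subgroup MulAction

/-- What is used of `PSL₂(q)`. -/
structure LFacts (X : Type*) [Group X] (q p : ℕ) : Prop where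
  q_mod : q % 8 = 3 ∨ q % 8 = 5
  three_lt : 3 < q
  simple : IsSimpleGroup X
  card : 2 * Nat.card X = q * ((q - 1) * (q + 1))
  conj : ∀ a b : X, orderOf a = 2 → orderOf b = 2 → IsConj a b
  four : ∀ k : X, orderOf k = 2 → ∃ u : X, orderOf u = 2 ∧ Commute u k ∧ u ≠ k
  rot : ∀ a b : X, orderOf a = 2 → orderOf b = 2 → Commute a b → a ≠ b →
    ∃ w : X, orderOf w = 3 ∧ w * a * w⁻¹ = b ∧ w * b * w⁻¹ = a * b
  fixfree : ∀ a b x : X, orderOf a = 2 → orderOf b = 2 → Commute a b → a ≠ b → Odd (orderOf x) →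
    Commute x a → Commute x b → x = 1
  unipotent : ∃ U : Subgroup X, Nat.card U = q ∧ (∀ x ∈ U, x ^ p = 1) ∧
    (∀ x ∈ U, ∀ y ∈ U, x * y = y * x) ∧
    (∀ x ∈ U, x ≠ 1 → ∀ g, Commute g x → g ∈ U) ∧
    (∀ x ∈ U, x ≠ 1 → ∀ g, g * x * g⁻¹ ∈ U → g ∈ normalizer (U : Set X)) ∧
    2 * Nat.card (normalizer (U : Set X)) = q * (q - 1)

variable {X Y : Type*} [Group X] [Group Y]

theorem mem_normalizer_map_iff (e : X ≃* Y) {U : Subgroup X} {g : X} :
    e g ∈ normalizer (U.map e.toMonoidHom : Set Y) ↔ g ∈ normalizer (U : Set X) := by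
  rw [mem_normalizer_iff, mem_normalizer_iff]
  have hm : ∀ z, e z ∈ U.map e.toMonoidHom ↔ z ∈ U := fun z => mem_map_iff_mem e.injective
  refine ⟨fun h z => ?_, fun h z => ?_⟩
  · have := h (e z)
    rwa [hm, ← map_inv, ← map_mul, ← map_mul, hm] at this
  · obtain ⟨z, rfl⟩ := e.surjective z
    rw [hm, ← map_inv, ← map_mul, ← map_mul, hm]
    exact h z

theorem LFacts.of_equiv {q p : ℕ} (h : LFacts X q p) (e : X ≃* Y) : LFacts Y q p := by
  have ho : ∀ y : Y, orderOf (e.symm y) = orderOf y := fun y => e.symm.orderOf_eq y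
  have hc : ∀ {a b : Y}, Commute a b → Commute (e.symm a) (e.symm b) := fun h' =>
    h'.map e.symm.toMonoidHom
  refine ⟨h.q_mod, h.three_lt, ?_, by rw [← Nat.card_congr e.toEquiv, h.card], fun a b ha hb => ?_,
    fun k hk => ?_, fun a b ha hb hab hne => ?_, fun a b x ha hb hab hne hx hxa hxb => ?_, ?_⟩
  · haveI := h.simple
    haveI : Nontrivial Y := e.symm.toEquiv.nontrivial
    exact IsSimpleGroup.isSimpleGroup_of_surjective e.toMonoidHom e.surjective
  · have := e.toMonoidHom.map_isConj (h.conj (e.symm a) (e.symm b) (by rw [ho, ha]) (by rw [ho, hb]))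
    simpa using this
  · obtain ⟨u, hu, huk, hne⟩ := h.four (e.symm k) (by rw [ho, hk])
    refine ⟨e u, by rw [e.orderOf_eq, hu], ?_, fun e' => hne (by rw [← e', e.symm_apply_apply])⟩
    simpa using huk.map e.toMonoidHom
  · obtain ⟨w, hw, h1, h2⟩ := h.rot _ _ (by rw [ho, ha]) (by rw [ho, hb]) (hc hab)
      fun e' => hne (e.symm.injective e')
    refine ⟨e w, by rw [e.orderOf_eq, hw], ?_, ?_⟩
    · simpa using congrArg e h1
    · simpa using congrArg e h2
  · have := h.fixfree _ _ (e.symm x) (by rw [ho, ha]) (by rw [ho, hb]) (hc hab)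
      (fun e' => hne (e.symm.injective e')) (by rw [ho]; exact hx) (hc hxa) (hc hxb)
    simpa using congrArg e this
  · obtain ⟨U, hU, hexp, hcomm, hcen, hti, hN⟩ := h.unipotent
    have hm : ∀ {y : Y}, y ∈ U.map e.toMonoidHom → e.symm y ∈ U := by
      rintro _ ⟨x, hx, rfl⟩
      simpa using hx
    refine ⟨U.map e.toMonoidHom, by rw [card_map_of_injective e.injective, hU], fun y hy => ?_,
      fun y hy z hz => ?_, fun y hy hy1 g hg => ?_, fun y hy hy1 g hg => ?_, ?_⟩
    · simpa using congrArg e (hexp _ (hm hy))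
    · simpa using congrArg e (hcomm _ (hm hy) _ (hm hz))
    · refine ⟨e.symm g, hcen _ (hm hy) (fun e' => hy1 (by simpa using congrArg e e')) _ (hc hg), ?_⟩
      simp
    · have := hti _ (hm hy) (fun e' => hy1 (by simpa using congrArg e e')) (e.symm g)
        (by simpa using hm hg)
      simpa using (mem_normalizer_map_iff e).2 this
    · rw [← hN]
      congr 1
      refine Nat.card_congr (Equiv.subtypeEquiv e.symm.toEquiv fun y => ?_)
      show y ∈ normalizer (U.map e.toMonoidHom : Set Y) ↔ e.symm y ∈ normalizer (U : Set X)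
      rw [← mem_normalizer_map_iff e, e.apply_symm_apply]

theorem comm_of_card_four {K : Type*} [Group K] [Finite K] (h8 : ¬ 8 ∣ Nat.card K) (P : Sylow 2 K) :
    ∀ a ∈ (P : Subgroup K), ∀ b ∈ (P : Subgroup K), a * b = b * a := by
  haveI : Fact (Nat.Prime 2) := ⟨Nat.prime_two⟩
  obtain ⟨k, hk⟩ := P.2.exists_card_eq
  have hk2 : k ≤ 2 := by
    by_contra hcon
    exact h8 ((pow_dvd_pow 2 (by omega : 3 ≤ k)).trans (hk ▸ (P : Subgroup K).card_subgroup_dvd_card))
  have : IsMulCommutative (P : Subgroup K) := by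
    interval_cases k
    · haveI : Subsingleton (P : Subgroup K) := (Nat.card_eq_one_iff_unique.1 (by rw [hk, pow_zero])).1
      exact ⟨⟨fun a b => Subsingleton.elim _ _⟩⟩
    · haveI := isCyclic_of_prime_card (α := (P : Subgroup K)) (p := 2) (by rw [hk, pow_one])
      infer_instance
    · exact IsPGroup.isMulCommutative_of_card_eq_prime_sq hk
  exact fun a ha b hb => congrArg Subtype.val (this.is_comm.comm ⟨a, ha⟩ ⟨b, hb⟩)

theorem not_eight_dvd {q N : ℕ} (hq : q % 8 = 3 ∨ q % 8 = 5) (hN : 2 * N = q * ((q - 1) * (q + 1))) :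
    ¬ 8 ∣ N := by
  intro h
  obtain ⟨m, rfl⟩ := h
  obtain ⟨k, rfl | rfl⟩ : ∃ k, q = 8 * k + 3 ∨ q = 8 * k + 5 := ⟨q / 8, by omega⟩
  · have h1 : 2 * m = (8 * k + 3) * ((4 * k + 1) * (2 * k + 1)) := by
      rw [show 8 * k + 3 - 1 = 8 * k + 2 by omega] at hN
      nlinarith [hN]
    have h2 : (2 * m) % 2 = ((8 * k + 3) * ((4 * k + 1) * (2 * k + 1))) % 2 := by rw [h1]
    simp [Nat.mul_mod, Nat.add_mod] at h2
  · have h1 : 2 * m = (8 * k + 5) * ((2 * k + 1) * (4 * k + 3)) := by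
      rw [show 8 * k + 5 - 1 = 8 * k + 4 by omega] at hN
      nlinarith [hN]
    have h2 : (2 * m) % 2 = ((8 * k + 5) * ((2 * k + 1) * (4 * k + 3))) % 2 := by rw [h1]
    simp [Nat.mul_mod, Nat.add_mod] at h2

variable {F : Type*} [Field F] [Fintype F]

local notation "PG" => Matrix.ProjectiveSpecialLinearGroup (Fin 2) F

theorem exists_lfacts {p f : ℕ} [hp : Fact p.Prime] [CharP F p] (hF : Fintype.card F = p ^ f)
    (hmod : Fintype.card F % 8 = 3 ∨ Fintype.card F % 8 = 5) (h3 : 3 < Fintype.card F) :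
    LFacts PG (Fintype.card F) p := by
  set q := Fintype.card F with hq
  have hodd : Odd q := Nat.odd_iff.2 (by omega)
  have hf0 : f ≠ 0 := by rintro rfl; rw [pow_zero] at hF; omega
  have hd : Nat.gcd 2 (q - 1) = 2 :=
    Nat.gcd_eq_left (Nat.dvd_of_mod_eq_zero (by omega))
  have hD := Forms.SolubilizerPSL2.data (F := F) p hF hf0 hd
  rw [← hF] at hD
  have hsimple := TimesPSLTwo.psl_simple (F := F) h3
  have h8 : ¬ 8 ∣ Nat.card PG := not_eight_dvd hmod hD.card
  obtain ⟨r, hK, -⟩ := JT.Loc.exists_kfacts hodd h3 fun P a ha b hb => comm_of_card_four h8 P a ha b hb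
  refine ⟨hmod, h3, hsimple, hD.card, hK.conj, fun k hk => ?_, hK.rot,
    fun a b x ha hb hab hne hx hxa hxb => ?_, ?_⟩
  · obtain ⟨-, A, -, -, -, -, -, u, hu⟩ := hK.torus k hk
    exact ⟨u, hu⟩
  · obtain ⟨p₀, _, hT⟩ := JT.Loc.exists_torus_psl hodd ha
    exact hT.eq_one_of_commute_invol hb (Ne.symm hne) hab.symm hx hxa hxb
  · obtain ⟨z, hz⟩ := hD.exists_rat
    set U := hD.two.pSub z with hU
    have hUq : Nat.card U = q := hD.natCard_pSub z hz
    have hUne : U ≠ ⊥ := Forms.SolubilizerPSL2.pSub_ne_bot hD hz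
    refine ⟨U, hUq, fun x hx => hx.2, fun x hx y hy => (hD.two.pSub_comm hx hy).eq,
      fun x hx hx1 g hg => hD.two.cent_p (hD.two.orderOf_of_mem hx hx1) hx.1 hg, ?_, ?_⟩
    · intro x hx hx1 g hg
      have hgz := hD.two.smul_eq_of_conj_mem hx hx1 hg
      exact EqualOrderConj.mem_normalizer_of_conj_mem fun a ha => hD.two.conj_mem_pSub hgz ha
    · have hN : normalizer (U : Set PG) = stabilizer PG z := by
        obtain ⟨⟨x, hx⟩, hx1⟩ := ne_bot_iff_exists_ne_one.1 hUne
        refine le_antisymm (fun g hg => ?_) (fun g hg => ?_)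
        · exact hD.two.smul_eq_of_conj_mem hx (fun e => hx1 (Subtype.ext e))
            ((mem_normalizer_iff.1 hg x).1 hx)
        · exact EqualOrderConj.mem_normalizer_of_conj_mem fun a ha =>
            hD.two.conj_mem_pSub (mem_stabilizer_iff.1 hg) ha
      rw [hN]
      exact Forms.SolubilizerPSL2.natCard_stab hD hz

end Cfsg.Agent.EqConjOdd
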