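import Cfsg.Agent.Lib.EqConjOdd.Cyc
import Cfsg.Agent.S3908

/-!
# The fusion used by the analysis of an insoluble centralizer

It holds both when the `p`-subgroups of each order are conjugate and when the abelian subgroups of
each order are conjugate.
-/

set_option autoImplicit false
set_option linter.style.haveILetI false
set_option linter.unusedSectionVars false

namespace Cfsg.Agent.EqConjOdd

open Subgroup

universe u

/-- Subgroups of prime order and abelian `r`-subgroups of each order are conjugate; for odd `r` the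
`r`-subgroups are abelian or have exponent `r`. -/
structure Fusion (G : Type*) [Group G] : Prop where
  cyc : CycConj G
  ab : ∀ r : ℕ, r.Prime → ∀ A B : Subgroup G, IsPGroup r A → IsPGroup r B →
    (∀ a ∈ A, ∀ b ∈ A, a * b = b * a) → (∀ a ∈ B, ∀ b ∈ B, a * b = b * a) →
    Nat.card A = Nat.card B → ∃ g : G, B = A.map (MulAut.conj g).toMonoidHom
  alt : ∀ r : ℕ, r.Prime → r ≠ 2 →
    (∀ Q : Subgroup G, IsPGroup r Q → ∀ a ∈ Q, ∀ b ∈ Q, a * b = b * a) ∨
      ∀ (x : G) (k : ℕ), x ^ r ^ k = 1 → x ^ r = 1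

variable {G : Type u} [Group G] [Finite G]

theorem AllConj.fusion (h : AllConj G) : Fusion G where
  cyc := h.cycConj
  ab r hr A B hA hB _ _ hc := h r hr A B hA hB hc
  alt r hr hr2 := by
    haveI : Fact r.Prime := ⟨hr⟩
    exact Or.inl fun Q hQ a ha b hb => h.comm_of_isPGroup hr2 hQ ha hb

theorem fusion_of_hyp (hB : GenA.AbelianConj.Hyp G) : Fusion G where
  cyc := cycConj_of_hyp hB
  ab r _ A B _ _ hA hB' hc :=
    hB A B (GenA.AbelianConj.isMulCommutative_of hA) (GenA.AbelianConj.isMulCommutative_of hB') hc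
  alt r hr hr2 := by
    haveI : Fact r.Prime := ⟨hr⟩
    obtain ⟨P⟩ : Nonempty (Sylow r G) := inferInstance
    rcases (S3908.result hB).2 r hr2 P with hc | he
    · refine Or.inl fun Q hQ a ha b hb => ?_
      obtain ⟨T, hT⟩ := hQ.exists_le_sylow
      haveI : IsCyclic (T : Subgroup G) := isCyclic_of_surjective _ (P.equiv T).surjective
      exact congrArg Subtype.val (mul_comm' (⟨a, hT ha⟩ : (T : Subgroup G)) ⟨b, hT hb⟩)
    · refine Or.inr fun x k hx => ?_
      have hp : IsPGroup r (zpowers x) := by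
        obtain ⟨j, -, hj⟩ := (Nat.dvd_prime_pow hr).1 (orderOf_dvd_of_pow_eq_one hx)
        exact IsPGroup.of_card (n := j) (by rw [Nat.card_zpowers, hj])
      obtain ⟨T, hT⟩ := hp.exists_le_sylow
      obtain ⟨g, rfl⟩ := MulAction.exists_smul_eq G P T
      have h1 := he _ (Transfer.Fusion.mem_smul_sylow_iff.1 (hT (mem_zpowers x)))
      calc x ^ r = (g * (g⁻¹ * x * g) * g⁻¹) ^ r := by group
        _ = g * (g⁻¹ * x * g) ^ r * g⁻¹ := conj_pow
        _ = 1 := by rw [h1, mul_one, mul_inv_cancel]

end Cfsg.Agent.EqConjOdd
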