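import Cfsg.Agent.Lib.EqConjOdd.Component
import Cfsg.Agent.Lib.EqConjOdd.Fusion
import Cfsg.Agent.Lib.JT.LocalPSL
import Cfsg.Agent.Lib.Coprime.Sylow

/-!
# Odd cores of insoluble centralizers for primes with Sylow subgroups of prime exponent

No abelian Sylow subgroup is used: a prime of `|PSL₂(q)|` dividing the order of the odd core would
give an abelian `r`-subgroup centralized by a four-group and as large as one which is not.
-/

set_option autoImplicit false
set_option linter.style.haveILetI false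
set_option linter.unusedSectionVars false

namespace Cfsg.Agent.EqConjOdd

open Subgroup

universe u v

/-- In `PSL₂(q)` an involution commuting with another one inverts the odd elements centralizing it. -/
theorem inverts_psl {F : Type*} [Field F] [Fintype F]
    (hmod : Fintype.card F % 8 = 3 ∨ Fintype.card F % 8 = 5) (h3 : 3 < Fintype.card F)
    {a b c : Matrix.ProjectiveSpecialLinearGroup (Fin 2) F} (ha : orderOf a = 2) (hb : orderOf b = 2)
    (hab : Commute b a) (hne : b ≠ a) (hc : Odd (orderOf c)) (hca : Commute c a) :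
    b * c * b⁻¹ = c⁻¹ := by
  have hodd : Odd (Fintype.card F) := Nat.odd_iff.2 (by omega)
  obtain ⟨p, hchar⟩ := CharP.exists F
  obtain ⟨f, hp, hF⟩ := FiniteField.card F p
  haveI : Fact p.Prime := ⟨hp⟩
  have hL := exists_lfacts (F := F) hF hmod h3
  obtain ⟨r, hK, -⟩ := JT.Loc.exists_kfacts (F := F) hodd h3 fun P x hx y hy =>
    comm_of_card_four (not_eight_dvd hL.q_mod hL.card) P x hx y hy
  obtain ⟨-, A, hcyc, -, hAa, hu, -, -⟩ := hK.torus a ha
  obtain ⟨hinv, hcases⟩ := hu b hb hab hne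
  have hca' := hAa
  obtain ⟨m, hm⟩ := hc
  have hsq : c ^ 2 ∈ A → c ∈ A := fun h2 => by
    have h1 : c = (c ^ 2) ^ (m + 1) := by
      rw [← pow_mul, show 2 * (m + 1) = orderOf c + 1 by omega, pow_succ, pow_orderOf_eq_one, one_mul]
    rw [h1]
    exact pow_mem h2 _
  have ha2 : a * a = 1 := JT.Loc.invol_mul_self ha
  have hb2 : b * b = 1 := JT.Loc.invol_mul_self hb
  have hinvol : ∀ z : Matrix.ProjectiveSpecialLinearGroup (Fin 2) F, z * z = 1 → c = z → c ∈ A := by
    intro z hz hcz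
    subst hcz
    exact hsq (by rw [pow_two, hz]; exact one_mem A)
  have hcA : c ∈ A := by
    rcases hcases c hca with h | h | h | h
    · exact h
    · refine hsq ?_
      rw [show c ^ 2 = (c * a) ^ 2 by rw [hca.mul_pow, pow_two a, ha2, mul_one]]
      exact pow_mem h 2
    · refine hinvol (c * b * b) ?_ (by rw [mul_assoc, hb2, mul_one])
      calc c * b * b * (c * b * b) = c * b * (b * (c * b) * b⁻¹) * (b * b) := by group
        _ = c * b * (c * b)⁻¹ * (b * b) := by rw [hinv _ h]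
        _ = 1 := by rw [hb2]; group
    · have hbc : Commute (b * a) a := hab.mul_left rfl
      have hba2 : (b * a) * (b * a) = 1 := by
        rw [← pow_two, hab.mul_pow, pow_two, pow_two, hb2, ha2, mul_one]
      have hbainv : (b * a) * (c * (b * a)) * (b * a)⁻¹ = (c * (b * a))⁻¹ := by
        calc (b * a) * (c * (b * a)) * (b * a)⁻¹ = b * (a * (c * (b * a)) * a⁻¹) * b⁻¹ := by group
          _ = b * (c * (b * a)) * b⁻¹ := by rw [← (hca' _ h).eq, mul_inv_cancel_right]
          _ = _ := hinv _ h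
      refine hinvol (c * (b * a) * (b * a)) ?_ (by rw [mul_assoc, hba2, mul_one])
      calc c * (b * a) * (b * a) * (c * (b * a) * (b * a))
          = c * (b * a) * ((b * a) * (c * (b * a)) * (b * a)⁻¹) * ((b * a) * (b * a)) := by group
        _ = c * (b * a) * (c * (b * a))⁻¹ * ((b * a) * (b * a)) := by rw [hbainv]
        _ = 1 := by rw [hba2]; group
  exact hinv c hcA

variable {G : Type u} [Group G] [Finite G] {t : G} {X : Type v} [Group X] [Finite X] {L : Subgroup X}
  {π : ↥(centralizer ({t} : Set G)) →* X} {q p : ℕ}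

/-- A subgroup with a centralizer of two-part at least four meets an involution of `L`. -/
theorem Cover.exists_invol_centralizing (h : Cover t L π q p) {S : Sylow 2 G} (hS : Eight S)
    (ht : orderOf t = 2) {U : Subgroup G} (htU : t ∈ centralizer (U : Set G))
    (h4 : 4 ∣ Nat.card (centralizer (U : Set G))) :
    ∃ u : ↥(centralizer ({t} : Set G)), u ^ 2 = 1 ∧ π u ≠ 1 ∧ π u ∈ L ∧
      (u : G) ∈ centralizer (U : Set G) := by
  classical
  haveI : Fact (Nat.Prime 2) := ⟨Nat.prime_two⟩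
  set D := centralizer (U : Set G) with hD
  obtain ⟨P, hP⟩ := (IsPGroup.of_card (n := 1) (G := zpowers (⟨t, htU⟩ : D))
    (by rw [Nat.card_zpowers, ← Subgroup.orderOf_coe, ht, pow_one])).exists_le_sylow
  have hP4 : 4 ≤ Nat.card (P : Subgroup D) := by
    rw [P.card_eq_multiplicity, show 4 = 2 ^ 2 by norm_num]
    exact Nat.pow_le_pow_right two_pos
      ((Nat.prime_two.pow_dvd_iff_le_factorization Nat.card_pos.ne').1 (show 2 ^ 2 ∣ _ from h4))
  haveI := Fintype.ofFinite (P : Subgroup D)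
  obtain ⟨x, -, hx⟩ : ∃ x ∈ (Finset.univ : Finset (P : Subgroup D)),
      x ∉ ({1, ⟨⟨t, htU⟩, hP (mem_zpowers _)⟩} : Finset (P : Subgroup D)) := by
    by_contra hcon
    push Not at hcon
    have h1 := Finset.card_le_card hcon
    rw [Finset.card_univ, ← Nat.card_eq_fintype_card] at h1
    have h2 := h1.trans Finset.card_le_two
    omega
  simp only [Finset.mem_insert, Finset.mem_singleton, not_or] at hx
  obtain ⟨T, hT⟩ := (P.2.map D.subtype).exists_le_sylow
  have hT8 := hS.smul T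
  have hxT : ((x : D) : G) ∈ (T : Subgroup G) := hT ⟨_, x.2, rfl⟩
  have htT : t ∈ (T : Subgroup G) := hT ⟨_, hP (mem_zpowers (⟨t, htU⟩ : D)), rfl⟩
  set u : ↥(centralizer ({t} : Set G)) :=
    ⟨((x : D) : G), mem_centralizer_singleton_iff.2 (hT8.comm _ hxT t htT)⟩ with hu
  have hu2 : u ^ 2 = 1 := Subtype.ext (hT8.exp _ hxT)
  refine ⟨u, hu2, fun e => ?_, h.mem_of_two (by rw [← map_pow, hu2, map_one]), (x : D).2⟩
  rcases h.eq_or_eq ht e hu2 with e1 | e1
  · exact hx.1 (Subtype.ext (Subtype.ext e1))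
  · exact hx.2 (Subtype.ext (Subtype.ext e1))

set_option quotPrecheck false in
local notation "Ct" => Subgroup.centralizer (({t} : Set G))

set_option maxHeartbeats 1600000 in
/-- The primes of `|L|` with Sylow subgroups of prime exponent are coprime to the odd core. -/
theorem Cover.not_dvd_core_exp (h : Cover t L π q p) (hA : Fusion G) {S : Sylow 2 G} (hS : Eight S)
    (ht : orderOf t = 2) {r : ℕ} (hr : r.Prime) (hr2 : r ≠ 2) (hrL : r ∣ Nat.card L)
    (hexp : ∀ (x : G) (k : ℕ), x ^ r ^ k = 1 → x ^ r = 1)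
    (hdih : ∀ a b c : L, orderOf a = 2 → orderOf b = 2 → Commute b a → b ≠ a → Odd (orderOf c) →
      Commute c a → b * c * b⁻¹ = c⁻¹) :
    ¬ r ∣ Nat.card (Cfsg.oddCore ↥(centralizer ({t} : Set G))) := by
  classical
  haveI : Fact (Nat.Prime 2) := ⟨Nat.prime_two⟩
  haveI : Fact r.Prime := ⟨hr⟩
  haveI := h.normal
  have hrodd : Odd r := hr.odd_of_ne_two hr2
  set W := Cfsg.oddCore (centralizer ({t} : Set G)) with hW
  intro hrW
  have hWodd : Odd (Nat.card W) := Cores.oddCore_odd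
  set tC : Ct := ⟨t, mem_centralizer_singleton_iff.2 rfl⟩ with htC
  have htC2 : tC ^ 2 = 1 := Subtype.ext (by rw [Subgroup.coe_pow]; exact ht ▸ pow_orderOf_eq_one t)
  have htz : ∀ c : Ct, c * tC = tC * c := fun c =>
    Subtype.ext (mem_centralizer_singleton_iff.1 c.2)
  have hsqW : ∀ c : Ct, π c = 1 → c ^ 2 ∈ W := by
    intro c hc
    rcases h.ker c hc with e | e
    · exact pow_mem e 2
    · have h1 := pow_mem e 2
      rwa [(show Commute c tC from htz c).mul_pow, htC2, mul_one] at h1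
  -- elements of order `r` over a given element
  have hpow : ∀ c : Ct, orderOf (π c) = r → ∃ j : ℕ, orderOf (c ^ j) = r ∧ π (c ^ j) ≠ 1 := by
    intro c hc
    set n := orderOf c with hn
    set e := n.factorization r with he
    refine ⟨n / r ^ e, ?_⟩
    have hne : π (c ^ (n / r ^ e)) ≠ 1 := by
      rw [map_pow, Ne, ← orderOf_dvd_iff_pow_eq_one, hc]
      exact Nat.not_dvd_ordCompl hr (orderOf_pos c).ne'
    have h1 : ((c ^ (n / r ^ e) : Ct) : G) ^ r ^ e = 1 := by
      rw [← Subgroup.coe_pow, ← pow_mul, Nat.div_mul_cancel (Nat.ordProj_dvd n r), pow_orderOf_eq_one,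
        OneMemClass.coe_one]
    refine ⟨orderOf_eq_prime (Subtype.ext (by rw [Subgroup.coe_pow]; exact hexp _ e h1)) fun e1 => hne ?_,
      hne⟩
    rw [e1, map_one]
  obtain ⟨l, hl⟩ := exists_prime_orderOf_dvd_card' (G := L) r hrL
  have hlo : orderOf (l : X) = r := by rw [Subgroup.orderOf_coe, hl]
  obtain ⟨y, hyo, hy1⟩ : ∃ y : Ct, orderOf y = r ∧ π y ≠ 1 ∧ π y ∈ L := by
    obtain ⟨c, hc⟩ := h.surj (l : X)
    obtain ⟨j, hj, hj1⟩ := hpow c (by rw [hc, hlo])
    exact ⟨c ^ j, hj, hj1, by rw [map_pow, hc]; exact pow_mem l.2 j⟩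
  have hnone : ∀ x : G, orderOf x = r → ¬ 8 ∣ Nat.card (centralizer ({x} : Set G)) := fun x hx hx8 =>
    hy1.1 (h.no_conj_central2 hA.cyc hS ht hr hr2 hx hx8 hyo hy1.2)
  -- an invariant Sylow subgroup of the core
  obtain ⟨T₀, hT₀⟩ := (IsPGroup.of_card (n := 1) (G := zpowers t)
    (by rw [Nat.card_zpowers, ht, pow_one])).exists_le_sylow
  have hT8 := hS.smul T₀
  have htT : t ∈ (T₀ : Subgroup G) := hT₀ (mem_zpowers t)
  have hTC : (T₀ : Subgroup G) ≤ Ct := fun a ha => mem_centralizer_singleton_iff.2 (hT8.comm a ha t htT)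
  set Sc : Sylow 2 Ct := T₀.subtype hTC with hSc
  have hScard : Nat.card (Sc : Subgroup Ct) = 8 :=
    (Nat.card_congr (subgroupOfEquivOfLe hTC).toEquiv).trans hT8.card
  have hSsq : ∀ s ∈ (Sc : Subgroup Ct), s ^ 2 = 1 := fun s hs => Subtype.ext (hT8.exp _ hs)
  have hScomm : ∀ s ∈ (Sc : Subgroup Ct), ∀ s' ∈ (Sc : Subgroup Ct), s * s' = s' * s :=
    fun s hs s' hs' => Subtype.ext (hT8.comm _ hs _ hs')
  have htS : tC ∈ (Sc : Subgroup Ct) := htT
  obtain ⟨R, hRinv⟩ := Coprime.exists_invariant_sylow (A := (Sc : Subgroup Ct)) (K := W) r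
    (by rw [W.normalizer_eq_top]; exact le_top)
    (by rw [hScard, show 8 = 2 ^ 3 by norm_num]; exact Nat.Coprime.pow_left 3 (Nat.coprime_two_left.2 hWodd))
    (Or.inl (Group.isSolvable_of_comm fun a b => Subtype.ext (hScomm _ a.2 _ b.2)))
  set R₀ := (R : Subgroup W).map W.subtype with hR₀
  set N := normalizer (R₀ : Set Ct) with hN
  have hF : N ⊔ W = ⊤ := Sylow.normalizer_sup_eq_top R
  have hNs : ∀ x : X, ∃ n ∈ N, π n = x := by
    intro x
    obtain ⟨c, rfl⟩ := h.surj x
    obtain ⟨w, hw, n, hn, rfl⟩ := (Coprime.mem_sup_of_le_normalizer (N := W) (H := N)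
      (by rw [W.normalizer_eq_top]; exact le_top) (x := c)).1 (by rw [sup_comm, hF]; exact mem_top c)
    exact ⟨n, hn, by rw [map_mul, show π w = 1 from h.core hw, one_mul]⟩
  -- the centre of the invariant subgroup
  set V := R₀ ⊓ centralizer (R₀ : Set Ct) with hV
  have hR₀p : IsPGroup r R₀ := R.2.map _
  have hVp : IsPGroup r V := hR₀p.to_le inf_le_left
  have hVexp : ∀ v ∈ V, v ^ r = 1 := fun v hv => by
    obtain ⟨k, hk⟩ := hVp ⟨v, hv⟩
    refine Subtype.ext ?_
    rw [Subgroup.coe_pow]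
    exact hexp (v : G) k (by rw [← Subgroup.coe_pow]; exact congrArg (fun w : V => ((w : Ct) : G)) hk)
  have hVcomm : ∀ v ∈ V, ∀ v' ∈ V, v * v' = v' * v := fun v hv v' hv' =>
    mem_centralizer_iff.1 hv'.2 v hv.1
  have hVN : ∀ n ∈ N, ∀ v ∈ V, n * v * n⁻¹ ∈ V := by
    intro n hn v hv
    refine ⟨(mem_normalizer_iff.1 hn v).1 hv.1, mem_centralizer_iff.2 fun s hs => ?_⟩
    have hs' : n⁻¹ * s * n ∈ R₀ := by simpa using (mem_normalizer_iff.1 (inv_mem hn) s).1 hs
    calc s * (n * v * n⁻¹) = n * ((n⁻¹ * s * n) * v) * n⁻¹ := by group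
      _ = n * (v * (n⁻¹ * s * n)) * n⁻¹ := by rw [mem_centralizer_iff.1 hv.2 _ hs']
      _ = n * v * n⁻¹ * s := by group
  have hSV : ∀ s ∈ (Sc : Subgroup Ct), ∀ v ∈ V, s * v * s⁻¹ ∈ V := fun s hs => hVN s (hRinv hs)
  have hVW : V ≤ W := inf_le_left.trans (map_subtype_le _)
  have hVne : ∃ v ∈ V, v ≠ 1 := by
    have h1 : r ∣ Nat.card R₀ := by
      rw [hR₀, card_map_of_injective W.subtype_injective, R.card_eq_multiplicity]
      exact dvd_pow_self r (hr.factorization_pos_of_dvd Nat.card_pos.ne' hrW).ne'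
    haveI : Nontrivial R₀ := Finite.one_lt_card_iff_nontrivial.1
      (lt_of_lt_of_le hr.one_lt (Nat.le_of_dvd Nat.card_pos h1))
    haveI := hR₀p.center_nontrivial
    obtain ⟨⟨⟨v, hv⟩, hvc⟩, hv1⟩ := exists_ne (1 : center R₀)
    exact ⟨v, ⟨hv, mem_centralizer_iff.2 fun s hs =>
      congrArg Subtype.val (mem_center_iff.1 hvc ⟨s, hs⟩)⟩, fun e => hv1 (Subtype.ext (Subtype.ext e))⟩
  have hVodd : ∀ v ∈ V, v⁻¹ = v → v = 1 := fun v hv e => orderOf_eq_one_iff.1
    (Nat.eq_one_of_dvd_coprimes (Nat.coprime_two_left.2 hrodd)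
      (orderOf_dvd_of_pow_eq_one (by rw [pow_two]; nth_rewrite 1 [← e]; exact inv_mul_cancel v))
      (orderOf_dvd_of_pow_eq_one (hVexp v hv)))
  -- no nontrivial element of `V` is centralized by five elements of the Sylow subgroup
  have hfive : ∀ v ∈ V, ∀ E : Finset Ct, 5 ≤ E.card →
      (∀ e ∈ E, e ∈ (Sc : Subgroup Ct) ∧ Commute e v) → v = 1 := by
    intro v hv E hE hEv
    by_contra hv1
    set K := (Sc : Subgroup Ct) ⊓ centralizer ({v} : Set Ct) with hK
    have hK5 : 5 ≤ Nat.card K := hE.trans (by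
      rw [← Nat.card_eq_finsetCard]
      exact Nat.card_le_card_of_injective (fun e : E => (⟨e.1, (hEv e.1 e.2).1,
        mem_centralizer_singleton_iff.2 (hEv e.1 e.2).2.eq⟩ : K))
        fun e e' h' => Subtype.ext (congrArg Subtype.val h' :))
    have hK8 : Nat.card K ∣ 2 ^ 3 := by
      have := card_dvd_of_le (inf_le_left : K ≤ (Sc : Subgroup Ct))
      rwa [hScard] at this
    have hKeq : Nat.card K = 8 := by
      obtain ⟨j, hj, hj'⟩ := (Nat.dvd_prime_pow Nat.prime_two).1 hK8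
      rw [hj'] at hK5 ⊢
      interval_cases j <;> first | rfl | (norm_num at hK5)
    refine hnone (v : G) ?_ ?_
    · rw [Subgroup.orderOf_coe]
      exact orderOf_eq_prime (hVexp v hv) hv1
    · rw [← hKeq, ← card_map_of_injective (f := (Subgroup.subtype Ct)) (Subgroup.subtype_injective Ct) (K := K)]
      refine card_dvd_of_le ?_
      rintro _ ⟨z, hz, rfl⟩
      exact mem_centralizer_singleton_iff.2 (congrArg Subtype.val (mem_centralizer_singleton_iff.1 hz.2) :)
  -- two independent involutions of the Sylow subgroup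
  have hone : ∀ s ∈ (Sc : Subgroup Ct), π s = 1 → s = 1 ∨ s = tC := fun s hs e => by
    rcases h.eq_or_eq ht e (hSsq s hs) with e1 | e1
    · exact Or.inl (Subtype.ext e1)
    · exact Or.inr (Subtype.ext e1)
  obtain ⟨a₀, ha₀, ha₀1, b₀, hb₀, hb₀1, hab₀⟩ : ∃ a ∈ (Sc : Subgroup Ct), π a ≠ 1 ∧
      ∃ b ∈ (Sc : Subgroup Ct), π b ≠ 1 ∧ π a ≠ π b := by
    haveI := Fintype.ofFinite (Sc : Subgroup Ct)
    set f : (Sc : Subgroup Ct) →* X := π.comp (Sc : Subgroup Ct).subtype with hf
    have hfker : Nat.card f.ker ≤ 2 := by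
      refine le_trans (Nat.card_le_card_of_injective (β := ({1, tC} : Finset Ct))
        (fun a => ⟨((a : (Sc : Subgroup Ct)) : Ct), by
          rcases hone _ a.1.2 a.2 with e | e <;> simp [e]⟩)
        (fun a b e => Subtype.ext (Subtype.ext (congrArg (fun z : ({1, tC} : Finset Ct) => (z : Ct)) e)))) ?_
      rw [Nat.card_eq_finsetCard]
      exact Finset.card_le_two
    have hrange : 4 ≤ Nat.card f.range := by
      have h1 := f.ker.card_mul_index
      rw [hScard, Subgroup.index_ker f] at h1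
      nlinarith
    haveI := Fintype.ofFinite f.range
    obtain ⟨x, y, z, hxy, hxz, hyz⟩ := Fintype.two_lt_card_iff.1
      (show 2 < Fintype.card f.range by rw [← Nat.card_eq_fintype_card]; omega)
    obtain ⟨a, b, ha1, hb1, hab⟩ : ∃ a b : f.range, a ≠ 1 ∧ b ≠ 1 ∧ a ≠ b := by
      by_cases hx : x = 1
      · exact ⟨y, z, fun e => hxy (hx.trans e.symm), fun e => hxz (hx.trans e.symm), hyz⟩
      by_cases hy : y = 1
      · exact ⟨x, z, hx, fun e => hyz (hy.trans e.symm), hxz⟩
      exact ⟨x, y, hx, hy, hxy⟩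
    obtain ⟨⟨a', ha'⟩, hae⟩ := a.2
    obtain ⟨⟨b', hb'⟩, hbe⟩ := b.2
    exact ⟨a', ha', fun e => ha1 (Subtype.ext (hae.symm.trans e)), b', hb',
      fun e => hb1 (Subtype.ext (hbe.symm.trans e)),
      fun e => hab (Subtype.ext (hae.symm.trans (e.trans hbe)))⟩
  have hSmul : ∀ s ∈ (Sc : Subgroup Ct), s * s = 1 := fun s hs => by rw [← pow_two]; exact hSsq s hs
  have hπmul : ∀ {s s' : Ct}, s' ∈ (Sc : Subgroup Ct) → π s ≠ π s' → π (s * s') ≠ 1 := by
    intro s s' hs' hne e
    refine hne ?_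
    rw [show s = s * s' * s' by rw [mul_assoc, hSmul s' hs', mul_one], map_mul, e, one_mul]
  -- the fixed points
  let F : Ct → Subgroup Ct := fun s => V ⊓ centralizer ({s} : Set Ct)
  have hsym : ∀ s ∈ (Sc : Subgroup Ct), ∀ v ∈ V, Commute s (v * (s * v * s⁻¹)) := by
    intro s hs v hv
    have hss : s⁻¹ = s := inv_eq_of_mul_eq_one_right (hSmul s hs)
    have e : s * (v * (s * v * s⁻¹)) * s⁻¹ = v * (s * v * s⁻¹) := by
      calc s * (v * (s * v * s⁻¹)) * s⁻¹ = s * v * s⁻¹ * (s * s * v * (s⁻¹ * s⁻¹)) := by group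
        _ = s * v * s⁻¹ * v := by rw [hss, hSmul s hs, one_mul, mul_one]
        _ = _ := (hVcomm v hv _ (hSV s hs v hv)).symm
    exact mul_inv_eq_iff_eq_mul.1 e
  have hexa : ∃ s ∈ (Sc : Subgroup Ct), π s ≠ 1 ∧ F s ≠ ⊥ := by
    by_contra hcon
    push Not at hcon
    obtain ⟨v, hv, hv1⟩ := hVne
    have hflip : ∀ s ∈ (Sc : Subgroup Ct), π s ≠ 1 → s * v * s⁻¹ = v⁻¹ := by
      intro s hs hs1
      have hm : v * (s * v * s⁻¹) ∈ F s :=
        ⟨mul_mem hv (hSV s hs v hv), mem_centralizer_singleton_iff.2 (hsym s hs v hv).symm.eq⟩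
      rw [hcon s hs hs1, mem_bot] at hm
      exact eq_inv_of_mul_eq_one_right hm
    have h1 := hflip _ ha₀ ha₀1
    have h2 := hflip _ hb₀ hb₀1
    have h3 := hflip _ (mul_mem ha₀ hb₀) (hπmul hb₀ hab₀)
    rw [show a₀ * b₀ * v * (a₀ * b₀)⁻¹ = a₀ * (b₀ * v * b₀⁻¹) * a₀⁻¹ by group, h2,
      show a₀ * v⁻¹ * a₀⁻¹ = (a₀ * v * a₀⁻¹)⁻¹ by group, h1, inv_inv] at h3
    exact hv1 (hVodd v hv h3.symm)
  obtain ⟨a, ⟨haS, ha1⟩, hamax⟩ := Set.exists_max_image {s : Ct | s ∈ (Sc : Subgroup Ct) ∧ π s ≠ 1}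
    (fun s => Nat.card (F s)) (Set.toFinite _) ⟨a₀, ha₀, ha₀1⟩
  have hFa : F a ≠ ⊥ := by
    obtain ⟨s, hs, hs1, hsF⟩ := hexa
    intro e
    have h1 := hamax s ⟨hs, hs1⟩
    rw [e, Subgroup.card_bot] at h1
    exact hsF (card_eq_one.1 (le_antisymm h1 Nat.card_pos))
  obtain ⟨b, hbS, hb1, hab⟩ : ∃ b ∈ (Sc : Subgroup Ct), π b ≠ 1 ∧ π a ≠ π b := by
    by_cases e : π a = π a₀
    · exact ⟨b₀, hb₀, hb₀1, e ▸ hab₀⟩
    · exact ⟨a₀, ha₀, ha₀1, e⟩
  have hπba : π (b * a) ≠ 1 := hπmul haS (Ne.symm hab)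
  -- `b` inverts the fixed points of `a`
  have hbinv : ∀ v ∈ F a, b * v * b⁻¹ = v⁻¹ := by
    intro v hv
    have hab' : Commute a b := hScomm a haS b hbS
    have hav : Commute a v := (mem_centralizer_singleton_iff.1 hv.2).symm
    have hwa : Commute a (v * (b * v * b⁻¹)) :=
      hav.mul_right ((hab'.mul_right hav).mul_right hab'.inv_right)
    have hwb := hsym b hbS v hv.1
    refine eq_inv_of_mul_eq_one_right (hfive _ (mul_mem hv.1 (hSV b hbS v hv.1))
      ({1, tC, a, b, b * a} : Finset Ct) (le_of_eq ?_) ?_)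
    · symm
      have hne : ∀ {x y : Ct}, π x ≠ π y → x ≠ y := fun h' e => h' (congrArg π e)
      have ht1 : (1 : Ct) ≠ tC := fun e => by
        have h1 : t = 1 := (congrArg Subtype.val e).symm
        rw [h1, orderOf_one] at ht
        omega
      have hba_b : π b ≠ π (b * a) := fun e => ha1 (by
        rw [map_mul] at e; exact (mul_eq_left (a := π b)).1 e.symm)
      have hba_a : π a ≠ π (b * a) := fun e => hb1 (by
        rw [map_mul] at e; exact (mul_eq_right (a := π b)).1 e.symm)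
      rw [Finset.card_insert_of_notMem, Finset.card_insert_of_notMem, Finset.card_insert_of_notMem,
        Finset.card_insert_of_notMem, Finset.card_singleton]
      · simp only [Finset.mem_singleton]; exact hne hba_b
      · simp only [Finset.mem_insert, Finset.mem_singleton, not_or]
        exact ⟨hne hab, hne hba_a⟩
      · simp only [Finset.mem_insert, Finset.mem_singleton, not_or]
        exact ⟨hne (by rw [h.self]; exact Ne.symm ha1), hne (by rw [h.self]; exact Ne.symm hb1),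
          hne (by rw [h.self]; exact Ne.symm hπba)⟩
      · simp only [Finset.mem_insert, Finset.mem_singleton, not_or]
        exact ⟨ht1, hne (by rw [map_one]; exact Ne.symm ha1), hne (by rw [map_one]; exact Ne.symm hb1),
          hne (by rw [map_one]; exact Ne.symm hπba)⟩
    · intro e he
      simp only [Finset.mem_insert, Finset.mem_singleton] at he
      rcases he with rfl | rfl | rfl | rfl | rfl
      exacts [⟨one_mem _, Commute.one_left _⟩, ⟨htS, (htz _).symm⟩, ⟨haS, hwa⟩, ⟨hbS, hwb⟩,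
        ⟨mul_mem hbS haS, hwb.mul_left hwa⟩]
  have hLmem : ∀ {s : Ct}, s ∈ (Sc : Subgroup Ct) → π s ∈ L := fun hs =>
    h.mem_of_two (by rw [← map_pow, hSsq _ hs, map_one])
  have hLord : ∀ {s : Ct} (hs : s ∈ (Sc : Subgroup Ct)), π s ≠ 1 → orderOf (⟨π s, hLmem hs⟩ : L) = 2 :=
    fun {s} hs hs1 => orderOf_eq_prime
      (Subtype.ext (show π s ^ 2 = 1 by rw [← map_pow, hSsq _ hs, map_one]))
      fun e => hs1 (congrArg Subtype.val e)
  -- they are not all of `V`
  have hne : F a ≠ V := by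
    intro hFV
    obtain ⟨g, hg⟩ := isConj_iff.1 (h.lfacts.conj _ _ (hLord haS ha1) (hLord hbS hb1))
    obtain ⟨n, hn, hnπ⟩ := hNs (g : X)
    set k := b⁻¹ * (n * a * n⁻¹) with hk
    have hk1 : π k = 1 := by
      rw [hk, map_mul, map_mul, map_mul, map_inv, map_inv, hnπ,
        show (g : X) * π a * (g : X)⁻¹ = π b from congrArg Subtype.val hg, inv_mul_cancel]
    have hkinv : ∀ v ∈ V, k * v * k⁻¹ = v⁻¹ := by
      intro v hv
      have h1 : n⁻¹ * v * n ∈ V := by simpa using hVN _ (inv_mem hn) v hv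
      rw [← hFV] at h1
      have h2 : a * (n⁻¹ * v * n) * a⁻¹ = n⁻¹ * v * n := by
        rw [← mem_centralizer_singleton_iff.1 h1.2, mul_inv_cancel_right]
      calc k * v * k⁻¹ = b⁻¹ * (n * (a * (n⁻¹ * v * n) * a⁻¹) * n⁻¹) * b := by rw [hk]; group
        _ = b⁻¹ * v * b := by rw [h2]; group
        _ = b * v * b⁻¹ := by rw [inv_eq_of_mul_eq_one_right (hSmul b hbS)]
        _ = v⁻¹ := hbinv v (hFV ▸ hv)
    obtain ⟨w, hw, hwinv⟩ : ∃ w ∈ W, ∀ v ∈ V, w * v * w⁻¹ = v⁻¹ := by
      rcases h.ker k hk1 with e | e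
      · exact ⟨k, e, hkinv⟩
      · refine ⟨_, e, fun v hv => ?_⟩
        rw [show k * tC * v * (k * tC)⁻¹ = k * (tC * v * tC⁻¹) * k⁻¹ by group, ← htz v,
          mul_inv_cancel_right, hkinv v hv]
    obtain ⟨m, hm⟩ : Odd (orderOf w) := hWodd.of_dvd_nat (W.orderOf_dvd_natCard hw)
    obtain ⟨v, hv, hv1⟩ := hVne
    have h2 : Commute (w ^ 2) v := by
      refine mul_inv_eq_iff_eq_mul.1 ?_
      rw [pow_two, show w * w * v * (w * w)⁻¹ = w * (w * v * w⁻¹) * w⁻¹ by group, hwinv v hv,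
        show w * v⁻¹ * w⁻¹ = (w * v * w⁻¹)⁻¹ by group, hwinv v hv, inv_inv]
    have h3 : Commute w v := by
      have h4 : w = (w ^ 2) ^ (m + 1) := by
        rw [← pow_mul, show 2 * (m + 1) = orderOf w + 1 by omega, pow_succ, pow_orderOf_eq_one, one_mul]
      rw [h4]
      exact h2.pow_left _
    refine hv1 (hVodd v hv ?_)
    rw [← hwinv v hv, h3.eq, mul_inv_cancel_right]
  obtain ⟨v₁, hv₁, hv₁1⟩ : ∃ v ∈ F a, v ≠ 1 := (bot_or_exists_ne_one (F a)).resolve_left hFa
  -- an element of order `r` of `L` commuting with an involution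
  obtain ⟨l₁, hl₁, hl₁a⟩ : ∃ c : L, orderOf c = r ∧ Commute c ⟨π a, hLmem haS⟩ := by
    set K := ((Sc : Subgroup Ct) ⊓ centralizer ({v₁} : Set Ct)).map (Subgroup.subtype Ct) with hK
    have hK4 : 4 ∣ Nat.card K := by
      have hK3 : 3 ≤ Nat.card ((Sc : Subgroup Ct) ⊓ centralizer ({v₁} : Set Ct) : Subgroup Ct) := by
        have hcard : ({1, tC, a} : Finset Ct).card = 3 := by
          rw [Finset.card_insert_of_notMem, Finset.card_pair]
          · intro e; exact ha1 (by rw [← e]; exact h.self)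
          · simp only [Finset.mem_insert, Finset.mem_singleton, not_or]
            refine ⟨fun e => ?_, fun e => ha1 (by rw [← e, map_one])⟩
            have h1 : t = 1 := (congrArg Subtype.val e).symm
            rw [h1, orderOf_one] at ht
            omega
        rw [← hcard, ← Nat.card_eq_finsetCard]
        refine Nat.card_le_card_of_injective (fun e : ({1, tC, a} : Finset Ct) => (⟨e.1, ?_⟩ :
          ((Sc : Subgroup Ct) ⊓ centralizer ({v₁} : Set Ct) : Subgroup Ct)))
          fun e e' h' => Subtype.ext (congrArg Subtype.val h' :)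
        have := e.2
        simp only [Finset.mem_insert, Finset.mem_singleton] at this
        rcases this with e1 | e1 | e1 <;> rw [e1]
        exacts [one_mem _, ⟨htS, mem_centralizer_singleton_iff.2 (htz v₁).symm⟩,
          ⟨haS, mem_centralizer_singleton_iff.2 (mem_centralizer_singleton_iff.1 hv₁.2).symm⟩]
      rw [hK, card_map_of_injective (Subgroup.subtype_injective Ct)]
      obtain ⟨j, -, hj⟩ := (Nat.dvd_prime_pow Nat.prime_two).1 (show Nat.card ((Sc : Subgroup Ct) ⊓ centralizer ({v₁} : Set Ct) : Subgroup Ct) ∣ 2 ^ 3 by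
        have := card_dvd_of_le (inf_le_left :
          (Sc : Subgroup Ct) ⊓ centralizer ({v₁} : Set Ct) ≤ (Sc : Subgroup Ct))
        rwa [hScard] at this)
      rw [hj] at hK3 ⊢
      rw [show 4 = 2 ^ 2 by norm_num]
      refine pow_dvd_pow 2 ?_
      by_contra hlt
      interval_cases j <;> omega
    have hy4 : 4 ∣ Nat.card (centralizer ({(y : G)} : Set G)) := by
      rw [hA.cyc.card_centralizer_eq hr (show orderOf (y : G) = r by rw [Subgroup.orderOf_coe, hyo])
        (show orderOf (v₁ : G) = r by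
          rw [Subgroup.orderOf_coe]; exact orderOf_eq_prime (hVexp v₁ hv₁.1) hv₁1)]
      refine hK4.trans (card_dvd_of_le ?_)
      rintro _ ⟨z, hz, rfl⟩
      exact mem_centralizer_singleton_iff.2 (congrArg Subtype.val (mem_centralizer_singleton_iff.1 hz.2) :)
    obtain ⟨u, hu2, hu1, huL, huy⟩ := h.exists_invol_centralizing hS ht (U := zpowers (y : G))
      (by rw [← centralizer_singleton_eq]; exact
        mem_centralizer_singleton_iff.2 (mem_centralizer_singleton_iff.1 y.2).symm)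
      (by rw [← centralizer_singleton_eq]; exact hy4)
    rw [← centralizer_singleton_eq, mem_centralizer_singleton_iff] at huy
    have hcom : Commute (⟨π y, hy1.2⟩ : L) ⟨π u, huL⟩ := Subtype.ext
      ((show Commute y u from Subtype.ext huy.symm).map π).eq
    obtain ⟨g, hg⟩ := isConj_iff.1 (h.lfacts.conj (⟨π u, huL⟩ : L) ⟨π a, hLmem haS⟩
      (orderOf_eq_prime (Subtype.ext (show π u ^ 2 = 1 by rw [← map_pow, hu2, map_one]))
        fun e => hu1 (congrArg Subtype.val e)) (hLord haS ha1))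
    refine ⟨MulAut.conj g ⟨π y, hy1.2⟩, ?_, ?_⟩
    · rw [MulEquiv.orderOf_eq]
      exact orderOf_eq_prime (Subtype.ext (show π y ^ r = 1 by
        rw [← map_pow, ← hyo, pow_orderOf_eq_one, map_one])) fun e => hy1.1 (congrArg Subtype.val e)
    · have := hcom.map (MulAut.conj g).toMonoidHom
      rwa [show (MulAut.conj g).toMonoidHom (⟨π u, huL⟩ : L) = ⟨π a, hLmem haS⟩ from hg] at this
  have haN : a ∈ N := hRinv haS
  have hbN : b ∈ N := hRinv hbS
  -- a lift of it centralized by `a`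
  obtain ⟨z, hzN, hza, hzo, hz1, hzc⟩ : ∃ z : Ct, z ∈ N ∧ Commute a z ∧ orderOf z = r ∧ π z ≠ 1 ∧
      π z ∈ zpowers (l₁ : X) := by
    have hl₁o : orderOf (l₁ : X) = r := by rw [Subgroup.orderOf_coe, hl₁]
    obtain ⟨c₀, hc₀, hc₀π⟩ := hNs (l₁ : X)
    have hc₀r : c₀ ^ (2 * r) ∈ W := by
      rw [mul_comm, pow_mul]
      exact hsqW _ (by rw [map_pow, hc₀π, ← hl₁o, pow_orderOf_eq_one])
    set c₁ := c₀ ^ 2 with hc₁
    have hπc₁ : π c₁ = (l₁ : X) ^ 2 := by rw [hc₁, map_pow, hc₀π]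
    have hcom : Commute (l₁ : X) (π a) := congrArg Subtype.val hl₁a.eq
    set k := c₁⁻¹ * (a * c₁ * a⁻¹) with hk
    have hkπ : π k = 1 := by
      rw [hk, map_mul, map_mul, map_mul, map_inv, map_inv, hπc₁, ← (hcom.pow_left 2).eq,
        mul_inv_cancel_right, inv_mul_cancel]
    have hkW : k ∈ W := by
      rcases h.ker k hkπ with e | e
      · exact e
      exfalso
      set ψ := QuotientGroup.mk' W with hψ
      have hψk : ψ k = (ψ tC)⁻¹ := eq_inv_of_mul_eq_one_left (by
        rw [← map_mul]; exact (QuotientGroup.eq_one_iff _).2 e)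
      have hc₁r : ψ c₁ ^ r = 1 := by
        rw [← map_pow, hc₁, ← pow_mul]; exact (QuotientGroup.eq_one_iff _).2 hc₀r
      have h1 : (ψ a * ψ c₁ * (ψ a)⁻¹) ^ r = 1 := by
        rw [conj_pow, hc₁r, mul_one, mul_inv_cancel]
      have h2 : ψ a * ψ c₁ * (ψ a)⁻¹ = ψ c₁ * (ψ tC)⁻¹ := by
        rw [← hψk, hk]
        simp only [map_mul, map_inv]
        group
      have hct : Commute (ψ c₁) (ψ tC) := (show Commute c₁ tC from htz c₁).map ψ
      rw [h2, hct.inv_right.mul_pow, hc₁r, one_mul, inv_pow, inv_eq_one] at h1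
      obtain ⟨m, hm⟩ := hrodd
      rw [hm, pow_succ, pow_mul, ← map_pow ψ tC 2, htC2, map_one, one_pow, one_mul] at h1
      have h3 := W.orderOf_dvd_natCard ((QuotientGroup.eq_one_iff tC).1 h1)
      rw [← Subgroup.orderOf_coe, ht] at h3
      exact Nat.not_even_iff_odd.2 hWodd (even_iff_two_dvd.2 h3)
    obtain ⟨m, hm⟩ : Odd (orderOf k) := hWodd.of_dvd_nat (W.orderOf_dvd_natCard hkW)
    have hak : a * k * a⁻¹ = k⁻¹ := by
      have haa : a⁻¹ = a := inv_eq_of_mul_eq_one_right (hSmul a haS)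
      calc a * k * a⁻¹ = a * c₁⁻¹ * a⁻¹ * (a * a * c₁ * (a⁻¹ * a⁻¹)) := by rw [hk]; group
        _ = a * c₁⁻¹ * a⁻¹ * c₁ := by rw [haa, hSmul a haS, one_mul, mul_one]
        _ = k⁻¹ := by rw [hk]; group
    set z₀ := c₁ * k ^ (m + 1) with hz₀
    have hz₀a : Commute a z₀ := by
      refine mul_inv_eq_iff_eq_mul.1 ?_
      calc a * z₀ * a⁻¹ = (a * c₁ * a⁻¹) * (a * k * a⁻¹) ^ (m + 1) := by rw [hz₀, conj_pow]; group
        _ = c₁ * (k * (k⁻¹) ^ (m + 1)) := by
          rw [hak, show a * c₁ * a⁻¹ = c₁ * k by rw [hk, mul_inv_cancel_left], mul_assoc]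
        _ = c₁ * k ^ (m + 1) := by
          congr 1
          rw [inv_pow, mul_inv_eq_iff_eq_mul, ← pow_add,
            show m + 1 + (m + 1) = orderOf k + 1 by omega, pow_succ, pow_orderOf_eq_one, one_mul]
    have hkN : k ∈ N := mul_mem (inv_mem (pow_mem hc₀ 2)) (mul_mem (mul_mem haN (pow_mem hc₀ 2)) (inv_mem haN))
    have hπz₀ : π z₀ = (l₁ : X) ^ 2 := by rw [hz₀, map_mul, hπc₁, map_pow π k, hkπ, one_pow, mul_one]
    obtain ⟨j, hj, hj1⟩ := hpow z₀ (by
      rw [hπz₀, Nat.Coprime.orderOf_pow (by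
        rw [hl₁o]; exact (Nat.coprime_primes hr Nat.prime_two).2 hr2), hl₁o])
    exact ⟨z₀ ^ j, pow_mem (mul_mem (pow_mem hc₀ 2) (pow_mem hkN _)) j, hz₀a.pow_right j, hj, hj1,
      by rw [map_pow, hπz₀]; exact pow_mem (pow_mem (mem_zpowers _) 2) j⟩
  have hzL : π z ∈ L := (zpowers_le.2 l₁.2) hzc
  -- it centralizes the fixed points of `a`
  have hzF : ∀ v ∈ F a, Commute z v := by
    intro v hv
    have hba : π b * π z * (π b)⁻¹ = (π z)⁻¹ := by
      have h1 := hdih (⟨π a, hLmem haS⟩ : L) ⟨π b, hLmem hbS⟩ ⟨π z, hzL⟩ (hLord haS ha1) (hLord hbS hb1)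
        (Subtype.ext ((show Commute b a from hScomm b hbS a haS).map π).eq)
        (fun e => hab (congrArg Subtype.val e).symm)
        (by
          rw [← Subgroup.orderOf_coe]
          exact hrodd.of_dvd_nat (hzo ▸ orderOf_map_dvd π z))
        (Subtype.ext (hza.map π).symm.eq)
      exact congrArg Subtype.val h1
    set d := b * z * b⁻¹ * z with hd
    have hdπ : π d = 1 := by rw [hd, map_mul, map_mul, map_mul, map_inv, hba, inv_mul_cancel]
    have hdN : d ^ 2 ∈ N := pow_mem (mul_mem (mul_mem (mul_mem hbN hzN) (inv_mem hbN)) hzN) 2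
    have hzmem : ∀ {w}, w ∈ F a → z * w * z⁻¹ ∈ F a := fun {w} hw =>
      ⟨hVN z hzN w hw.1, mem_centralizer_singleton_iff.2
        ((hza.mul_right ((mem_centralizer_singleton_iff.1 hw.2).symm : Commute a w)).mul_right
          hza.inv_right).symm.eq⟩
    have hdact : ∀ w ∈ F a, d * w * d⁻¹ = z ^ 2 * w * (z ^ 2)⁻¹ := by
      intro w hw
      have h1 := hzmem hw
      calc d * w * d⁻¹ = b * (z * (b⁻¹ * (z * w * z⁻¹) * b) * z⁻¹) * b⁻¹ := by rw [hd]; group
        _ = b * (z * (z * w * z⁻¹)⁻¹ * z⁻¹) * b⁻¹ := by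
          have h3 := hbinv _ h1
          have hb' : b⁻¹ = b := inv_eq_of_mul_eq_one_right (hSmul b hbS)
          rw [hb'] at h3
          rw [show b⁻¹ * (z * w * z⁻¹) * b = (z * w * z⁻¹)⁻¹ by rw [hb']; exact h3]
        _ = (b * (z * (z * w * z⁻¹) * z⁻¹) * b⁻¹)⁻¹ := by simp [mul_assoc]
        _ = _ := by rw [hbinv _ (hzmem h1), inv_inv, pow_two]; group
    -- iterate
    have hiter : ∀ n : ℕ, d ^ n * v * (d ^ n)⁻¹ = z ^ (2 * n) * v * (z ^ (2 * n))⁻¹ := by
      intro n
      induction n with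
      | zero => simp
      | succ n ih =>
        have hmem : z ^ (2 * n) * v * (z ^ (2 * n))⁻¹ ∈ F a := by
          clear ih
          generalize 2 * n = e
          induction e with
          | zero => simpa using hv
          | succ e ihe =>
            have := hzmem ihe
            rwa [pow_succ', show z * z ^ e * v * (z * z ^ e)⁻¹ = z * (z ^ e * v * (z ^ e)⁻¹) * z⁻¹ by group]
        calc d ^ (n + 1) * v * (d ^ (n + 1))⁻¹ = d * (d ^ n * v * (d ^ n)⁻¹) * d⁻¹ := by
              rw [pow_succ']; group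
          _ = z ^ 2 * (z ^ (2 * n) * v * (z ^ (2 * n))⁻¹) * (z ^ 2)⁻¹ := by rw [ih, hdact _ hmem]
          _ = _ := by rw [show 2 * (n + 1) = 2 + 2 * n by omega, pow_add]; group
    set o := orderOf (d ^ 2) with ho
    set m := o / r ^ o.factorization r with hm
    have hmr : ¬ r ∣ m := Nat.not_dvd_ordCompl hr (orderOf_pos _).ne'
    set w := (d ^ 2) ^ m with hw
    have hwW : w ∈ W := pow_mem (hsqW d hdπ) m
    have hwR : w ∈ R₀ := by
      set w' : W := ⟨w, hwW⟩ with hw'
      have hwk : w' ^ r ^ o.factorization r = 1 := Subtype.ext (by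
        show w ^ r ^ o.factorization r = 1
        rw [hw, ← pow_mul, hm, Nat.div_mul_cancel (Nat.ordProj_dvd o r), pow_orderOf_eq_one])
      have hn : zpowers w' ≤ normalizer ((R : Subgroup W) : Set W) :=
        zpowers_le.2 (EqualOrderConj.mem_normalizer_of_conj_mem fun s hs => by
          obtain ⟨s', hs', hse⟩ := (mem_normalizer_iff.1 (pow_mem hdN m) (s : Ct)).1 ⟨s, hs, rfl⟩
          rwa [show w' * s * w'⁻¹ = s' from Subtype.ext hse.symm])
      have hp' : IsPGroup r (zpowers w') := by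
        obtain ⟨j, -, hj⟩ := (Nat.dvd_prime_pow hr).1 (orderOf_dvd_of_pow_eq_one hwk)
        exact IsPGroup.of_card (n := j) (by rw [Nat.card_zpowers, hj])
      have h1 := hp'.to_sup_of_normal_right' R.2 hn
      refine ⟨w', ?_, rfl⟩
      rw [SetLike.mem_coe, ← R.3 h1 le_sup_right]
      exact mem_sup_left (mem_zpowers w')
    have h4 : Commute (z ^ (2 * (2 * m))) v := by
      refine mul_inv_eq_iff_eq_mul.1 ?_
      rw [← hiter, pow_mul d 2 m, ← hw, mem_centralizer_iff.1 hv.1.2 w hwR, mul_inv_cancel_right]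
    have hcop : (2 * (2 * m)).Coprime r :=
      ((Nat.coprime_primes Nat.prime_two hr).2 hr2.symm).mul_left
        (((Nat.coprime_primes Nat.prime_two hr).2 hr2.symm).mul_left
          ((hr.coprime_iff_not_dvd.2 hmr).symm))
    obtain ⟨j, hj⟩ := exists_pow_eq_self_of_coprime (x := z) (hzo.symm ▸ hcop)
    rw [← hj]
    exact h4.pow_left j
  -- an abelian subgroup of order `r |F a|` centralized by a four-group
  obtain ⟨d, hd⟩ := (hVp.to_le (inf_le_left : F a ≤ V)).exists_card_eq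
  have hzG : (z : G) ∉ (F a).map (Subgroup.subtype Ct) := by
    rintro ⟨w, hw, hwz⟩
    exact hz1 (by rw [← show w = z from Subtype.ext hwz]; exact h.core (hVW hw.1))
  set A₀ := F a ⊔ zpowers z with hA₀
  have hzn : zpowers z ≤ normalizer (F a : Set Ct) :=
    zpowers_le.2 (EqualOrderConj.mem_normalizer_of_conj_mem fun w hw => by
      rw [(hzF w hw).eq, mul_inv_cancel_right]; exact hw)
  have hA₀p : IsPGroup r A₀ := by
    rw [hA₀, sup_comm]
    exact (IsPGroup.of_card (n := 1) (G := zpowers z) (by rw [Nat.card_zpowers, hzo, pow_one]))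
      |>.to_sup_of_normal_right' (hVp.to_le inf_le_left) hzn
  have hA₀c : ∀ x ∈ A₀, ∀ x' ∈ A₀, x * x' = x' * x := by
    intro x hx x' hx'
    have hle : A₀ ≤ centralizer (A₀ : Set Ct) := by
      refine sup_le ?_ ?_
      · rw [le_centralizer_iff]
        refine sup_le (fun w hw => mem_centralizer_iff.2 fun w' hw' => hVcomm w' hw'.1 w hw.1) ?_
        exact zpowers_le.2 (mem_centralizer_iff.2 fun w' hw' => (hzF w' hw').symm.eq)
      · rw [zpowers_le, mem_centralizer_iff]
        intro w hw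
        have hwz : A₀ ≤ centralizer ({z} : Set Ct) := sup_le
          (fun w' hw' => mem_centralizer_singleton_iff.2 (hzF w' hw').symm.eq)
          (zpowers_le.2 (mem_centralizer_singleton_iff.2 rfl))
        exact mem_centralizer_singleton_iff.1 (hwz hw)
    exact (mem_centralizer_iff.1 (hle hx) x' hx').symm
  have hA₀card : r ^ (d + 1) ∣ Nat.card A₀ := by
    obtain ⟨j, hj⟩ := hA₀p.exists_card_eq
    rw [hj]
    refine pow_dvd_pow r ?_
    by_contra hlt
    have h1 : F a = A₀ := eq_of_le_of_card_ge le_sup_left (by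
      rw [hj, hd]; exact Nat.pow_le_pow_right hr.pos (by omega))
    exact hzG ⟨z, h1 ▸ mem_sup_right (mem_zpowers z), rfl⟩
  obtain ⟨A₁, hA₁⟩ := Sylow.exists_subgroup_card_pow_prime r hA₀card
  have hVcard : r ^ (d + 1) ∣ Nat.card V := by
    obtain ⟨j, hj⟩ := hVp.exists_card_eq
    rw [hj]
    refine pow_dvd_pow r ?_
    by_contra hlt
    exact hne (eq_of_le_of_card_ge inf_le_left (by
      rw [hj, hd]; exact Nat.pow_le_pow_right hr.pos (by omega)))
  obtain ⟨U₁, hU₁⟩ := Sylow.exists_subgroup_card_pow_prime r hVcard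
  set A' := (A₁.map A₀.subtype).map (Subgroup.subtype Ct) with hA'
  set U' := (U₁.map V.subtype).map (Subgroup.subtype Ct) with hU'
  have hA'card : Nat.card A' = r ^ (d + 1) := by
    rw [hA', card_map_of_injective (Subgroup.subtype_injective Ct), card_map_of_injective A₀.subtype_injective, hA₁]
  have hU'card : Nat.card U' = r ^ (d + 1) := by
    rw [hU', card_map_of_injective (Subgroup.subtype_injective Ct), card_map_of_injective V.subtype_injective, hU₁]
  obtain ⟨g, hg⟩ := hA.ab r hr A' U' (IsPGroup.of_card hA'card) (IsPGroup.of_card hU'card)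
    (by
      rintro _ ⟨x, hx, rfl⟩ _ ⟨x', hx', rfl⟩
      rw [← map_mul, ← map_mul, hA₀c _ (map_subtype_le _ hx) _ (map_subtype_le _ hx')])
    (by
      rintro _ ⟨x, hx, rfl⟩ _ ⟨x', hx', rfl⟩
      rw [← map_mul, ← map_mul, hVcomm _ (map_subtype_le _ hx) _ (map_subtype_le _ hx')])
    (hA'card.trans hU'card.symm)
  have hA4 : 4 ∣ Nat.card (centralizer (A' : Set G)) := by
    set Q : Subgroup Ct := closure ({tC, a} : Set Ct) with hQ
    have hQS : Q ≤ (Sc : Subgroup Ct) := (closure_le _).2 (by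
      rintro x (rfl | rfl)
      exacts [htS, haS])
    have hQA : Q.map (Subgroup.subtype Ct) ≤ centralizer (A' : Set G) := by
      rw [map_le_iff_le_comap, closure_le]
      intro x hx
      refine mem_centralizer_iff.2 ?_
      rintro _ ⟨w, hw, rfl⟩
      have hwA : w ∈ A₀ := map_subtype_le _ hw
      have hax : A₀ ≤ centralizer ({x} : Set Ct) := sup_le
        (fun w' hw' => mem_centralizer_singleton_iff.2 (by
          rcases hx with rfl | rfl
          exacts [htz w', mem_centralizer_singleton_iff.1 hw'.2]))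
        (zpowers_le.2 (mem_centralizer_singleton_iff.2 (by
          rcases hx with rfl | rfl
          exacts [htz z, hza.symm.eq])))
      exact congrArg Subtype.val (mem_centralizer_singleton_iff.1 (hax hwA))
    refine dvd_trans ?_ (card_dvd_of_le hQA)
    rw [card_map_of_injective (Subgroup.subtype_injective Ct)]
    have hQ8 : Nat.card Q ∣ 2 ^ 3 := by
      have := card_dvd_of_le hQS
      rwa [hScard] at this
    obtain ⟨j, -, hj⟩ := (Nat.dvd_prime_pow Nat.prime_two).1 hQ8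
    have h3 : 3 ≤ Nat.card Q := by
      have hcard : ({1, tC, a} : Finset Ct).card = 3 := by
        rw [Finset.card_insert_of_notMem, Finset.card_pair]
        · intro e; exact ha1 (by rw [← e]; exact h.self)
        · simp only [Finset.mem_insert, Finset.mem_singleton, not_or]
          refine ⟨fun e => ?_, fun e => ha1 (by rw [← e, map_one])⟩
          have h1 : t = 1 := (congrArg Subtype.val e).symm
          rw [h1, orderOf_one] at ht
          omega
      rw [← hcard, ← Nat.card_eq_finsetCard]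
      refine Nat.card_le_card_of_injective (fun e : ({1, tC, a} : Finset Ct) => (⟨e.1, ?_⟩ : Q))
        fun e e' h' => Subtype.ext (congrArg Subtype.val h' :)
      have := e.2
      simp only [Finset.mem_insert, Finset.mem_singleton] at this
      rcases this with e1 | e1 | e1 <;> rw [e1]
      exacts [one_mem _, subset_closure (by simp), subset_closure (by simp)]
    rw [hj] at h3 ⊢
    rw [show 4 = 2 ^ 2 by norm_num]
    refine pow_dvd_pow 2 ?_
    by_contra hlt
    interval_cases j <;> omega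
  have hU4 : 4 ∣ Nat.card (centralizer (U' : Set G)) := by
    rw [hg]
    refine hA4.trans ?_
    rw [← card_map_of_injective (f := (MulAut.conj g).toMonoidHom) (MulAut.conj g).injective
      (K := centralizer (A' : Set G))]
    exact card_dvd_of_le (map_centralizer_le_centralizer_image _ _)
  have htU : t ∈ centralizer (U' : Set G) := by
    refine mem_centralizer_iff.2 ?_
    rintro _ ⟨w, -, rfl⟩
    exact mem_centralizer_singleton_iff.1 w.2
  obtain ⟨u, hu2, hu1, huL, huU⟩ := h.exists_invol_centralizing hS ht htU hU4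
  -- move it into the normalizer of `R₀`
  set K := W ⊓ centralizer ((U₁.map V.subtype : Subgroup Ct) : Set Ct) with hK
  have huC : ∀ w ∈ U₁.map V.subtype, w * u = u * w := fun w hw =>
    Subtype.ext (mem_centralizer_iff.1 huU (w : G) ⟨w, hw, rfl⟩)
  have huC' : u ∈ centralizer ((U₁.map V.subtype : Subgroup Ct) : Set Ct) := mem_centralizer_iff.2 huC
  have huK : zpowers u ≤ normalizer (K : Set Ct) :=
    zpowers_le.2 (EqualOrderConj.mem_normalizer_of_conj_mem fun w hw =>
      ⟨(inferInstance : W.Normal).conj_mem w hw.1 u, (Subgroup.mul_mem _ (Subgroup.mul_mem _ huC' hw.2) (Subgroup.inv_mem _ huC') :)⟩)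
  obtain ⟨P₁, hP₁⟩ := Coprime.exists_invariant_sylow (A := zpowers u) (K := K) r huK
    (Nat.Coprime.coprime_dvd_right (card_dvd_of_le inf_le_left) (Nat.coprime_comm.1
      (Nat.Coprime.coprime_dvd_right (by
        rw [Nat.card_zpowers]; exact orderOf_dvd_of_pow_eq_one hu2) (Nat.coprime_two_right.2 hWodd))))
    (Or.inl (Group.isSolvable_of_comm fun x x' => mul_comm' x x'))
  have hRK : R₀ ≤ K := fun s hs => ⟨map_subtype_le _ hs, mem_centralizer_iff.2 fun w hw =>
    (mem_centralizer_iff.1 (map_subtype_le _ hw : w ∈ V).2 s hs).symm⟩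
  obtain ⟨P₂, hP₂⟩ := (hR₀p.comap_of_injective K.subtype K.subtype_injective).exists_le_sylow
  have hP₂eq : (P₂ : Subgroup K).map K.subtype = R₀ := by
    refine le_antisymm ?_ (fun s hs => ⟨⟨s, hRK hs⟩, hP₂ hs, rfl⟩)
    have hle : (R : Subgroup W) ≤ ((P₂ : Subgroup K).map K.subtype).comap W.subtype := fun s hs =>
      ⟨⟨s, hRK ⟨s, hs, rfl⟩⟩, hP₂ ⟨s, hs, rfl⟩, rfl⟩
    have h1 := R.3 ((P₂.2.map K.subtype).comap_of_injective W.subtype W.subtype_injective) hle
    intro s hs
    exact ⟨⟨s, (map_subtype_le _ hs : s ∈ K).1⟩, h1.le hs, rfl⟩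
  obtain ⟨k, hk⟩ := MulAction.exists_smul_eq K P₁ P₂
  set u' : Ct := k * u * (k : Ct)⁻¹ with hu'
  have hu'2 : u' ^ 2 = 1 := by rw [hu', conj_pow, hu2, mul_one, mul_inv_cancel]
  have hu'π : π u' = π u := by
    rw [hu', map_mul, map_mul, map_inv, show π (k : Ct) = 1 from h.core k.2.1, one_mul, inv_one, mul_one]
  have hu'U : ∀ w ∈ U₁.map V.subtype, w * u' = u' * w := fun w hw =>
    mem_centralizer_iff.1 (mul_mem (mul_mem k.2.2 (mem_centralizer_iff.2 huC)) (inv_mem k.2.2) :
      u' ∈ centralizer ((U₁.map V.subtype : Subgroup Ct) : Set Ct)) w hw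
  have hu'N : u' ∈ N := by
    refine EqualOrderConj.mem_normalizer_of_conj_mem fun s hs => ?_
    rw [← hP₂eq, ← hk] at hs ⊢
    obtain ⟨s', hs', rfl⟩ := hs
    have hs1 := Transfer.Fusion.mem_smul_sylow_iff.1 hs'
    obtain ⟨s'', hs'', hse⟩ := (mem_normalizer_iff.1 (hP₁ (mem_zpowers u)) _).1
      (⟨_, hs1, rfl⟩ : K.subtype (k⁻¹ * s' * k) ∈ (P₁ : Subgroup K).map K.subtype)
    refine ⟨k * s'' * k⁻¹, Transfer.Fusion.mem_smul_sylow_iff.2 (by simpa [mul_assoc] using hs''), ?_⟩
    simp only [Subgroup.subtype_apply, Subgroup.coe_mul, InvMemClass.coe_inv] at hse ⊢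
    rw [hse, hu']
    group
  -- conjugate it into the Sylow subgroup
  have hSN : (Sc : Subgroup Ct) ≤ N := fun s hs => hRinv hs
  obtain ⟨Q, hQ⟩ := (IsPGroup.of_card (p := 2) (n := 1) (G := zpowers (⟨u', hu'N⟩ : N)) (by
    rw [Nat.card_zpowers, ← Subgroup.orderOf_coe, pow_one]
    exact orderOf_eq_prime hu'2 fun e => hu1 (by rw [← hu'π]; show π u' = 1; rw [show u' = 1 from e, map_one])
    )).exists_le_sylow
  obtain ⟨n, hn⟩ := MulAction.exists_smul_eq N (Sc.subtype hSN) Q
  have hs : ((n : Ct)⁻¹ * u' * n) ∈ (Sc : Subgroup Ct) := by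
    have h1 : (⟨u', hu'N⟩ : N) ∈ n • Sc.subtype hSN := by rw [hn]; exact hQ (mem_zpowers _)
    exact (Transfer.Fusion.mem_smul_sylow_iff.1 h1 :)
  have hsπ : π ((n : Ct)⁻¹ * u' * n) ≠ 1 := by
    intro e
    rw [map_mul, map_mul, map_inv, hu'π] at e
    rw [mul_assoc, inv_mul_eq_one] at e
    exact hu1 (mul_eq_right.1 e.symm)
  have h1 := hamax _ ⟨hs, hsπ⟩
  have h2 : (U₁.map V.subtype).map (MulAut.conj (n : Ct)⁻¹).toMonoidHom ≤ F ((n : Ct)⁻¹ * u' * n) := by
    rintro _ ⟨w, hw, rfl⟩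
    refine ⟨?_, mem_centralizer_singleton_iff.2 ?_⟩
    · show (n : Ct)⁻¹ * w * ((n : Ct)⁻¹)⁻¹ ∈ V
      exact hVN _ (inv_mem n.2) w (map_subtype_le _ hw)
    · show (n : Ct)⁻¹ * w * ((n : Ct)⁻¹)⁻¹ * ((n : Ct)⁻¹ * u' * n) =
        (n : Ct)⁻¹ * u' * n * ((n : Ct)⁻¹ * w * ((n : Ct)⁻¹)⁻¹)
      calc _ = (n : Ct)⁻¹ * (w * u') * n := by group
        _ = (n : Ct)⁻¹ * (u' * w) * n := by rw [hu'U w hw]
        _ = _ := by group
  have h3 := (Nat.le_of_dvd Nat.card_pos (card_dvd_of_le h2)).trans h1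
  rw [card_map_of_injective (MulAut.conj (n : Ct)⁻¹).injective, card_map_of_injective V.subtype_injective,
    hU₁, hd] at h3
  exact absurd h3 (not_le.2 (Nat.pow_lt_pow_right hr.one_lt (Nat.lt_succ_self d)))

end Cfsg.Agent.EqConjOdd
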