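import Cfsg.Agent.Lib.EqConjOdd.Component
import Cfsg.Agent.Lib.EqConjOdd.CoreExp
import Cfsg.Agent.Lib.SEAbelian.ReduceSignalizer
import Cfsg.Agent.Lib.Coprime.Sylow

/-!
# The shape of an insoluble centralizer of an involution

It is the semidirect product of its odd core with `2 × PSL₂(q)`, where `q = p` or `q = p³`.
-/

set_option autoImplicit false
set_option linter.style.haveILetI false
set_option linter.unusedSectionVars false

namespace Cfsg.Agent.EqConjOdd

open Subgroup
open scoped commutatorElement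

universe u v

variable {G : Type u} [Group G] [Finite G]

/-- No involution of `PSL₂(q)` commutes with an element of order `p`. -/
theorem LFacts.not_commute_p {X : Type v} [Group X] [Finite X] {q p : ℕ} [hp : Fact p.Prime]
    (h : LFacts X q p) (hp2 : p ≠ 2) {a x : X} (ha : orderOf a = 2) (hx : orderOf x = p) :
    ¬ Commute a x := by
  obtain ⟨U, hU, hexp, hcomm, hcen, -, -⟩ := h.unipotent
  have hUp : IsPGroup p U := fun g => ⟨1, Subtype.ext (by rw [pow_one]; exact hexp g g.2)⟩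
  have hU1 : ∃ u ∈ U, u ≠ 1 := by
    by_contra hh
    push Not at hh
    rw [show U = ⊥ from (eq_bot_iff_forall U).2 hh, Subgroup.card_bot] at hU
    have := h.three_lt
    omega
  obtain ⟨u, huU, hu1⟩ := hU1
  obtain ⟨T, hT⟩ := hUp.exists_le_sylow
  haveI : Nontrivial (T : Subgroup X) :=
    ⟨⟨⟨u, hT huU⟩, 1, fun e => hu1 (congrArg Subtype.val e)⟩⟩
  haveI := T.2.center_nontrivial
  obtain ⟨⟨⟨z, hzT⟩, hzc⟩, hz1⟩ := exists_ne (1 : center (T : Subgroup X))
  have hzne : z ≠ 1 := fun e => hz1 (Subtype.ext (Subtype.ext e))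
  have hzU : z ∈ U := hcen u huU hu1 z
    (congrArg Subtype.val (mem_center_iff.1 hzc ⟨u, hT huU⟩)).symm
  have hTU : (T : Subgroup X) ≤ U := fun g hg => hcen z hzU hzne g
    (congrArg Subtype.val (mem_center_iff.1 hzc ⟨g, hg⟩))
  intro hcom
  obtain ⟨P, hP⟩ := (IsPGroup.of_card (n := 1) (G := zpowers x)
    (by rw [Nat.card_zpowers, hx, pow_one])).exists_le_sylow
  obtain ⟨g, rfl⟩ := MulAction.exists_smul_eq X T P
  have hx' : g⁻¹ * x * g ∈ U := hTU (Transfer.Fusion.mem_smul_sylow_iff.1 (hP (mem_zpowers x)))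
  have hx1 : g⁻¹ * x * g ≠ 1 := fun e => by
    have e1 : x = 1 := by
      have := congrArg (fun w => g * w * g⁻¹) e
      simpa [mul_assoc] using this
    rw [e1, orderOf_one] at hx
    exact hp.out.one_lt.ne hx
  have haU : g⁻¹ * a * g ∈ U := hcen _ hx' hx1 _ (by
    show g⁻¹ * a * g * (g⁻¹ * x * g) = g⁻¹ * x * g * (g⁻¹ * a * g)
    calc g⁻¹ * a * g * (g⁻¹ * x * g) = g⁻¹ * (a * x) * g := by group
      _ = g⁻¹ * (x * a) * g := by rw [hcom.eq]
      _ = _ := by group)
  have hao : orderOf (g⁻¹ * a * g) = 2 := by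
    rw [show g⁻¹ * a * g = MulAut.conj g⁻¹ a by simp, MulEquiv.orderOf_eq, ha]
  have := orderOf_dvd_of_pow_eq_one (hexp _ haU)
  rw [hao] at this
  exact hp2 ((Nat.prime_dvd_prime_iff_eq Nat.prime_two hp.out).1 this).symm

/-- A Sylow subgroup of the preimage of a `p`-subgroup maps onto it. -/
theorem exists_pgroup_lift {C : Type u} [Group C] [Finite C] {X : Type v} [Group X] (π : C →* X)
    (hπ : Function.Surjective π) {p n : ℕ} [hp : Fact p.Prime] (A : Subgroup X)
    (hA : Nat.card A = p ^ n) :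
    ∃ A' : Subgroup C, IsPGroup p A' ∧ A'.map π = A ∧ (¬ p ∣ Nat.card π.ker → Nat.card A' = p ^ n) := by
  obtain ⟨P⟩ : Nonempty (Sylow p (A.comap π)) := inferInstance
  set φ : A.comap π →* A := π.subgroupComap A with hφ
  have hφs : Function.Surjective φ := MonoidHom.subgroupComap_surjective_of_surjective _ _ hπ
  have htop : (P : Subgroup (A.comap π)).map φ = ⊤ := by
    have h1 := P.not_dvd_index
    have h2 : ((P : Subgroup (A.comap π)).map φ).index ∣ p ^ n := hA ▸ index_dvd_card _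
    have h3 := (P : Subgroup (A.comap π)).index_map_dvd hφs
    obtain ⟨j, -, hj⟩ := (Nat.dvd_prime_pow hp.out).1 h2
    refine index_eq_one.1 ?_
    rw [hj] at h3 ⊢
    rcases j with - | j
    · rfl
    · exact absurd ((dvd_pow_self p j.succ_ne_zero).trans h3) h1
  have hmap : ((P : Subgroup (A.comap π)).map (A.comap π).subtype).map π = A := by
    rw [map_map, show π.comp (A.comap π).subtype = A.subtype.comp φ from rfl, ← map_map, htop,
      ← MonoidHom.range_eq_map, range_subtype]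
  refine ⟨_, P.2.map _, hmap, fun hk => ?_⟩
  set A' := (P : Subgroup (A.comap π)).map (A.comap π).subtype with hA'
  set f : A' →* X := π.comp A'.subtype with hf
  have hinj : f.ker = ⊥ := by
    obtain ⟨m, hm⟩ := IsPGroup.exists_card_eq ((P.2.map (A.comap π).subtype).to_subgroup f.ker)
    have h2 : Nat.card f.ker ∣ Nat.card π.ker := by
      rw [← card_map_of_injective (f := A'.subtype) A'.subtype_injective]
      exact card_dvd_of_le fun x hx => by
        obtain ⟨y, hy, rfl⟩ := hx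
        exact hy
    rw [← card_eq_one, hm]
    rcases m with - | m
    · rfl
    · exact absurd ((dvd_pow_self p m.succ_ne_zero).trans (hm ▸ h2)) hk
  rw [← hA, ← hmap]
  have h1 := card_map_of_injective (f := f) ((f.ker_eq_bot_iff).1 hinj) (K := ⊤)
  rw [← MonoidHom.range_eq_map, Subgroup.card_top, hf, MonoidHom.range_comp, range_subtype] at h1
  exact h1.symm

variable {t : G} {X : Type v} [Group X] [Finite X] {L : Subgroup X}
  {π : ↥(centralizer ({t} : Set G)) →* X} {q p : ℕ}

/-- The primes of `|L|` are coprime to the odd core, for either kind of fusion. -/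
theorem Cover.not_dvd_core_fusion (h : Cover t L π q p) (hA : Fusion G) {S : Sylow 2 G} (hS : Eight S)
    (ht : orderOf t = 2) {F : Type} [Field F] [Fintype F]
    (hmod : Fintype.card F % 8 = 3 ∨ Fintype.card F % 8 = 5) (h3 : 3 < Fintype.card F)
    (e : L ≃* Matrix.ProjectiveSpecialLinearGroup (Fin 2) F) :
    ∀ r : ℕ, r.Prime → r ≠ 2 → r ∣ Nat.card L →
      ¬ r ∣ Nat.card (Cfsg.oddCore ↥(centralizer ({t} : Set G))) := by
  intro r hr hr2 hrL
  rcases hA.alt r hr hr2 with hab | hexp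
  · exact h.not_dvd_core2 hA.cyc hS ht hr hr2 hrL hab
  · refine h.not_dvd_core_exp hA hS ht hr hr2 hrL hexp fun a b c ha hb hab hne hc hca => e.injective ?_
    rw [map_mul, map_mul, map_inv, map_inv]
    exact inverts_psl (a := e a) (b := e b) (c := e c) hmod h3 (by rw [e.orderOf_eq, ha]) (by rw [e.orderOf_eq, hb])
      (hab.map e.toMonoidHom) (fun e' => hne (e.injective e')) (by rw [e.orderOf_eq]; exact hc)
      (hca.map e.toMonoidHom)

/-- The involutions centralizing a subgroup with an element over an element of order `p` of `L`. -/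
theorem Cover.exists_conj_self [hp : Fact p.Prime] (h : Cover t L π q p) (hp2 : p ≠ 2) {S : Sylow 2 G}
    (hS : Eight S) (ht : orderOf t = 2) {B : Subgroup G}
    {y : ↥(centralizer ({t} : Set G))} (hyB : (y : G) ∈ B) (hyo : orderOf y = p) (hyL : π y ∈ L)
    (hy1 : π y ≠ 1) (htB : t ∈ centralizer (B : Set G)) {s : G} (hs : orderOf s = 2)
    (hsB : s ∈ centralizer (B : Set G)) :
    ∃ c ∈ centralizer (B : Set G), c * s * c⁻¹ = t := by
  haveI : Fact (Nat.Prime 2) := ⟨Nat.prime_two⟩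
  haveI := h.normal
  set D := centralizer (B : Set G) with hD
  obtain ⟨Pt, hPt⟩ := (IsPGroup.of_card (n := 1) (G := zpowers (⟨t, htB⟩ : D))
    (by rw [Nat.card_zpowers, ← Subgroup.orderOf_coe, ht, pow_one])).exists_le_sylow
  obtain ⟨Ps, hPs⟩ := (IsPGroup.of_card (n := 1) (G := zpowers (⟨s, hsB⟩ : D))
    (by rw [Nat.card_zpowers, ← Subgroup.orderOf_coe, hs, pow_one])).exists_le_sylow
  obtain ⟨c, hc⟩ := MulAction.exists_smul_eq D Ps Pt
  refine ⟨c, c.2, ?_⟩
  have hm : c * ⟨s, hsB⟩ * c⁻¹ ∈ (Pt : Subgroup D) := by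
    rw [← hc]
    refine Transfer.Fusion.mem_smul_sylow_iff.2 ?_
    rw [show c⁻¹ * (c * ⟨s, hsB⟩ * c⁻¹) * c = ⟨s, hsB⟩ by group]
    exact hPs (mem_zpowers _)
  set u : G := (c : G) * s * (c : G)⁻¹ with hu
  obtain ⟨T, hT⟩ := (Pt.2.map D.subtype).exists_le_sylow
  have hut : u * t = t * u := (hS.smul T).comm u (hT ⟨_, hm, rfl⟩) t
    (hT ⟨_, hPt (mem_zpowers (⟨t, htB⟩ : D)), rfl⟩)
  have huB : u ∈ D := mul_mem (mul_mem c.2 hsB) (inv_mem c.2)
  have huo : orderOf u = 2 := by
    rw [hu, show (c : G) * s * (c : G)⁻¹ = MulAut.conj (c : G) s by simp, MulEquiv.orderOf_eq, hs]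
  set u' : ↥(centralizer ({t} : Set G)) := ⟨u, mem_centralizer_singleton_iff.2 hut⟩ with hu'
  have hu2 : u' ^ 2 = 1 := Subtype.ext (by rw [Subgroup.coe_pow]; exact huo ▸ pow_orderOf_eq_one u)
  by_cases hπu : π u' = 1
  · rcases h.eq_or_eq ht hπu hu2 with e | e
    · rw [show (u' : G) = u from rfl] at e
      rw [e, orderOf_one] at huo
      omega
    · exact e
  exfalso
  have hL2 : (π u') ^ 2 = 1 := by rw [← map_pow, hu2, map_one]
  refine h.lfacts.not_commute_p hp2 (a := ⟨π u', h.mem_of_two hL2⟩) (x := ⟨π y, hyL⟩)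
    (orderOf_eq_prime (Subtype.ext hL2) fun e => hπu (congrArg Subtype.val e))
    (orderOf_eq_prime (Subtype.ext (by
      show π y ^ p = 1
      rw [← map_pow, ← hyo, pow_orderOf_eq_one, map_one])) fun e => hy1 (congrArg Subtype.val e)) ?_
  refine Subtype.ext ?_
  show π u' * π y = π y * π u'
  rw [← map_mul, ← map_mul, show u' * y = y * u' from Subtype.ext (mem_centralizer_iff.1 huB (y : G) hyB).symm]

theorem Cover.not_dvd_ker (h : Cover t L π q p) (ht : orderOf t = 2) {r : ℕ} (hr : r.Prime)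
    (hr2 : r ≠ 2) (hW : ¬ r ∣ Nat.card (Cfsg.oddCore ↥(centralizer ({t} : Set G)))) :
    ¬ r ∣ Nat.card π.ker := by
  intro hd
  haveI : Fact r.Prime := ⟨hr⟩
  obtain ⟨c, hc⟩ := exists_prime_orderOf_dvd_card' (G := π.ker) r hd
  have hco : orderOf (c : ↥(centralizer ({t} : Set G))) = r := by rw [Subgroup.orderOf_coe, hc]
  set W := Cfsg.oddCore ↥(centralizer ({t} : Set G))
  set tC : ↥(centralizer ({t} : Set G)) := ⟨t, mem_centralizer_singleton_iff.2 rfl⟩
  have hc2 : (c : ↥(centralizer ({t} : Set G))) ^ 2 ∈ W := by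
    rcases h.ker _ c.2 with e | e
    · exact pow_mem e 2
    · have h1 := pow_mem e 2
      rwa [(show Commute (c : ↥(centralizer ({t} : Set G))) tC from
        Subtype.ext (mem_centralizer_singleton_iff.1 (c : ↥(centralizer ({t} : Set G))).2)).mul_pow,
        show tC ^ 2 = 1 from Subtype.ext (by rw [Subgroup.coe_pow]; exact ht ▸ pow_orderOf_eq_one t),
        mul_one] at h1
  have ho : orderOf ((c : ↥(centralizer ({t} : Set G))) ^ 2) = r := by
    rw [Nat.Coprime.orderOf_pow (by rw [hco]; exact (Nat.coprime_primes hr Nat.prime_two).2 hr2), hco]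
  exact hW (ho ▸ W.orderOf_dvd_natCard hc2)

/-- The degree is one or three, and the cover is onto `PSL₂(q)`. -/
theorem Cover.degree2 (h : Cover t L π q p) [hp : Fact p.Prime] (hA : Fusion G) {S : Sylow 2 G}
    (hS : Eight S) (htS : t ∈ (S : Subgroup G)) (ht : orderOf t = 2) {f : ℕ} (hq : q = p ^ f)
    (hfodd : f % 2 = 1) (hp3 : 3 ≤ p) (hidx : L.index ∣ f) (hcore : ∀ r : ℕ, r.Prime → r ≠ 2 → r ∣ Nat.card L →
      ¬ r ∣ Nat.card (Cfsg.oddCore ↥(centralizer ({t} : Set G)))) :
    (f = 1 ∨ f = 3) ∧ L = ⊤ := by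
  classical
  haveI : Fact (Nat.Prime 2) := ⟨Nat.prime_two⟩
  haveI := h.normal
  have hp2 : p ≠ 2 := by omega
  have hpL : p ∣ Nat.card L := by
    have h1 := h.lfacts.card
    have h2 : p ∣ q := hq ▸ dvd_pow_self p (by omega)
    have h3 : p ∣ 2 * Nat.card L := h1 ▸ h2.mul_right _
    exact ((Nat.coprime_primes hp.out Nat.prime_two).2 hp2).dvd_of_dvd_mul_left h3
  have hpk := h.not_dvd_ker ht hp.out hp2 (hcore p hp.out hp2 hpL)
  have hconj : ∀ A B : Subgroup X, A ≤ L → B ≤ L → Nat.card A = p ^ 2 → Nat.card B = p ^ 2 →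
      ∃ g : X, A.map (MulAut.conj g).toMonoidHom = B := by
    intro A B hAL hBL hAc hBc
    obtain ⟨A', hA'p, hA'm, hA'c⟩ := exists_pgroup_lift π h.surj A hAc
    obtain ⟨B', hB'p, hB'm, hB'c⟩ := exists_pgroup_lift π h.surj B hBc
    have hcomm : ∀ D : Subgroup ↥(centralizer ({t} : Set G)), Nat.card D = p ^ 2 →
        ∀ a ∈ D.map (centralizer ({t} : Set G)).subtype, ∀ b ∈ D.map (centralizer ({t} : Set G)).subtype,
          a * b = b * a := by
      intro D hD
      rintro _ ⟨a, ha, rfl⟩ _ ⟨b, hb, rfl⟩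
      haveI := IsPGroup.isMulCommutative_of_card_eq_prime_sq (G := D) hD
      rw [← map_mul, ← map_mul, show a * b = b * a from
        congrArg Subtype.val (mul_comm' (⟨a, ha⟩ : D) ⟨b, hb⟩)]
    obtain ⟨g, hg⟩ := hA.ab p hp.out _ _ (hA'p.map (centralizer ({t} : Set G)).subtype)
      (hB'p.map (centralizer ({t} : Set G)).subtype) (hcomm A' (hA'c hpk)) (hcomm B' (hB'c hpk)) (by
        rw [card_map_of_injective (subtype_injective _), card_map_of_injective (subtype_injective _),
          hA'c hpk, hB'c hpk])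
    haveI : Nontrivial B' := Finite.one_lt_card_iff_nontrivial.1 (by
      rw [hB'c hpk]; exact Nat.one_lt_pow two_ne_zero hp.out.one_lt)
    obtain ⟨b, hb⟩ := exists_prime_orderOf_dvd_card' (G := B') p (by
      rw [hB'c hpk]; exact dvd_pow_self p two_ne_zero)
    have hbo : orderOf (b : ↥(centralizer ({t} : Set G))) = p := by rw [Subgroup.orderOf_coe, hb]
    have hb1 : π (b : ↥(centralizer ({t} : Set G))) ≠ 1 := fun e => hpk (hbo ▸ π.ker.orderOf_dvd_natCard e)
    have htA : t ∈ centralizer ((A'.map (centralizer ({t} : Set G)).subtype : Subgroup G) : Set G) := by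
      refine mem_centralizer_iff.2 ?_
      rintro _ ⟨a, -, rfl⟩
      exact mem_centralizer_singleton_iff.1 a.2
    have htB : t ∈ centralizer ((B'.map (centralizer ({t} : Set G)).subtype : Subgroup G) : Set G) := by
      refine mem_centralizer_iff.2 ?_
      rintro _ ⟨a, -, rfl⟩
      exact mem_centralizer_singleton_iff.1 a.2
    have hsB : g * t * g⁻¹ ∈ centralizer ((B'.map (centralizer ({t} : Set G)).subtype : Subgroup G) : Set G) := by
      refine mem_centralizer_iff.2 fun z hz => ?_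
      rw [SetLike.mem_coe, hg] at hz
      obtain ⟨w, hw, rfl⟩ := hz
      show g * w * g⁻¹ * (g * t * g⁻¹) = g * t * g⁻¹ * (g * w * g⁻¹)
      rw [conj_mul, conj_mul, mem_centralizer_iff.1 htA w hw]
    obtain ⟨c, hc, hct⟩ := h.exists_conj_self hp2 hS ht
      (show ((b : ↥(centralizer ({t} : Set G))) : G) ∈ B'.map (centralizer ({t} : Set G)).subtype from ⟨_, b.2, rfl⟩) hbo
      (hBL (hB'm ▸ ⟨_, b.2, rfl⟩)) hb1 htB
      (show orderOf (g * t * g⁻¹) = 2 by
        rw [show g * t * g⁻¹ = MulAut.conj g t by simp, MulEquiv.orderOf_eq, ht]) hsB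
    have hk : c * g ∈ centralizer ({t} : Set G) := mem_centralizer_singleton_iff.2 (by
      refine mul_inv_eq_iff_eq_mul.1 (?_ : c * g * t * (c * g)⁻¹ = t)
      conv_rhs => rw [← hct]
      group)
    refine ⟨π ⟨c * g, hk⟩, ?_⟩
    have h1 : A'.map (MulAut.conj (⟨c * g, hk⟩ : ↥(centralizer ({t} : Set G)))).toMonoidHom = B' := by
      refine Subgroup.map_injective (subtype_injective _) (SetLike.ext fun z => ?_)
      constructor
      · rintro ⟨_, ⟨w, hw, rfl⟩, rfl⟩
        have h2 : g * (w : G) * g⁻¹ ∈ B'.map (centralizer ({t} : Set G)).subtype :=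
          hg ▸ ⟨(w : G), ⟨w, hw, rfl⟩, rfl⟩
        show c * g * w * (c * g)⁻¹ ∈ B'.map (centralizer ({t} : Set G)).subtype
        rw [show c * g * w * (c * g)⁻¹ = c * (g * (w : G) * g⁻¹) * c⁻¹ by group,
          ← mem_centralizer_iff.1 hc _ h2, mul_inv_cancel_right]
        exact h2
      · intro hz
        have hz' := hz
        rw [hg] at hz'
        obtain ⟨_, ⟨w, hw, rfl⟩, hwz⟩ := hz'
        refine ⟨_, ⟨w, hw, rfl⟩, ?_⟩
        show c * g * w * (c * g)⁻¹ = z
        rw [show c * g * w * (c * g)⁻¹ = c * (g * (w : G) * g⁻¹) * c⁻¹ by group,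
          show g * (w : G) * g⁻¹ = z from hwz, ← mem_centralizer_iff.1 hc z hz, mul_inv_cancel_right]
    rw [← hA'm, ← hB'm, ← h1, map_map, map_map]
    congr 1
    ext w
    simp
  have hf5 : f < 5 := degree_lt_five hp3 (hq ▸ h.lfacts) hidx hconj
  refine ⟨by omega, ?_⟩
  by_contra htop
  have hne1 : L.index ≠ 1 := fun h1 => htop (index_eq_one.1 h1)
  have h3f : 3 ∣ L.index := by
    rcases (show f = 1 ∨ f = 3 by omega) with h1 | h1 <;> rw [h1] at hidx
    · exact absurd (Nat.dvd_one.1 hidx) hne1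
    · exact ((Nat.dvd_prime Nat.prime_three).1 hidx).resolve_left hne1 ▸ dvd_rfl
  haveI : Fact (Nat.Prime 3) := ⟨Nat.prime_three⟩
  -- a four-group of `L`
  obtain ⟨a₀, ha₀⟩ : ∃ a : L, orderOf a = 2 := by
    refine exists_prime_orderOf_dvd_card' 2 ?_
    have h4 := h.lfacts.card
    have hm := h.lfacts.q_mod
    obtain ⟨c, hc⟩ := Nat.even_mul_succ_self (q / 2)
    refine ⟨2 * q * c, Nat.eq_of_mul_eq_mul_left two_pos ?_⟩
    rw [h4, show q - 1 = 2 * (q / 2) by omega, show q + 1 = 2 * (q / 2 + 1) by omega]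
    calc q * (2 * (q / 2) * (2 * (q / 2 + 1))) = 4 * q * (q / 2 * (q / 2 + 1)) := by ring
      _ = _ := by rw [hc]; ring
  obtain ⟨b₀, hb₀, hba, hne₀⟩ := h.lfacts.four a₀ ha₀
  obtain ⟨w₀, hw₀, -, -⟩ := h.lfacts.rot a₀ b₀ ha₀ hb₀ hba.symm hne₀.symm
  obtain ⟨wb, hwb, hwa, hwb', -⟩ := exists_central_outer h.lfacts h.odd_index a₀.2 b₀.2
    (by rwa [Subgroup.orderOf_coe]) (by rwa [Subgroup.orderOf_coe]) (hba.symm.map L.subtype)
    (fun e => hne₀.symm (Subtype.ext e)) h3f
  have h3L : 3 ∣ Nat.card L := hw₀ ▸ orderOf_dvd_natCard w₀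
  have h3k := h.not_dvd_ker ht Nat.prime_three (by norm_num) (hcore 3 Nat.prime_three (by norm_num) h3L)
  have hlift : ∀ z : X, orderOf z = 3 → ∃ z' : ↥(centralizer ({t} : Set G)), orderOf z' = 3 ∧
      π z' ∈ zpowers z ∧ z ∈ zpowers (π z') := by
    intro z hz
    obtain ⟨Z, -, hZm, hZc⟩ := exists_pgroup_lift π h.surj (p := 3) (n := 1) (zpowers z)
      (by rw [Nat.card_zpowers, hz, pow_one])
    obtain ⟨z', hz'⟩ := exists_prime_orderOf_dvd_card' (G := Z) 3 (by rw [hZc h3k, pow_one])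
    have h1 : π (z' : ↥(centralizer ({t} : Set G))) ∈ zpowers z := hZm ▸ ⟨_, z'.2, rfl⟩
    have hzo : orderOf (z' : ↥(centralizer ({t} : Set G))) = 3 := by rw [Subgroup.orderOf_coe, hz']
    refine ⟨z', hzo, h1, ?_⟩
    have hne : π (z' : ↥(centralizer ({t} : Set G))) ≠ 1 := fun e => h3k (hzo ▸ π.ker.orderOf_dvd_natCard e)
    have heq : zpowers (π (z' : ↥(centralizer ({t} : Set G)))) = zpowers z :=
      eq_of_le_of_card_ge (zpowers_le.2 h1) (by
        rw [Nat.card_zpowers, Nat.card_zpowers, hz]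
        rcases (Nat.dvd_prime Nat.prime_three).1 (hzo ▸ orderOf_map_dvd π (z' : ↥(centralizer ({t} : Set G)))) with e | e
        · exact absurd (orderOf_eq_one_iff.1 e) hne
        · exact e.ge)
    rw [heq]; exact mem_zpowers z
  obtain ⟨w, hwo, hwm, hwm'⟩ := hlift wb hwb
  obtain ⟨y, hyo, hym, hym'⟩ := hlift (w₀ : X) (by rw [Subgroup.orderOf_coe, hw₀])
  -- a Sylow subgroup centralized by `w`
  set V := zpowers (a₀ : X) ⊔ zpowers (b₀ : X) with hV
  have ha2 : (a₀ : X) ^ 2 = 1 := by rw [← ha₀, ← Subgroup.coe_pow, pow_orderOf_eq_one]; rfl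
  have hb2 : (b₀ : X) ^ 2 = 1 := by rw [← hb₀, ← Subgroup.coe_pow, pow_orderOf_eq_one]; rfl
  have ha1 : (a₀ : X) ≠ 1 := fun e => by
    rw [show a₀ = 1 from Subtype.ext e, orderOf_one] at ha₀; omega
  have hbz : (b₀ : X) ∉ zpowers (a₀ : X) := by
    intro hm
    obtain ⟨k, hk⟩ := mem_zpowers_iff.1 hm
    rcases Int.even_or_odd' k with ⟨j, rfl | rfl⟩
    · rw [zpow_mul, zpow_two, ← pow_two, ha2, one_zpow] at hk
      rw [show b₀ = 1 from Subtype.ext hk.symm, orderOf_one] at hb₀
      omega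
    · rw [zpow_add, zpow_mul, zpow_two, ← pow_two, ha2, one_zpow, one_mul, zpow_one] at hk
      exact hne₀ (Subtype.ext hk.symm)
  obtain ⟨hV4, -, -⟩ := EqualOrderConj.pair_data (p := 2) ha2 ha1 hb2 hbz (hba.map L.subtype).eq
  set Y := V.comap π with hY
  have hwV : ∀ v ∈ V, π w * v = v * π w := by
    intro v hv
    have hle : V ≤ centralizer ({π w} : Set X) := by
      obtain ⟨k, hk⟩ := mem_zpowers_iff.1 hwm
      refine sup_le (zpowers_le.2 ?_) (zpowers_le.2 ?_) <;> rw [mem_centralizer_singleton_iff, ← hk]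
      · exact (hwa.zpow_left k).symm.eq
      · exact (hwb'.zpow_left k).symm.eq
    exact (mem_centralizer_singleton_iff.1 (hle hv)).symm
  have hwY : zpowers w ≤ normalizer (Y : Set ↥(centralizer ({t} : Set G))) := by
    rw [zpowers_le]
    refine EqualOrderConj.mem_normalizer_of_conj_mem fun z hz => ?_
    show π (w * z * w⁻¹) ∈ V
    rw [map_mul, map_mul, map_inv, hwV _ hz, mul_inv_cancel_right]
    exact hz
  have hcardY : Nat.card Y = Nat.card π.ker * 4 := by
    set φ : Y →* V := π.subgroupComap V with hφ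
    have h1 := φ.ker.card_mul_index
    rw [Subgroup.index_ker, MonoidHom.range_eq_top.2
      (MonoidHom.subgroupComap_surjective_of_surjective _ _ h.surj), Subgroup.card_top, hV4] at h1
    rw [← h1]
    congr 1
    exact Nat.card_congr
      { toFun := fun z => ⟨z.1.1, congrArg Subtype.val z.2⟩
        invFun := fun z => ⟨⟨z.1, show π z.1 ∈ V by rw [show π z.1 = 1 from z.2]; exact one_mem V⟩, Subtype.ext z.2⟩
        left_inv := fun _ => rfl
        right_inv := fun _ => rfl }
  obtain ⟨P, hP⟩ := Coprime.exists_invariant_sylow 2 hwY (by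
    rw [Nat.card_zpowers, hwo, hcardY]
    refine (Nat.Prime.coprime_iff_not_dvd Nat.prime_three).2 fun hd => ?_
    rcases (Nat.Prime.dvd_mul Nat.prime_three).1 hd with e | e
    · exact h3k e
    · norm_num at e)
    (Or.inl (Group.isSolvable_of_comm fun a b => mul_comm' a b))
  have hP8 : 8 ∣ Nat.card (P : Subgroup Y) := by
    rw [P.card_eq_multiplicity, hcardY]
    refine pow_dvd_pow 2 ((Nat.prime_two.pow_dvd_iff_le_factorization
      (Nat.mul_ne_zero Nat.card_pos.ne' (four_ne_zero' ℕ))).1 ?_ : 3 ≤ _)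
    change 2 * 4 ∣ Nat.card π.ker * 4
    refine Nat.mul_dvd_mul ?_ dvd_rfl
    have hm : (⟨t, mem_centralizer_singleton_iff.2 rfl⟩ : ↥(centralizer ({t} : Set G))) ∈ π.ker := h.self
    have := π.ker.orderOf_dvd_natCard hm
    rwa [← Subgroup.orderOf_coe, ht] at this
  set P' := (P : Subgroup Y).map Y.subtype with hP'
  have hwP : ∀ τ ∈ P', w * τ = τ * w := by
    intro τ hτ
    have hτ' : w * τ * w⁻¹ ∈ P' := (mem_normalizer_iff.1 (hP (mem_zpowers w)) τ).1 hτ
    obtain ⟨T, hT⟩ := (P.2.map Y.subtype).map (centralizer ({t} : Set G)).subtype |>.exists_le_sylow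
    have hT8 := hS.smul T
    have hmem : ∀ {z}, z ∈ P' → (z : G) ∈ (T : Subgroup G) := fun hz => hT ⟨_, hz, rfl⟩
    set d := τ⁻¹ * (w * τ * w⁻¹) with hd
    have hdk : π d = 1 := by
      have hτV : π τ ∈ V := (map_subtype_le (P : Subgroup Y) hτ : τ ∈ Y)
      rw [hd, map_mul, map_mul, map_mul, map_inv, map_inv, hwV _ hτV, mul_inv_cancel_right,
        inv_mul_cancel]
    have hd2 : d ^ 2 = 1 := Subtype.ext (by
      rw [Subgroup.coe_pow]; exact hT8.exp _ (hmem (mul_mem (inv_mem hτ) hτ')))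
    have hdc : Commute w d := by
      rcases h.eq_or_eq ht hdk hd2 with e | e
      · rw [show d = 1 from Subtype.ext e]; exact Commute.one_right w
      · exact Subtype.ext (show (w : G) * (d : G) = (d : G) * (w : G) by rw [e]; exact mem_centralizer_singleton_iff.1 w.2)
    have e1 : w * τ * w⁻¹ = τ * d := by rw [hd]; group
    have hw2 : w ^ 2 * τ * (w ^ 2)⁻¹ = τ := by
      calc w ^ 2 * τ * (w ^ 2)⁻¹ = w * (w * τ * w⁻¹) * w⁻¹ := by rw [pow_two]; group
        _ = w * (τ * d) * w⁻¹ := by rw [e1]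
        _ = w * τ * w⁻¹ * (w * d * w⁻¹) := by group
        _ = τ := by rw [e1, hdc.eq, mul_inv_cancel_right, mul_assoc, ← pow_two, hd2, mul_one]
    have hw4 : w = w ^ 2 * w ^ 2 := by
      rw [← pow_add, show 2 + 2 = orderOf w + 1 by rw [hwo], pow_succ, pow_orderOf_eq_one, one_mul]
    have hc2 : Commute (w ^ 2) τ := mul_inv_eq_iff_eq_mul.1 hw2
    rw [hw4]
    exact (hc2.mul_left hc2).eq
  have hx8 : 8 ∣ Nat.card (centralizer ({(w : G)} : Set G)) := by
    refine hP8.trans ?_
    rw [← card_map_of_injective (f := (centralizer ({t} : Set G)).subtype.comp Y.subtype)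
      ((subtype_injective _).comp (subtype_injective _)) (K := (P : Subgroup Y))]
    refine card_dvd_of_le ?_
    rintro _ ⟨z, hz, rfl⟩
    exact mem_centralizer_singleton_iff.2 (congrArg Subtype.val (hwP _ ⟨z, hz, rfl⟩)).symm
  have hy1 := h.no_conj_central2 hA.cyc hS ht Nat.prime_three (by norm_num)
    (show orderOf (w : G) = 3 by rw [Subgroup.orderOf_coe, hwo]) hx8 hyo
    (by obtain ⟨k, hk⟩ := mem_zpowers_iff.1 hym; rw [← hk]; exact zpow_mem w₀.2 k)
  rw [hy1, zpowers_one_eq_bot, mem_bot] at hym'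
  rw [show w₀ = 1 from Subtype.ext hym', orderOf_one] at hw₀
  omega

/-- The complement. -/
theorem exists_complement2 (h : Cover t L π q p) {S : Sylow 2 G} (hS : Eight S)
    (ht : orderOf t = 2) (hL : L = ⊤) (hcore : ∀ r : ℕ, r.Prime → r ≠ 2 → r ∣ Nat.card L →
      ¬ r ∣ Nat.card (Cfsg.oddCore ↥(centralizer ({t} : Set G)))) {F : Type} [Field F] [Fintype F]
    (e : L ≃* Matrix.ProjectiveSpecialLinearGroup (Fin 2) F) :
    ∃ K : Subgroup G, K ≤ centralizer ({t} : Set G) ∧ t ∉ K ∧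
      Nonempty (↥K ≃* Matrix.ProjectiveSpecialLinearGroup (Fin 2) F) ∧
      SEAbelian.theta t ⊔ (zpowers t ⊔ K) = centralizer ({t} : Set G) ∧
      (Nat.card ↥(SEAbelian.theta t)).Coprime (2 * Nat.card K) := by
  classical
  haveI : Fact (Nat.Prime 2) := ⟨Nat.prime_two⟩
  set W := Cfsg.oddCore ↥(centralizer ({t} : Set G)) with hW
  set tC : ↥(centralizer ({t} : Set G)) := ⟨t, mem_centralizer_singleton_iff.2 rfl⟩ with htC
  have htCo : orderOf tC = 2 := by rw [← Subgroup.orderOf_coe]; exact ht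
  have htz : ∀ c : ↥(centralizer ({t} : Set G)), c * tC = tC * c := fun c =>
    Subtype.ext (mem_centralizer_singleton_iff.1 c.2)
  have hWodd : Odd (Nat.card W) := Cores.oddCore_odd
  have hcopL : (Nat.card W).Coprime (2 * Nat.card L) := by
    refine Nat.coprime_of_dvd fun r hr hrW hr2L => ?_
    have hr2 : r ≠ 2 := fun e1 => Nat.not_even_iff_odd.2 hWodd (even_iff_two_dvd.2 (e1 ▸ hrW))
    exact hcore r hr hr2 (((Nat.coprime_primes hr Nat.prime_two).2 hr2).dvd_of_dvd_mul_left hr2L) hrW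
  have hWidx : W.index = 2 * Nat.card L := by
    have h1 : W.relIndex π.ker = 2 := by
      have hle : π.ker ≤ W ⊔ zpowers tC := fun c hc => by
        rcases h.ker c hc with e | e
        · exact mem_sup_left e
        · have := mul_mem (mem_sup_left e : c * tC ∈ W ⊔ zpowers tC)
            (inv_mem (mem_sup_right (mem_zpowers tC)))
          rwa [mul_inv_cancel_right] at this
      have hge : W ⊔ zpowers tC ≤ π.ker := sup_le h.core (zpowers_le.2 h.self)
      have hn : zpowers tC ≤ normalizer (W : Set ↥(centralizer ({t} : Set G))) := by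
        rw [W.normalizer_eq_top]; exact le_top
      have hcard : Nat.card π.ker = Nat.card W * 2 := by
        rw [le_antisymm hle hge, Coprime.card_sup_of_coprime hn (by
          rw [Nat.card_zpowers, htCo]; exact Nat.coprime_two_right.2 hWodd), Nat.card_zpowers, htCo]
      rw [relIndex, index_eq_card]
      have h2 := (W.subgroupOf π.ker).card_eq_card_quotient_mul_card_subgroup
      rw [Nat.card_congr (subgroupOfEquivOfLe h.core).toEquiv, hcard, mul_comm] at h2
      exact (Nat.eq_of_mul_eq_mul_right Nat.card_pos h2).symm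
    rw [← relIndex_mul_index h.core, h1, Subgroup.index_ker, MonoidHom.range_eq_top.2 h.surj, Subgroup.card_top,
      hL, Subgroup.card_top]
  obtain ⟨H, hH⟩ := exists_right_complement'_of_coprime (N := W) (by rw [hWidx]; exact hcopL)
  have hHi : Odd H.index := by rw [hH.index_eq_card]; exact hWodd
  have htH : tC ∈ H := by
    obtain ⟨P⟩ : Nonempty (Sylow 2 H) := inferInstance
    obtain ⟨T, hT⟩ := (P.2.map H.subtype).exists_le_sylow
    have heq : (P : Subgroup H).map H.subtype = (T : Subgroup _) := by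
      refine eq_of_le_of_card_ge hT ?_
      rw [card_map_of_injective H.subtype_injective, P.card_eq_multiplicity, T.card_eq_multiplicity]
      refine Nat.pow_le_pow_right two_pos (le_of_eq ?_)
      rw [← H.card_mul_index, Nat.factorization_mul Nat.card_pos.ne' Subgroup.index_ne_zero_of_finite,
        Finsupp.add_apply, Nat.factorization_eq_zero_of_not_dvd
          (fun h' => Nat.not_even_iff_odd.2 hHi (even_iff_two_dvd.2 h')), add_zero]
    have : tC ∈ (T : Subgroup ↥(centralizer ({t} : Set G))) := by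
      have hp2 : IsPGroup 2 (zpowers tC) := IsPGroup.of_card (n := 1) (by rw [Nat.card_zpowers, htCo, pow_one])
      have hn : zpowers tC ≤ normalizer ((T : Subgroup ↥(centralizer ({t} : Set G))) : Set _) :=
        zpowers_le.2 (EqualOrderConj.mem_normalizer_of_conj_mem fun a ha => by
          rw [← htz a, mul_inv_cancel_right]; exact ha)
      rw [← T.3 (hp2.to_sup_of_normal_right' T.2 hn) le_sup_right]
      exact mem_sup_left (mem_zpowers tC)
    obtain ⟨z, -, hz⟩ := heq.ge this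
    exact hz ▸ z.2
  have hHs : ∀ x : X, ∃ a ∈ H, π a = x := by
    intro x
    obtain ⟨c, rfl⟩ := h.surj x
    obtain ⟨⟨w, a⟩, hwa⟩ := hH.2 c
    exact ⟨a, a.2, by rw [← hwa, map_mul, show π (w : ↥(centralizer ({t} : Set G))) = 1 from h.core w.2, one_mul]⟩
  set K₀ := ⁅H, H⁆ with hK₀
  have hK₀H : K₀ ≤ H := commutator_le.2 fun a ha b hb => mul_mem (mul_mem (mul_mem ha hb) (inv_mem ha)) (inv_mem hb)
  have hnt : tC ∉ K₀ := by
    intro hm
    obtain ⟨P, hP⟩ := (IsPGroup.of_card (n := 1) (G := zpowers (⟨tC, htH⟩ : H))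
      (by rw [Nat.card_zpowers, ← Subgroup.orderOf_coe, htCo, pow_one])).exists_le_sylow
    obtain ⟨T, hT⟩ := ((P.2.map H.subtype).map (centralizer ({t} : Set G)).subtype).exists_le_sylow
    have h1 := eq_one_of_central P (fun a ha b hb => Subtype.ext (Subtype.ext
      ((hS.smul T).comm _ (hT ⟨_, ⟨a, ha, rfl⟩, rfl⟩) _ (hT ⟨_, ⟨b, hb, rfl⟩, rfl⟩))))
      (hP (mem_zpowers _)) (mem_center_iff.2 fun a => Subtype.ext (htz a))
      (by
        have : tC ∈ (_root_.commutator H).map H.subtype := by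
          rw [_root_.commutator_def, Subgroup.map_commutator, ← MonoidHom.range_eq_map, Subgroup.range_subtype]
          exact hm
        obtain ⟨z, hz, hzt⟩ := this
        rwa [show (⟨tC, htH⟩ : H) = z from Subtype.ext hzt.symm])
    have h2 : tC = 1 := congrArg Subtype.val h1
    rw [h2, orderOf_one] at htCo
    omega
  have hperf : ⁅(⊤ : Subgroup X), (⊤ : Subgroup X)⁆ = (⊤ : Subgroup X) := by
    haveI := h.lfacts.simple
    rcases IsSimpleGroup.eq_bot_or_eq_top_of_normal (_root_.commutator L) inferInstance with e1 | e1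
    · exfalso
      obtain ⟨k, hk⟩ : ∃ k : L, orderOf k = 2 := by
        refine exists_prime_orderOf_dvd_card' 2 ?_
        have h4 := h.lfacts.card
        have hm := h.lfacts.q_mod
        obtain ⟨c, hc⟩ := Nat.even_mul_succ_self (q / 2)
        refine ⟨2 * q * c, Nat.eq_of_mul_eq_mul_left two_pos ?_⟩
        rw [h4, show q - 1 = 2 * (q / 2) by omega, show q + 1 = 2 * (q / 2 + 1) by omega]
        calc q * (2 * (q / 2) * (2 * (q / 2 + 1))) = 4 * q * (q / 2 * (q / 2 + 1)) := by ring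
          _ = _ := by rw [hc]; ring
      obtain ⟨u, hu, -, huk⟩ := h.lfacts.four k hk
      obtain ⟨g, hg⟩ := isConj_iff.1 (h.lfacts.conj k u hk hu)
      have h1 : ⁅g, k⁆ ∈ _root_.commutator L := commutator_mem_commutator (mem_top g) (mem_top k)
      rw [e1, mem_bot, commutatorElement_eq_one_iff_mul_comm] at h1
      rw [h1, mul_inv_cancel_right] at hg
      exact huk hg.symm
    · have := congrArg (Subgroup.map L.subtype) e1
      rw [_root_.commutator_def, Subgroup.map_commutator, ← MonoidHom.range_eq_map,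
        Subgroup.range_subtype] at this
      rwa [hL] at this
  have hKmap : K₀.map π = ⊤ := by
    rw [hK₀, Subgroup.map_commutator, show H.map π = ⊤ from eq_top_iff.2 fun x _ => hHs x, hperf]
  have hKinj : ∀ k ∈ K₀, π k = 1 → k = 1 := by
    intro k hk hk1
    have hone : ∀ a ∈ H, a ∈ W → a = 1 := fun a ha haW =>
      (Subgroup.disjoint_def.1 hH.disjoint haW ha)
    rcases h.ker k hk1 with e1 | e1
    · exact hone k (hK₀H hk) e1
    · have h1 := hone _ (mul_mem (hK₀H hk) htH) e1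
      exact absurd ((eq_inv_of_mul_eq_one_right h1).symm ▸ (inv_mem hk : k⁻¹ ∈ K₀)) hnt
  set K := K₀.map (centralizer ({t} : Set G)).subtype with hK
  let φ : K₀ →* X := π.comp K₀.subtype
  have hφ : Function.Bijective φ := by
    refine ⟨(injective_iff_map_eq_one φ).2 fun a ha => Subtype.ext (hKinj a a.2 ha), fun x => ?_⟩
    obtain ⟨a, ha, hax⟩ := hKmap.ge (mem_top x)
    exact ⟨⟨a, ha⟩, hax⟩
  have eK : K ≃* Matrix.ProjectiveSpecialLinearGroup (Fin 2) F :=
    (((K₀.equivMapOfInjective _ (subtype_injective _)).symm.trans (MulEquiv.ofBijective φ hφ)).trans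
      ((MulEquiv.subgroupCongr hL).trans Subgroup.topEquiv).symm).trans e
  refine ⟨K, map_subtype_le _, ?_, ⟨eK⟩, ?_, ?_⟩
  · rintro ⟨z, hz, hzt⟩
    exact hnt ((Subtype.ext hzt : z = tC) ▸ hz)
  · refine le_antisymm (sup_le (SEAbelian.theta_le t) (sup_le (zpowers_le.2
      (mem_centralizer_singleton_iff.2 rfl)) (map_subtype_le _))) fun c hc => ?_
    obtain ⟨k, hk, hkc⟩ := hKmap.ge (mem_top (π ⟨c, hc⟩))
    have hd : π (⟨c, hc⟩ * k⁻¹) = 1 := by rw [map_mul, map_inv, hkc, mul_inv_cancel]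
    have hkS : (k : G) ∈ SEAbelian.theta t ⊔ (zpowers t ⊔ K) := mem_sup_right (mem_sup_right ⟨k, hk, rfl⟩)
    have htS : t ∈ SEAbelian.theta t ⊔ (zpowers t ⊔ K) := mem_sup_right (mem_sup_left (mem_zpowers t))
    have hth : ∀ d ∈ W, (d : G) ∈ SEAbelian.theta t ⊔ (zpowers t ⊔ K) := fun d hd =>
      mem_sup_left ⟨d, hd, rfl⟩
    rcases h.ker _ hd with e1 | e1
    · have := mul_mem (hth _ e1) hkS
      simpa using this
    · have := mul_mem (mul_mem (hth _ e1) (inv_mem htS)) hkS
      simpa [mul_assoc] using this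
  · rw [SEAbelian.theta, card_map_of_injective (subtype_injective _), Nat.card_congr eK.toEquiv,
      ← Nat.card_congr e.toEquiv]
    exact hcopL

omit [Finite G] in
theorem theta_map_conj [Finite G] (g s : G) :
    (SEAbelian.theta s).map (MulAut.conj g).toMonoidHom = SEAbelian.theta (g * s * g⁻¹) := by
  have hmap : (centralizer ({s} : Set G)).map (MulAut.conj g).toMonoidHom =
      centralizer ({g * s * g⁻¹} : Set G) := by
    ext z
    constructor
    · rintro ⟨w, hw, rfl⟩
      refine mem_centralizer_singleton_iff.2 ?_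
      show g * w * g⁻¹ * (g * s * g⁻¹) = g * s * g⁻¹ * (g * w * g⁻¹)
      rw [conj_mul, conj_mul, mem_centralizer_singleton_iff.1 hw]
    · intro hz
      refine ⟨g⁻¹ * z * g, mem_centralizer_singleton_iff.2 ?_, by simp [mul_assoc]⟩
      calc g⁻¹ * z * g * s = g⁻¹ * (z * (g * s * g⁻¹)) * g := by group
        _ = g⁻¹ * (g * s * g⁻¹ * z) * g := by rw [mem_centralizer_singleton_iff.1 hz]
        _ = s * (g⁻¹ * z * g) := by group
  set e := ((MulAut.conj g).subgroupMap (centralizer ({s} : Set G))).trans (MulEquiv.subgroupCongr hmap)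
    with he
  have h1 : (Cfsg.oddCore ↥(centralizer ({s} : Set G))).map e.toMonoidHom =
      Cfsg.oddCore ↥(centralizer ({g * s * g⁻¹} : Set G)) := Cores.map_pPrimeCore_eq e 2
  rw [SEAbelian.theta, SEAbelian.theta, ← h1, map_map, map_map]
  rfl

/-- All insoluble centralizers have one shape. -/
theorem exists_shape2 (hA : Fusion G) {S : Sylow 2 G} (hS : Eight S) {t : G}
    (htS : t ∈ (S : Subgroup G)) (ht : orderOf t = 2)
    (hns : ¬ Group.IsSolvable ↥(centralizer ({t} : Set G))) :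
    ∃ (F : Type) (_ : Field F) (_ : Fintype F) (p f : ℕ) (_ : Fact p.Prime),
      Fintype.card F = p ^ f ∧ (f = 1 ∨ f = 3) ∧
      (Fintype.card F % 8 = 3 ∨ Fintype.card F % 8 = 5) ∧ 5 ≤ Fintype.card F ∧
      ∀ s : G, orderOf s = 2 → ∃ K : Subgroup G, K ≤ centralizer ({s} : Set G) ∧ s ∉ K ∧
        Nonempty (↥K ≃* Matrix.ProjectiveSpecialLinearGroup (Fin 2) F) ∧
        SEAbelian.theta s ⊔ (zpowers s ⊔ K) = centralizer ({s} : Set G) ∧
        (Nat.card ↥(SEAbelian.theta s)).Coprime (2 * Nat.card K) := by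
  obtain ⟨X, iX, fX, L, π, F, iF, iT, p, f, ip, hF, hfodd, hp3, hCL, hcov, ⟨e⟩⟩ :=
    exists_cover hS htS ht hns
  haveI := hcov.normal
  have hmod := hcov.lfacts.q_mod
  have h3 := hcov.lfacts.three_lt
  have hidx : L.index ∣ f := index_dvd hCL hcov.odd_index (by omega) hF h3 (by omega) e
  have hcore := hcov.not_dvd_core_fusion hA hS ht hmod h3 e
  obtain ⟨hf, hL⟩ := hcov.degree2 hA hS htS ht hF hfodd hp3 hidx hcore
  obtain ⟨K, hK, htK, ⟨eK⟩, hsup, hcop⟩ := exists_complement2 hcov hS ht hL hcore e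
  refine ⟨F, iF, iT, p, f, ip, hF, hf, hmod, by omega, fun s hs => ?_⟩
  obtain ⟨g, rfl⟩ := isConj_iff.1 (hA.cyc.isConj_invol ht hs)
  have hinj : Function.Injective (MulAut.conj g).toMonoidHom := (MulAut.conj g).injective
  refine ⟨K.map (MulAut.conj g).toMonoidHom, ?_, ?_, ⟨(K.equivMapOfInjective _ hinj).symm.trans eK⟩, ?_, ?_⟩
  · rintro _ ⟨k, hk, rfl⟩
    refine mem_centralizer_singleton_iff.2 ?_
    show g * k * g⁻¹ * (g * t * g⁻¹) = g * t * g⁻¹ * (g * k * g⁻¹)
    rw [conj_mul, conj_mul, mem_centralizer_singleton_iff.1 (hK hk)]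
  · rintro ⟨k, hk, hkt⟩
    exact htK ((hinj hkt : k = t) ▸ hk)
  · have h2 : zpowers (g * t * g⁻¹) = (zpowers t).map (MulAut.conj g).toMonoidHom :=
      (MonoidHom.map_zpowers (MulAut.conj g).toMonoidHom t).symm
    rw [← theta_map_conj, h2, ← Subgroup.map_sup, ← Subgroup.map_sup, hsup]
    ext z
    constructor
    · rintro ⟨w, hw, rfl⟩
      refine mem_centralizer_singleton_iff.2 ?_
      show g * w * g⁻¹ * (g * t * g⁻¹) = g * t * g⁻¹ * (g * w * g⁻¹)
      rw [conj_mul, conj_mul, mem_centralizer_singleton_iff.1 hw]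
    · intro hz
      refine ⟨g⁻¹ * z * g, mem_centralizer_singleton_iff.2 ?_, by simp [mul_assoc]⟩
      calc g⁻¹ * z * g * t = g⁻¹ * (z * (g * t * g⁻¹)) * g := by group
        _ = g⁻¹ * (g * t * g⁻¹ * z) * g := by rw [mem_centralizer_singleton_iff.1 hz]
        _ = t * (g⁻¹ * z * g) := by group
  · rw [← theta_map_conj, card_map_of_injective hinj, card_map_of_injective hinj]
    exact hcop

/-- `exists_shape2` for conjugate `p`-subgroups. -/
theorem exists_shape (hA : AllConj G) {S : Sylow 2 G} (hS : Eight S) {t : G}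
    (htS : t ∈ (S : Subgroup G)) (ht : orderOf t = 2)
    (hns : ¬ Group.IsSolvable ↥(centralizer ({t} : Set G))) :
    ∃ (F : Type) (_ : Field F) (_ : Fintype F) (p f : ℕ) (_ : Fact p.Prime),
      Fintype.card F = p ^ f ∧ (f = 1 ∨ f = 3) ∧
      (Fintype.card F % 8 = 3 ∨ Fintype.card F % 8 = 5) ∧ 5 ≤ Fintype.card F ∧
      ∀ s : G, orderOf s = 2 → ∃ K : Subgroup G, K ≤ centralizer ({s} : Set G) ∧ s ∉ K ∧
        Nonempty (↥K ≃* Matrix.ProjectiveSpecialLinearGroup (Fin 2) F) ∧
        SEAbelian.theta s ⊔ (zpowers s ⊔ K) = centralizer ({s} : Set G) ∧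
        (Nat.card ↥(SEAbelian.theta s)).Coprime (2 * Nat.card K) :=
  exists_shape2 hA.fusion hS htS ht hns

/-- `degree2` for conjugate `p`-subgroups. -/
theorem Cover.degree (h : Cover t L π q p) [hp : Fact p.Prime] (hA : AllConj G) {S : Sylow 2 G}
    (hS : Eight S) (htS : t ∈ (S : Subgroup G)) (ht : orderOf t = 2) {f : ℕ} (hq : q = p ^ f)
    (hfodd : f % 2 = 1) (hp3 : 3 ≤ p) (hidx : L.index ∣ f) : (f = 1 ∨ f = 3) ∧ L = ⊤ :=
  h.degree2 hA.fusion hS htS ht hq hfodd hp3 hidx fun _ hr hr2 hrL => h.not_dvd_core hA hS ht hr hr2 hrL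

/-- `exists_complement2` for conjugate `p`-subgroups. -/
theorem exists_complement (h : Cover t L π q p) (hA : AllConj G) {S : Sylow 2 G} (hS : Eight S)
    (ht : orderOf t = 2) (hL : L = ⊤) {F : Type} [Field F] [Fintype F]
    (e : L ≃* Matrix.ProjectiveSpecialLinearGroup (Fin 2) F) :
    ∃ K : Subgroup G, K ≤ centralizer ({t} : Set G) ∧ t ∉ K ∧
      Nonempty (↥K ≃* Matrix.ProjectiveSpecialLinearGroup (Fin 2) F) ∧
      SEAbelian.theta t ⊔ (zpowers t ⊔ K) = centralizer ({t} : Set G) ∧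
      (Nat.card ↥(SEAbelian.theta t)).Coprime (2 * Nat.card K) :=
  exists_complement2 h hS ht hL (fun _ hr hr2 hrL => h.not_dvd_core hA hS ht hr hr2 hrL) e

end Cfsg.Agent.EqConjOdd
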