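import Cfsg.Agent.Lib.EqConjOdd.Tools
import Cfsg.Agent.GenA.AbelianConj

/-!
# Groups in which the subgroups of each prime order are conjugate

The weakest form of the fusion used by the signalizer and endgame arguments; it follows both from the
fusion of `p`-subgroups and from the fusion of abelian subgroups of equal order.
-/

set_option autoImplicit false
set_option linter.style.haveILetI false
set_option linter.unusedSectionVars false

namespace Cfsg.Agent.EqConjOdd

open Subgroup

universe u

/-- For each prime `p` the subgroups of order `p` are conjugate. -/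
def CycConj (G : Type*) [Group G] : Prop :=
  ∀ p : ℕ, p.Prime → ∀ x y : G, orderOf x = p → orderOf y = p →
    ∃ g : G, g * x * g⁻¹ ∈ zpowers y ∧ (zpowers x).map (MulAut.conj g).toMonoidHom = zpowers y

variable {G : Type u} [Group G] [Finite G]

theorem AllConj.cycConj (h : AllConj G) : CycConj G :=
  fun _ hp _ _ hx hy => h.exists_conj_mem hp hx hy

theorem cycConj_of_hyp (hB : GenA.AbelianConj.Hyp G) : CycConj G := by
  intro p _ x y hx hy
  obtain ⟨g, hg⟩ := hB (zpowers x) (zpowers y) inferInstance inferInstance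
    (by rw [Nat.card_zpowers, Nat.card_zpowers, hx, hy])
  exact ⟨g, hg ▸ ⟨x, mem_zpowers x, rfl⟩, hg.symm⟩

theorem CycConj.exists_conj_mem (h : CycConj G) {r : ℕ} (hr : r.Prime) {x y : G} (hx : orderOf x = r)
    (hy : orderOf y = r) : ∃ g : G, g * x * g⁻¹ ∈ zpowers y ∧
      (zpowers x).map (MulAut.conj g).toMonoidHom = zpowers y :=
  h r hr x y hx hy

/-- Elements of the same prime order have centralizers of the same order. -/
theorem CycConj.card_centralizer_eq (h : CycConj G) {r : ℕ} (hr : r.Prime) {x y : G}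
    (hx : orderOf x = r) (hy : orderOf y = r) :
    Nat.card (centralizer ({x} : Set G)) = Nat.card (centralizer ({y} : Set G)) := by
  obtain ⟨g, -, hg⟩ := h.exists_conj_mem hr hx hy
  rw [centralizer_singleton_eq x, centralizer_singleton_eq y, ← hg]
  refine Nat.card_congr (Equiv.subtypeEquiv (MulAut.conj g).toEquiv fun z => ?_)
  simp only [mem_centralizer_iff, SetLike.mem_coe, coe_map, Set.mem_image, forall_exists_index, and_imp,
    forall_apply_eq_imp_iff₂]
  refine forall₂_congr fun w _ => ?_
  constructor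
  · intro e
    simpa using congrArg (MulAut.conj g) e
  · intro e
    exact (MulAut.conj g).injective (by simpa using e)

/-- All involutions are conjugate. -/
theorem CycConj.isConj_invol (h : CycConj G) {s t : G} (hs : orderOf s = 2) (ht : orderOf t = 2) :
    IsConj s t := by
  obtain ⟨g, hg, -⟩ := h.exists_conj_mem Nat.prime_two hs ht
  obtain ⟨k, hk⟩ := mem_zpowers_iff.1 hg
  refine isConj_iff.2 ⟨g, ?_⟩
  have ht2 : t ^ (2 : ℤ) = 1 := by
    rw [show ((2 : ℤ)) = ((2 : ℕ) : ℤ) from rfl, zpow_natCast, ← ht]; exact pow_orderOf_eq_one t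
  rcases Int.even_or_odd' k with ⟨j, rfl | rfl⟩
  · rw [zpow_mul, ht2, one_zpow] at hk
    have := conj_eq_one_iff.1 hk.symm
    rw [this, orderOf_one] at hs
    omega
  · rwa [zpow_add, zpow_mul, ht2, one_zpow, one_mul, zpow_one, eq_comm] at hk

theorem CycConj.transitive (h : CycConj G) (S : Sylow 2 G)
    (hc : ∀ a ∈ (S : Subgroup G), ∀ b ∈ (S : Subgroup G), a * b = b * a) {s t : G}
    (hs : s ∈ (S : Subgroup G)) (ht : t ∈ (S : Subgroup G)) (hs2 : orderOf s = 2)
    (ht2 : orderOf t = 2) : ∃ n ∈ normalizer ((S : Subgroup G) : Set G), n * s * n⁻¹ = t := by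
  obtain ⟨g, hg⟩ := isConj_iff.1 (h.isConj_invol hs2 ht2)
  exact exists_normalizer_conj S hc hs ht hg

/-- An element of prime order is central in some Sylow subgroup. -/
theorem CycConj.exists_sylow_le_centralizer (h : CycConj G) {r : ℕ} [hr : Fact r.Prime] {x : G}
    (hx : orderOf x = r) :
    ∃ P : Sylow r G, x ∈ (P : Subgroup G) ∧ (P : Subgroup G) ≤ centralizer ({x} : Set G) := by
  obtain ⟨P, hP⟩ := (IsPGroup.of_card (n := 1)
    (by rw [Nat.card_zpowers, hx, pow_one]) : IsPGroup r (zpowers x)).exists_le_sylow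
  haveI : Nontrivial (P : Subgroup G) := ⟨⟨⟨x, hP (mem_zpowers x)⟩, 1, fun e => by
    rw [show x = 1 from congrArg Subtype.val e, orderOf_one] at hx
    exact hr.out.one_lt.ne hx⟩⟩
  haveI := P.2.center_nontrivial
  obtain ⟨⟨z, hz⟩, hzo⟩ := exists_prime_orderOf_dvd_card' (G := center (P : Subgroup G)) r (by
    obtain ⟨k, hk⟩ := (P.2.to_subgroup (center (P : Subgroup G))).exists_card_eq
    have h1 := Finite.one_lt_card (α := center (P : Subgroup G))
    rw [hk] at h1 ⊢
    exact dvd_pow_self r (by rintro rfl; simp at h1))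
  have hzo' : orderOf (z : G) = r := by simpa using hzo
  obtain ⟨g, -, hg⟩ := h.exists_conj_mem hr.out hzo' hx
  refine ⟨g • P, ?_, ?_⟩
  · have : x ∈ (zpowers (z : G)).map (MulAut.conj g).toMonoidHom := hg ▸ mem_zpowers x
    rw [Transfer.Fusion.coe_smul_eq_map]
    exact map_mono (zpowers_le.2 z.2) this
  · intro a ha
    rw [Transfer.Fusion.coe_smul_eq_map] at ha
    obtain ⟨b, hb, rfl⟩ := ha
    rw [centralizer_singleton_eq, ← hg]
    refine mem_centralizer_iff.2 ?_
    rintro _ ⟨c, hc, rfl⟩
    obtain ⟨i, rfl⟩ := mem_zpowers_iff.1 hc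
    have hcomm : Commute b (z : G) := congrArg Subtype.val (mem_center_iff.1 hz ⟨b, hb⟩)
    rw [← map_mul, ← map_mul, ((hcomm.zpow_right i).symm).eq]

end Cfsg.Agent.EqConjOdd
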