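import Cfsg.Agent.Lib.EqConjOdd.Basic
import Cfsg.Agent.Lib.Coprime.Commutator
import Cfsg.Agent.Lib.Hall.MinimalNormal
import Cfsg.Agent.S0205
import Cfsg.Agent.S0494

/-!
# A normal odd subgroup is centralised by a simple subgroup of order 60

If every element of prime order of the normal subgroup is centralised by an involution other than the
central one, then on a chief factor the fixed groups of 15 involutions would cover everything, but
each of them has index at least `r ^ 2 ≥ 49`.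
-/

set_option autoImplicit false
set_option linter.style.haveILetI false

namespace Cfsg.Agent.EqConjOdd

open Subgroup

universe u

/-- Facts on the involutions of the alternating group of degree five. -/
theorem alt_five_count :
    (Finset.univ.filter fun x : alternatingGroup (Fin 5) => x * x = 1 ∧ x ≠ 1).card = 15 := by
  decide +kernel

theorem alt_five_four : ∀ x : alternatingGroup (Fin 5), x * x = 1 → x ≠ 1 →
    ∃ y : alternatingGroup (Fin 5), y * y = 1 ∧ y ≠ 1 ∧ y ≠ x ∧ x * y = y * x := by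
  decide +kernel

theorem alt_five_conj : ∀ x : alternatingGroup (Fin 5), x * x = 1 → x ≠ 1 →
    ∀ y : alternatingGroup (Fin 5), y * y = 1 → y ≠ 1 → ∃ c : alternatingGroup (Fin 5), c * x = y * c := by
  decide +kernel

/-- In a simple group of order 60 there are fifteen involutions and each lies in a four group. -/
theorem sixty_inv {K : Type*} [Group K] [Finite K] [IsSimpleGroup K] (h : Nat.card K = 60) :
    Nat.card {x : K // x * x = 1 ∧ x ≠ 1} = 15 ∧
      (∀ x : K, x * x = 1 → x ≠ 1 → ∃ y : K, y * y = 1 ∧ y ≠ 1 ∧ y ≠ x ∧ x * y = y * x) ∧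
      ∀ x y : K, x * x = 1 → x ≠ 1 → y * y = 1 → y ≠ 1 → ∃ c : K, c * x = y * c := by
  obtain ⟨e⟩ := S0494.result h
  refine ⟨?_, fun x hx hx1 => ?_, fun x y hx hx1 hy hy1 => ?_⟩
  · rw [← alt_five_count, ← Fintype.card_subtype, ← Nat.card_eq_fintype_card]
    exact Nat.card_congr (e.toEquiv.subtypeEquiv fun x => by
      simp [← map_mul])
  · obtain ⟨y, hy, hy1, hyx, hxy⟩ := alt_five_four (e x) (by rw [← map_mul, hx, map_one])
      (by simpa using hx1)
    exact ⟨e.symm y, by rw [← map_mul, hy, map_one], by simpa using hy1,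
      fun he => hyx (by rw [← he, e.apply_symm_apply]), e.injective (by simpa using hxy)⟩
  · obtain ⟨c, hc⟩ := alt_five_conj (e x) (by rw [← map_mul, hx, map_one]) (by simpa using hx1) (e y)
      (by rw [← map_mul, hy, map_one]) (by simpa using hy1)
    exact ⟨e.symm c, e.injective (by simpa using hc)⟩

section Action

variable {Q : Type*} [Group Q] [Finite Q]

/-- The points of `V` fixed by `g`. -/
def fixPts (V : Subgroup Q) (g : Q) : Subgroup Q := V ⊓ centralizer ({g} : Set Q)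

/-- The fixed points and the inverted elements of an involution are independent. -/
theorem card_inverted_mul (V : Subgroup Q) [IsMulCommutative V] (hodd : Odd (Nat.card V)) (g : Q)
    (I : Set Q) (hI : ∀ b ∈ I, b ∈ V ∧ g * b * g⁻¹ = b⁻¹) :
    Nat.card I * Nat.card (fixPts V g) ≤ Nat.card V := by
  have hcomm : ∀ a ∈ V, ∀ b ∈ V, a * b = b * a := fun a ha b hb =>
    congrArg Subtype.val (IsMulCommutative.is_comm.comm (⟨a, ha⟩ : V) ⟨b, hb⟩)
  rw [← Nat.card_prod]
  refine Nat.card_le_card_of_injective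
    (fun p : I × fixPts V g => (⟨p.1.1 * p.2.1, mul_mem (hI _ p.1.2).1 p.2.2.1⟩ : V)) ?_
  rintro ⟨⟨b, hb⟩, ⟨c, hc⟩⟩ ⟨⟨b', hb'⟩, ⟨c', hc'⟩⟩ h
  have h1 : b * c = b' * c' := congrArg Subtype.val h
  have hbV := (hI _ hb).1
  have hbV' := (hI _ hb').1
  set d := b'⁻¹ * b with hd
  have hdV : d ∈ V := mul_mem (inv_mem hbV') hbV
  have hd' : d = c' * c⁻¹ := by
    rw [hd, eq_mul_inv_iff_mul_eq, mul_assoc, h1, inv_mul_cancel_left]
  have hginv : g * d * g⁻¹ = d⁻¹ := by
    calc g * d * g⁻¹ = (g * b' * g⁻¹)⁻¹ * (g * b * g⁻¹) := by rw [hd]; group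
      _ = b' * b⁻¹ := by rw [(hI _ hb').2, (hI _ hb).2, inv_inv]
      _ = b⁻¹ * b' := hcomm _ hbV' _ (inv_mem hbV)
      _ = d⁻¹ := by rw [hd]; group
  have hgfix : g * d * g⁻¹ = d := by
    have hdc : d ∈ centralizer ({g} : Set Q) := hd' ▸ mul_mem hc'.2 (inv_mem hc.2)
    rw [mul_inv_eq_iff_eq_mul]
    exact (mem_centralizer_singleton_iff.1 hdc).symm
  have hd2 : (⟨d, hdV⟩ : V) ^ 2 = 1 := Subtype.ext (by
    show d ^ 2 = 1
    rw [sq, ← mul_inv_cancel d]
    congr 1
    exact hgfix.symm.trans hginv)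
  have hd1 : d = 1 := by
    have h2 := orderOf_dvd_of_pow_eq_one hd2
    have h3 : orderOf (⟨d, hdV⟩ : V) = 1 := Nat.eq_one_of_dvd_coprimes
      (Nat.coprime_two_left.2 hodd) h2 (orderOf_dvd_natCard _)
    exact congrArg Subtype.val (orderOf_eq_one_iff.1 h3)
  have hbb : b = b' := by rw [hd, inv_mul_eq_one] at hd1; exact hd1.symm
  subst hbb
  exact Prod.ext rfl (Subtype.ext (mul_left_cancel h1))

/-- The fixed points of an involution have index at least `r ^ 2`. -/
theorem fix_small {r : ℕ} (hr : r.Prime) (hr2 : r ≠ 2) (V : Subgroup Q) [IsMulCommutative V]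
    (hV : IsPGroup r V) {J : Set Q} (hJ : ∀ g ∈ J, g * g = 1 ∧ ∀ v ∈ V, g * v * g⁻¹ ∈ V)
    (hfour : ∀ g ∈ J, ∃ k ∈ J, g * k = k * g ∧ g * k ∈ J)
    (hne : ∀ g ∈ J, ¬ V ≤ centralizer ({g} : Set Q))
    (heq : ∀ g ∈ J, ∀ k ∈ J, Nat.card (fixPts V g) = Nat.card (fixPts V k)) {g : Q} (hg : g ∈ J) :
    Nat.card (fixPts V g) * (r * r) ≤ Nat.card V := by
  haveI : Fact r.Prime := ⟨hr⟩
  have hcomm : ∀ a ∈ V, ∀ b ∈ V, a * b = b * a := fun a ha b hb =>
    congrArg Subtype.val (IsMulCommutative.is_comm.comm (⟨a, ha⟩ : V) ⟨b, hb⟩)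
  obtain ⟨n, hn⟩ := hV.exists_card_eq
  have hodd : Odd (Nat.card V) := by rw [hn]; exact ((hr.odd_of_ne_two hr2)).pow
  have hpow : ∀ g ∈ J, ∃ m < n, Nat.card (fixPts V g) = r ^ m := by
    intro g hg
    obtain ⟨m, hm, hc⟩ := (Nat.dvd_prime_pow hr).1 (hn ▸ card_dvd_of_le (inf_le_left : fixPts V g ≤ V))
    refine ⟨m, lt_of_le_of_ne hm fun e => hne g hg ?_, hc⟩
    have := eq_of_le_of_card_ge (inf_le_left : fixPts V g ≤ V) (by rw [hn, ← e]; exact hc.ge)
    exact this ▸ inf_le_right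
  by_contra hbig
  push Not at hbig
  -- so every fixed group in sight is as large as possible
  obtain ⟨k, hk, hgk, hgkJ⟩ := hfour g hg
  obtain ⟨m, hm, hc⟩ := hpow g hg
  rw [hc, hn, ← pow_two, ← pow_add] at hbig
  have hmn : m + 1 = n := by
    have := (Nat.pow_lt_pow_iff_right hr.one_lt).1 hbig
    omega
  have hinv : g⁻¹ = g := inv_eq_of_mul_eq_one_right (hJ g hg).1
  -- an inverted element
  obtain ⟨a, haV, hac⟩ := SetLike.not_le_iff_exists.1 (hne g hg)
  set w := a⁻¹ * (g * a * g⁻¹) with hw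
  have hwV : w ∈ V := mul_mem (inv_mem haV) ((hJ g hg).2 a haV)
  have hw1 : w ≠ 1 := fun e => hac (mem_centralizer_singleton_iff.2 (by
    rw [hw, inv_mul_eq_one] at e
    exact (mul_inv_eq_iff_eq_mul.1 e.symm).symm))
  have hwinv : g * w * g⁻¹ = w⁻¹ := by
    rw [hw, hinv]
    simp only [mul_inv_rev, inv_inv, mul_assoc, hinv, (hJ g hg).1, mul_one]
  have hZinv : ∀ (τ : Q), τ * w * τ⁻¹ = w⁻¹ → ∀ b ∈ zpowers w, b ∈ V ∧ τ * b * τ⁻¹ = b⁻¹ := by
    rintro τ hτ b hb
    obtain ⟨e, rfl⟩ := mem_zpowers_iff.1 hb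
    exact ⟨zpow_mem hwV e, by rw [← conj_zpow, hτ, inv_zpow]⟩
  have hwcard : r ∣ Nat.card (zpowers w) := by
    rw [Nat.card_zpowers]
    have h1 : orderOf w ∣ r ^ n := hn ▸ Subgroup.orderOf_dvd_natCard _ hwV
    obtain ⟨j, -, hj⟩ := (Nat.dvd_prime_pow hr).1 h1
    rcases j with - | j
    · exact absurd (orderOf_eq_one_iff.1 (by rw [hj, pow_zero])) hw1
    · exact hj ▸ dvd_pow_self r (Nat.succ_ne_zero j)
  -- `zpowers w` is exactly the set of inverted elements
  have hI : {b : Q | b ∈ V ∧ g * b * g⁻¹ = b⁻¹} ⊆ (zpowers w : Set Q) := by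
    have hsub : (zpowers w : Set Q) ⊆ {b : Q | b ∈ V ∧ g * b * g⁻¹ = b⁻¹} := fun b hb => hZinv g hwinv b hb
    have hle := card_inverted_mul V hodd g {b : Q | b ∈ V ∧ g * b * g⁻¹ = b⁻¹} fun b hb => hb
    rw [hc, hn, ← hmn, pow_succ'] at hle
    have h1 : Nat.card {b : Q | b ∈ V ∧ g * b * g⁻¹ = b⁻¹} ≤ r :=
      Nat.le_of_mul_le_mul_right hle (pow_pos hr.pos m)
    have h2 : r ≤ Nat.card (zpowers w) := Nat.le_of_dvd Nat.card_pos hwcard
    have h3 : (zpowers w : Set Q) = {b : Q | b ∈ V ∧ g * b * g⁻¹ = b⁻¹} := by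
      refine Set.eq_of_subset_of_ncard_le hsub ?_ (Set.toFinite _)
      rw [← Nat.card_coe_set_eq, ← Nat.card_coe_set_eq]
      exact h1.trans h2
    rw [h3]
  have hwo : orderOf w = r := by
    have hle := card_inverted_mul V hodd g (zpowers w : Set Q) (hZinv g hwinv)
    rw [hc, hn, ← hmn, pow_succ'] at hle
    have h1 : Nat.card (zpowers w) ≤ r := Nat.le_of_mul_le_mul_right hle (pow_pos hr.pos m)
    rw [← Nat.card_zpowers]
    exact le_antisymm h1 (Nat.le_of_dvd Nat.card_pos hwcard)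
  -- the second involution fixes or inverts `w`
  have hk2 := (hJ k hk).1
  have hkinv : k⁻¹ = k := inv_eq_of_mul_eq_one_right hk2
  have hkw : k * w * k⁻¹ ∈ zpowers w := hI ⟨(hJ k hk).2 w hwV, by
    calc g * (k * w * k⁻¹) * g⁻¹ = (g * k) * w * (g * k)⁻¹ := by group
      _ = k * (g * w * g⁻¹) * k⁻¹ := by rw [hgk]; group
      _ = _ := by rw [hwinv]; group⟩
  obtain ⟨τ, hτJ, hτc, hσJ, hτw⟩ : ∃ τ ∈ J, g * τ = τ * g ∧ g * τ ∈ J ∧ τ * w * τ⁻¹ = w⁻¹ := by
    obtain ⟨e, he⟩ := mem_zpowers_iff.1 hkw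
    have he2 : w ^ (e * e - 1) = 1 := by
      rw [zpow_sub, zpow_one, zpow_mul, he, conj_zpow, he, mul_inv_eq_one]
      rw [show k * (k * w * k⁻¹) * k⁻¹ = (k * k) * w * (k * k)⁻¹ by group, hk2]
      group
    rw [← orderOf_dvd_iff_zpow_eq_one, hwo] at he2
    have hprime : Prime (r : ℤ) := Nat.prime_iff_prime_int.1 hr
    rw [show e * e - 1 = (e - 1) * (e + 1) by ring] at he2
    rcases hprime.dvd_or_dvd he2 with h1 | h1
    · refine ⟨g * k, hgkJ, ?_, ?_, ?_⟩
      · rw [← mul_assoc, (hJ g hg).1, one_mul, mul_assoc, ← hgk, ← mul_assoc, (hJ g hg).1, one_mul]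
      · rw [← mul_assoc, (hJ g hg).1, one_mul]; exact hk
      · have : w ^ (e - 1) = 1 := by rw [← orderOf_dvd_iff_zpow_eq_one, hwo]; exact h1
        rw [zpow_sub, zpow_one, mul_inv_eq_one] at this
        calc g * k * w * (g * k)⁻¹ = g * (k * w * k⁻¹) * g⁻¹ := by group
          _ = _ := by rw [← he, this, hwinv]
    · refine ⟨k, hk, hgk, hgkJ, ?_⟩
      have : w ^ (e + 1) = 1 := by rw [← orderOf_dvd_iff_zpow_eq_one, hwo]; exact h1
      rw [zpow_add, zpow_one, mul_eq_one_iff_eq_inv] at this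
      rw [← he, this]
  have hc' : Nat.card (fixPts V τ) = r ^ m := (heq τ hτJ g hg).trans hc
  have hτI : {b : Q | b ∈ V ∧ τ * b * τ⁻¹ = b⁻¹} ⊆ (zpowers w : Set Q) := by
    have hle := card_inverted_mul V hodd τ {b : Q | b ∈ V ∧ τ * b * τ⁻¹ = b⁻¹} fun b hb => hb
    rw [hc', hn, ← hmn, pow_succ'] at hle
    have h1 : Nat.card {b : Q | b ∈ V ∧ τ * b * τ⁻¹ = b⁻¹} ≤ r :=
      Nat.le_of_mul_le_mul_right hle (pow_pos hr.pos m)
    have h3 : (zpowers w : Set Q) = {b : Q | b ∈ V ∧ τ * b * τ⁻¹ = b⁻¹} := by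
      refine Set.eq_of_subset_of_ncard_le (fun b hb => hZinv τ hτw b hb) ?_ (Set.toFinite _)
      rw [← Nat.card_coe_set_eq, ← Nat.card_coe_set_eq, SetLike.coe_sort_coe, Nat.card_zpowers, hwo]
      exact h1
    rw [h3]
  -- so `τ` fixes the fixed points of `g`
  have hτfix : ∀ c ∈ fixPts V g, τ * c = c * τ := by
    intro c hc0
    set d := c⁻¹ * (τ * c * τ⁻¹) with hd
    have hgc : g * c * g⁻¹ = c :=
      mul_inv_eq_iff_eq_mul.2 (mem_centralizer_singleton_iff.1 hc0.2).symm
    have hdV : d ∈ V := mul_mem (inv_mem hc0.1) ((hJ τ hτJ).2 c hc0.1)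
    have hgd : g * d * g⁻¹ = d := by
      calc g * d * g⁻¹ = (g * c * g⁻¹)⁻¹ * ((g * τ) * c * (g * τ)⁻¹) := by rw [hd]; group
        _ = (g * c * g⁻¹)⁻¹ * (τ * (g * c * g⁻¹) * τ⁻¹) := by rw [hτc]; group
        _ = _ := by rw [hgc]
    have hτinv : τ⁻¹ = τ := inv_eq_of_mul_eq_one_right (hJ τ hτJ).1
    have hτd : τ * d * τ⁻¹ = d⁻¹ := by
      rw [hd, hτinv]
      simp only [mul_inv_rev, inv_inv, mul_assoc, hτinv, (hJ τ hτJ).1, mul_one]
    obtain ⟨-, hdg⟩ := hZinv g hwinv d (hτI ⟨hdV, hτd⟩)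
    have hd2 : d ^ 2 = 1 := by
      have := hgd.symm.trans hdg
      rw [sq, ← mul_inv_cancel d, ← this]
    have hd1 : d = 1 := by
      have h3 : orderOf d = 1 := Nat.eq_one_of_dvd_coprimes (Nat.coprime_two_left.2 hodd)
        (orderOf_dvd_of_pow_eq_one hd2) (Subgroup.orderOf_dvd_natCard _ hdV)
      exact orderOf_eq_one_iff.1 h3
    rw [hd, inv_mul_eq_one] at hd1
    exact mul_inv_eq_iff_eq_mul.1 hd1.symm
  -- hence `g τ` centralises the product, which is `V`
  refine hne (g * τ) hσJ ?_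
  have hmulsurj : ∀ v ∈ V, ∃ b ∈ zpowers w, ∃ c ∈ fixPts V g, b * c = v := by
    let f : zpowers w × fixPts V g → V := fun p =>
      ⟨p.1.1 * p.2.1, mul_mem (hZinv g hwinv _ p.1.2).1 p.2.2.1⟩
    have hf : Function.Injective f := by
      rintro ⟨⟨b, hb⟩, ⟨c, hc0⟩⟩ ⟨⟨b', hb'⟩, ⟨c', hc0'⟩⟩ h
      have h1 : b * c = b' * c' := congrArg Subtype.val h
      have hd : b'⁻¹ * b = c' * c⁻¹ := by
        rw [eq_mul_inv_iff_mul_eq, mul_assoc, h1, inv_mul_cancel_left]
      obtain ⟨hdV, hdi⟩ := hZinv g hwinv _ (mul_mem (inv_mem hb') hb)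
      have hdc : b'⁻¹ * b ∈ centralizer ({g} : Set Q) := hd ▸ mul_mem hc0'.2 (inv_mem hc0.2)
      rw [mul_inv_eq_iff_eq_mul, ← mem_centralizer_singleton_iff.1 hdc, mul_left_inj] at hdi
      have hd2 : (b'⁻¹ * b) ^ 2 = 1 := by rw [sq]; exact mul_eq_one_iff_eq_inv.2 hdi
      have h3 : orderOf (b'⁻¹ * b) = 1 := Nat.eq_one_of_dvd_coprimes (Nat.coprime_two_left.2 hodd)
        (orderOf_dvd_of_pow_eq_one hd2) (Subgroup.orderOf_dvd_natCard _ hdV)
      have hbb : b' = b := inv_mul_eq_one.1 (orderOf_eq_one_iff.1 h3)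
      subst hbb
      exact Prod.ext rfl (Subtype.ext (mul_left_cancel h1))
    have hs := (Nat.bijective_iff_injective_and_card f).2 ⟨hf, by
      rw [Nat.card_prod, Nat.card_zpowers, hwo, hc, hn, ← hmn, pow_succ']⟩
    intro v hv
    obtain ⟨⟨⟨b, hb⟩, ⟨c, hc0⟩⟩, h⟩ := hs.2 ⟨v, hv⟩
    exact ⟨b, hb, c, hc0, congrArg Subtype.val h⟩
  intro v hv
  obtain ⟨b, hb, c, hc0, rfl⟩ := hmulsurj v hv
  have h1 : g * τ * b * (g * τ)⁻¹ = b := by
    calc g * τ * b * (g * τ)⁻¹ = g * (τ * b * τ⁻¹) * g⁻¹ := by group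
      _ = (g * b * g⁻¹)⁻¹ := by rw [(hZinv τ hτw b hb).2]; group
      _ = b := by rw [(hZinv g hwinv b hb).2, inv_inv]
  have h2 : g * τ * c * (g * τ)⁻¹ = c := by
    rw [mul_inv_eq_iff_eq_mul, mul_assoc, hτfix c hc0, ← mul_assoc,
      ← mem_centralizer_singleton_iff.1 hc0.2, mul_assoc]
  refine mem_centralizer_singleton_iff.2 (mul_inv_eq_iff_eq_mul.1 ?_).symm
  calc g * τ * (b * c) * (g * τ)⁻¹ = (g * τ * b * (g * τ)⁻¹) * (g * τ * c * (g * τ)⁻¹) := by group
    _ = _ := by rw [h1, h2]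

end Action

section Main

open scoped commutatorElement

theorem five_centralizes {C : Type u} [Group C] [Finite C] (W K : Subgroup C) [W.Normal] {t : C}
    (ht : orderOf t = 2) (htz : t ∈ center C) (hKs : IsSimpleGroup K) (hK60 : Nat.card K = 60)
    (hsup : W ⊔ (zpowers t ⊔ K) = ⊤) (hcop : (Nat.card W).Coprime 30)
    (hcyc : ∀ r : ℕ, ∀ [Fact r.Prime], ∀ R : Sylow r W, IsCyclic R ∨ ∀ a ∈ (R : Subgroup W), a ^ r = 1)
    (hfix : ∀ x ∈ W, (orderOf x).Prime → ∃ s : C, orderOf s = 2 ∧ Commute s x ∧ s ≠ t) :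
    K ≤ centralizer (W : Set C) := by
  classical
  haveI := hKs
  have hWodd : Odd (Nat.card W) := Nat.coprime_two_right.1 (hcop.coprime_dvd_right (by norm_num))
  haveI : Group.IsSolvable W := S0205.result hWodd
  have hcop60 : (Nat.card W).Coprime 60 := by
    rw [show (60 : ℕ) = 2 * 30 by norm_num]
    exact (Nat.coprime_two_right.2 hWodd).mul_right hcop
  have hKnW : K ≤ normalizer (W : Set C) := by
    rw [normalizer_eq_top_iff.2 ‹W.Normal›]; exact le_top
  set M := ⁅W, K⁆ with hM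
  have hMW : M ≤ W := Coprime.commutator_le_of_le_normalizer hKnW
  have hMn : M.Normal := by
    rw [← normalizer_eq_top_iff, eq_top_iff, ← hsup]
    refine sup_le (normalizer_commutator_ge_left W K) (sup_le ?_ (normalizer_commutator_ge_right W K))
    exact zpowers_le.2 (center_le_normalizer _ htz)
  haveI := hMn
  have hMK : ⁅M, K⁆ = M := Coprime.commutator_commutator_eq hKnW
    (by rw [hK60]; exact hcop60.symm) (Or.inr inferInstance)
  by_contra hne
  have hM0 : M ≠ ⊥ := fun e => hne (Coprime.commutator_eq_bot_iff_le_centralizer'.1 e)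
  -- a chief factor at the top of `M`
  obtain ⟨N, -, ⟨hNn, hNM⟩, hmax⟩ := Set.Finite.exists_le_maximal
    (Set.toFinite {N : Subgroup C | N.Normal ∧ N < M}) (a := (⊥ : Subgroup C))
    ⟨inferInstance, bot_lt_iff_ne_bot.2 hM0⟩
  haveI := hNn
  set f := QuotientGroup.mk' N with hf
  have hfs : Function.Surjective f := QuotientGroup.mk'_surjective N
  set V := M.map f with hV
  haveI hVn : V.Normal := hMn.map f hfs
  haveI : Group.IsSolvable M := Group.isSolvable_of_isSolvable_injective (inclusion_injective hMW)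
  haveI : Group.IsSolvable V := Coprime.isSolvable_map f inferInstance
  have hV0 : V ≠ ⊥ := fun e => hNM.not_ge (by
    rw [hV, Subgroup.map_eq_bot_iff, hf, QuotientGroup.ker_mk'] at e; exact e)
  have hmin : ∀ L : Subgroup (C ⧸ N), L.Normal → L ≤ V → L = ⊥ ∨ L = V := by
    intro L hL hLV
    have hLn : (L.comap f).Normal := hL.comap f
    have hNL : N ≤ L.comap f := fun x hx => by
      rw [mem_comap, show f x = 1 from (QuotientGroup.eq_one_iff x).2 hx]; exact one_mem L
    have hLM : L.comap f ≤ M := by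
      refine (comap_mono hLV).trans ?_
      rw [hV, comap_map_eq, hf, QuotientGroup.ker_mk', sup_of_le_left hNM.le]
    rcases hLM.eq_or_lt with h | h
    · right
      rw [hV, ← h, map_comap_eq_self_of_surjective hfs]
    · left
      rw [← map_comap_eq_self_of_surjective hfs L, Subgroup.map_eq_bot_iff, hf, QuotientGroup.ker_mk']
      exact hmax ⟨hLn, h⟩ hNL
  obtain ⟨r, hr, hrV, hVp, hVc, hVe⟩ := Hall.minimal_normal_isElementaryAbelian hV0 hmin
  haveI := hVc
  haveI : Fact r.Prime := ⟨hr⟩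
  have hrW : r ∣ Nat.card W :=
    (hrV.trans (M.card_map_dvd f)).trans (card_dvd_of_le hMW)
  have hr7 : 7 ≤ r := by
    have h30 : ¬ r ∣ 30 := fun h => hr.not_dvd_one (hcop ▸ Nat.dvd_gcd hrW h)
    by_contra h7
    push Not at h7
    have h2 := hr.two_le
    interval_cases r <;> revert h30 hr <;> decide +kernel
  -- nothing in `K` but the identity centralises `V`
  have hnotriv : ¬ K ≤ (centralizer (V : Set (C ⧸ N))).comap f := by
    intro hle
    apply hNM.not_ge
    rw [← hMK, commutator_le]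
    intro m hm k hk
    rw [← QuotientGroup.eq_one_iff]
    change f ⁅m, k⁆ = 1
    rw [map_commutatorElement, commutatorElement_eq_one_iff_mul_comm]
    exact mem_centralizer_iff.1 (hle hk) _ (mem_map_of_mem f hm)
  have hfaith : ∀ k : K, k ≠ 1 → ¬ V ≤ centralizer ({f (k : C)} : Set (C ⧸ N)) := by
    intro k hk hle
    apply hnotriv
    haveI : ((centralizer (V : Set (C ⧸ N))).comap f).Normal := Normal.comap inferInstance f
    rcases (inferInstance : (((centralizer (V : Set (C ⧸ N))).comap f).subgroupOf K).Normal).eq_bot_or_eq_top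
      with h | h
    · exfalso
      have hmem : k ∈ ((centralizer (V : Set (C ⧸ N))).comap f).subgroupOf K := by
        rw [mem_subgroupOf, mem_comap, mem_centralizer_iff]
        exact fun v hv => mem_centralizer_singleton_iff.1 (hle hv)
      rw [h, mem_bot] at hmem
      exact hk hmem
    · exact subgroupOf_eq_top.1 h
  set I := {k : K // k * k = 1 ∧ k ≠ 1}
  obtain ⟨hI15, hfour, hconj⟩ := sixty_inv hK60
  set J : Set (C ⧸ N) := Set.range fun k : I => f (k.1 : C) with hJdef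
  -- a lift of order `r`
  have hlift : ∀ a ∈ V, a ≠ 1 → ∃ x ∈ W, orderOf x = r ∧ f x = a := by
    obtain ⟨R⟩ : Nonempty (Sylow r M) := inferInstance
    set Rc := (R : Subgroup M).map M.subtype with hRc
    have hRV : ∀ a ∈ V, ∃ x ∈ Rc, f x = a := by
      set g : M →* V := f.subgroupMap M with hg
      have hgs : Function.Surjective g := f.subgroupMap_surjective M
      have htop : (R : Subgroup M).map g = ⊤ := by
        refine index_eq_one.1 ?_
        obtain ⟨j, hj⟩ := hVp.exists_card_eq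
        obtain ⟨i, -, hi⟩ := (Nat.dvd_prime_pow hr).1 (hj ▸ ((R : Subgroup M).map g).index_dvd_card)
        have h3 := (R : Subgroup M).index_map_dvd hgs
        rw [hi] at h3 ⊢
        rcases i with - | i
        · rfl
        · exact absurd ((dvd_pow_self r i.succ_ne_zero).trans h3) R.not_dvd_index
      intro a ha
      obtain ⟨x, hx, hxa⟩ := htop.ge (mem_top (⟨a, ha⟩ : V))
      exact ⟨x, ⟨x, hx, rfl⟩, congrArg Subtype.val hxa⟩
    have hRp : IsPGroup r Rc := R.2.map _
    have hRW : Rc ≤ W := (map_subtype_le _).trans hMW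
    obtain ⟨R0, hR0⟩ := (hRp.comap_of_injective W.subtype W.subtype_injective).exists_le_sylow
    intro a ha ha1
    rcases hcyc r R0 with hc | he
    · exfalso
      haveI := hc
      haveI hRc' : IsCyclic Rc := by
        have e : IsCyclic (Rc.subgroupOf W) := isCyclic_of_injective (inclusion hR0) (inclusion_injective hR0)
        exact (subgroupOfEquivOfLe hRW).isCyclic.1 e
      obtain ⟨⟨g0, hg0⟩, hgen⟩ := IsCyclic.exists_generator (α := Rc)
      have hVz : ∀ v ∈ V, ∃ e : ℤ, f g0 ^ e = v := by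
        intro v hv
        obtain ⟨x, hx, rfl⟩ := hRV v hv
        obtain ⟨e, he⟩ := mem_zpowers_iff.1 (hgen ⟨x, hx⟩)
        exact ⟨e, by rw [← map_zpow]; exact congrArg f (congrArg Subtype.val he)⟩
      apply hnotriv
      have hg0V : f g0 ∈ V := mem_map_of_mem f ((map_subtype_le _) hg0)
      set A := ((centralizer ({f g0} : Set (C ⧸ N))).comap f).subgroupOf K with hA
      have hcomm : _root_.commutator K ≤ A := by
        rw [commutator_eq_closure, closure_le]
        rintro _ ⟨k, l, rfl⟩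
        obtain ⟨e1, he1⟩ := hVz _ (hVn.conj_mem _ hg0V (f (k : C))⁻¹)
        obtain ⟨e2, he2⟩ := hVz _ (hVn.conj_mem _ hg0V (f (l : C))⁻¹)
        have step : ∀ (p q : C ⧸ N) (i j : ℤ), f g0 ^ i = p * f g0 * p⁻¹ → f g0 ^ j = q * f g0 * q⁻¹ →
            p * q * f g0 * (p * q)⁻¹ = f g0 ^ (i * j) := by
          intro p q i j hp hq
          calc p * q * f g0 * (p * q)⁻¹ = p * (q * f g0 * q⁻¹) * p⁻¹ := by group
            _ = _ := by rw [← hq, ← conj_zpow, ← hp, ← zpow_mul]
        have hkl : (f (k : C))⁻¹ * (f (l : C))⁻¹ * f g0 * ((f (k : C))⁻¹ * (f (l : C))⁻¹)⁻¹ =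
            (f (l : C))⁻¹ * (f (k : C))⁻¹ * f g0 * ((f (l : C))⁻¹ * (f (k : C))⁻¹)⁻¹ := by
          rw [step _ _ _ _ he1 he2, step _ _ _ _ he2 he1, mul_comm]
        rw [SetLike.mem_coe, hA, mem_subgroupOf, mem_comap, mem_centralizer_singleton_iff]
        simp only [commutatorElement_def, Subgroup.coe_mul, InvMemClass.coe_inv, map_mul, map_inv]
        calc f (k : C) * f (l : C) * (f (k : C))⁻¹ * (f (l : C))⁻¹ * f g0
            = f (k : C) * f (l : C) * ((f (k : C))⁻¹ * (f (l : C))⁻¹ * f g0 *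
                ((f (k : C))⁻¹ * (f (l : C))⁻¹)⁻¹) * ((f (k : C))⁻¹ * (f (l : C))⁻¹) := by group
          _ = _ := by rw [hkl]; group
      have htop : _root_.commutator K = ⊤ := by
        rcases (inferInstance : (_root_.commutator K).Normal).eq_bot_or_eq_top with h | h
        · exfalso
          rw [_root_.commutator_def, commutator_eq_bot_iff_le_centralizer, coe_top, centralizer_univ] at h
          exact SmallSimple.Basic.not_comm_of_not_prime (G := K) (by rw [hK60]; norm_num)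
            ⟨⟨fun a b => mem_center_iff.1 (h (mem_top b)) a⟩⟩
        · exact h
      intro k hk
      rw [mem_comap, mem_centralizer_iff]
      intro v hv
      obtain ⟨e, rfl⟩ := hVz v hv
      have h1 : f k * f g0 = f g0 * f k :=
        mem_centralizer_singleton_iff.1 (show f k ∈ centralizer ({f g0} : Set (C ⧸ N)) from
          hcomm (htop ▸ mem_top (⟨k, hk⟩ : K)))
      exact ((Commute.zpow_left h1.symm e).eq)
    · obtain ⟨x, hx, rfl⟩ := hRV a ha
      refine ⟨x, hRW hx, orderOf_eq_prime ?_ ?_, rfl⟩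
      · exact congrArg Subtype.val (he ⟨x, hRW hx⟩ (hR0 (mem_subgroupOf.2 hx)))
      · rintro rfl; exact ha1 (map_one f)
  have hcover : ∀ a ∈ V, a ≠ 1 → ∃ g ∈ J, a ∈ fixPts V g := by
    intro a ha ha1
    obtain ⟨x, hxW, hxo, rfl⟩ := hlift a ha ha1
    obtain ⟨s, hs, hsx, hst⟩ := hfix x hxW (by rwa [hxo])
    haveI : (zpowers t).Normal := ⟨fun n hn g => by
      obtain ⟨e, rfl⟩ := mem_zpowers_iff.1 hn
      rw [mem_center_iff.1 (zpow_mem htz e) g, mul_inv_cancel_right]
      exact zpow_mem (mem_zpowers t) e⟩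
    have hsmem : s ∈ ((W ⊔ (zpowers t ⊔ K) : Subgroup C) : Set C) := by rw [hsup]; exact mem_top s
    rw [normal_mul] at hsmem
    obtain ⟨w, hw, c, hc, rfl⟩ := hsmem
    have hc' : c ∈ ((zpowers t ⊔ K : Subgroup C) : Set C) := hc
    rw [normal_mul] at hc'
    obtain ⟨u, hu, k, hk, rfl⟩ := hc'
    have huc : ∀ g : C, g * u = u * g := fun g => by
      obtain ⟨e, rfl⟩ := mem_zpowers_iff.1 hu
      exact mem_center_iff.1 (zpow_mem htz e) g
    have hu2 : u * u = 1 := by
      obtain ⟨e, rfl⟩ := mem_zpowers_iff.1 hu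
      rw [← zpow_add, ← two_mul, zpow_mul, show t ^ (2 : ℤ) = 1 by
        rw [show ((2 : ℤ)) = ((2 : ℕ) : ℤ) from rfl, zpow_natCast, ← ht]; exact pow_orderOf_eq_one t,
        one_zpow]
    set m := k * w * k⁻¹ * w⁻¹ with hm
    have hmM : m ∈ M := by
      rw [hM, commutator_comm]
      exact commutator_mem_commutator hk hw
    have hsq : w * m * w * (k * k) = 1 := by
      have h2 : w * (u * k) * (w * (u * k)) = 1 := by
        rw [← sq, ← hs]; exact pow_orderOf_eq_one _
      rw [← h2, ← huc k]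
      symm
      calc w * (k * u) * (w * (k * u)) = w * k * (u * (w * k)) * u := by group
        _ = w * k * ((w * k) * u) * u := by rw [huc (w * k)]
        _ = w * m * w * (k * k) * (u * u) := by rw [hm]; group
        _ = _ := by rw [hu2, mul_one]
    have hk2 : k * k = 1 := by
      have h1 : k * k ∈ W := by
        rw [eq_inv_of_mul_eq_one_right hsq]
        exact inv_mem (mul_mem (mul_mem hw (hMW hmM)) hw)
      have h3 : orderOf (k * k) = 1 := Nat.eq_one_of_dvd_coprimes (by rw [hK60]; exact hcop60)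
        (Subgroup.orderOf_dvd_natCard _ h1) (Subgroup.orderOf_dvd_natCard _ (mul_mem hk hk))
      exact orderOf_eq_one_iff.1 h3
    rw [hk2, mul_one] at hsq
    have hwM : w ∈ M := by
      obtain ⟨q, hq⟩ : ∃ q, orderOf w = 2 * q + 1 :=
        Odd.of_dvd_nat hWodd (Subgroup.orderOf_dvd_natCard _ hw)
      have h2 : w * w ∈ M := by
        have e : w * w = m⁻¹ := by
          rw [show m = w⁻¹ * (w * m * w) * w⁻¹ by simp [mul_assoc], hsq]
          simp
        rw [e]
        exact inv_mem hmM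
      have : w = ((w * w) ^ q)⁻¹ := by
        rw [eq_inv_iff_mul_eq_one, ← sq w, ← pow_mul, ← pow_succ', ← hq]
        exact pow_orderOf_eq_one w
      rw [this]
      exact inv_mem (pow_mem h2 q)
    have hk1 : k ≠ 1 := by
      rintro rfl
      rw [hm] at hsq
      have hw2 : w * w = 1 := by simpa using hsq
      have hw1 : w = 1 := by
        have h3 : orderOf w = 1 := Nat.eq_one_of_dvd_coprimes (Nat.coprime_two_left.2 hWodd)
          (orderOf_dvd_of_pow_eq_one (by rw [sq]; exact hw2)) (Subgroup.orderOf_dvd_natCard _ hw)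
        exact orderOf_eq_one_iff.1 h3
      simp only [hw1, one_mul, mul_one] at hs hst
      obtain ⟨e, rfl⟩ := mem_zpowers_iff.1 hu
      rcases Int.even_or_odd' e with ⟨j, rfl | rfl⟩
      · rw [zpow_mul, show t ^ (2 : ℤ) = 1 by
          rw [show ((2 : ℤ)) = ((2 : ℕ) : ℤ) from rfl, zpow_natCast, ← ht]; exact pow_orderOf_eq_one t,
          one_zpow, orderOf_one] at hs
        omega
      · apply hst
        rw [zpow_add, zpow_mul, show t ^ (2 : ℤ) = 1 by
          rw [show ((2 : ℤ)) = ((2 : ℕ) : ℤ) from rfl, zpow_natCast, ← ht]; exact pow_orderOf_eq_one t,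
          one_zpow, one_mul, zpow_one]
    refine ⟨f k, ⟨⟨⟨k, hk⟩, Subtype.ext hk2, fun e => hk1 (congrArg Subtype.val e)⟩, rfl⟩, ha, ?_⟩
    change f x ∈ centralizer ({f k} : Set (C ⧸ N))
    rw [mem_centralizer_singleton_iff]
    have h1 : f w * f x = f x * f w :=
      congrArg Subtype.val (IsMulCommutative.is_comm.comm (⟨f w, mem_map_of_mem f hwM⟩ : V) ⟨f x, ha⟩)
    have h2 : f (w * (u * k)) * f x = f x * f (w * (u * k)) := by
      rw [← map_mul, ← map_mul, hsx.eq]
    have h3 : f u * f x = f x * f u := by rw [← map_mul, ← map_mul, huc]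
    simp only [map_mul] at h2
    have h4 : f u * (f k * f x) = f u * (f x * f k) := by
      apply mul_left_cancel (a := f w)
      calc f w * (f u * (f k * f x)) = f w * (f u * f k) * f x := by group
        _ = f x * (f w * (f u * f k)) := h2
        _ = f w * (f x * f u) * f k := by rw [← mul_assoc (f w) (f x), h1]; group
        _ = _ := by rw [← h3]; group
    exact (mul_left_cancel h4).symm
  -- count
  have hsmall : ∀ g ∈ J, Nat.card (fixPts V g) * (r * r) ≤ Nat.card V := by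
    intro g hg
    refine fix_small hr (by omega) V hVp (J := J) ?_ ?_ ?_ ?_ hg
    · rintro _ ⟨⟨k, hk, -⟩, rfl⟩
      exact ⟨by rw [← map_mul, ← Subgroup.coe_mul, hk, OneMemClass.coe_one, map_one],
        fun v hv => hVn.conj_mem v hv _⟩
    · rintro _ ⟨⟨k, hk, hk1⟩, rfl⟩
      obtain ⟨l, hl, hl1, hlk, hkl⟩ := hfour k hk hk1
      refine ⟨_, ⟨⟨l, hl, hl1⟩, rfl⟩, ?_, ⟨⟨k * l, ?_, ?_⟩, ?_⟩⟩
      · simp only [← map_mul, ← Subgroup.coe_mul, hkl]
      · rw [mul_assoc, ← mul_assoc l, ← hkl, mul_assoc, hl, mul_one, hk]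
      · intro e
        exact hlk ((eq_inv_of_mul_eq_one_right e).trans (inv_eq_of_mul_eq_one_right hk))
      · simp only [Subgroup.coe_mul, map_mul]
    · rintro _ ⟨⟨k, -, hk1⟩, rfl⟩
      exact hfaith k hk1
    · rintro _ ⟨⟨k, hk, hk1⟩, rfl⟩ _ ⟨⟨l, hl, hl1⟩, rfl⟩
      obtain ⟨c, hc⟩ := hconj k l hk hk1 hl hl1
      have hc' : f (c : C) * f (k : C) = f (l : C) * f (c : C) := by
        rw [← map_mul, ← map_mul, ← Subgroup.coe_mul, hc, Subgroup.coe_mul]
      refine Nat.card_congr (Equiv.subtypeEquiv (MulAut.conj (f (c : C))).toEquiv fun v => ?_)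
      simp only [fixPts, mem_inf, mem_centralizer_singleton_iff, MulEquiv.toEquiv_eq_coe,
        EquivLike.coe_coe, MulAut.conj_apply]
      set p := f (c : C)
      have hl' : f (l : C) = p * f (k : C) * p⁻¹ := by rw [hc', mul_inv_cancel_right]
      refine and_congr ⟨fun h => hVn.conj_mem v h p, fun h => ?_⟩ ⟨fun h => ?_, fun h => ?_⟩
      · have := hVn.conj_mem _ h p⁻¹
        simpa [mul_assoc] using this
      · rw [hl']
        calc p * v * p⁻¹ * (p * f (k : C) * p⁻¹) = p * (v * f (k : C)) * p⁻¹ := by group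
          _ = _ := by rw [h]; group
      · rw [hl'] at h
        calc v * f (k : C) = p⁻¹ * (p * v * p⁻¹ * (p * f (k : C) * p⁻¹)) * p := by group
          _ = _ := by rw [h]; group
  haveI : Fintype I := Fintype.ofFinite _
  haveI : Fintype (C ⧸ N) := Fintype.ofFinite _
  set T : Finset (C ⧸ N) := Finset.univ.biUnion fun k : I => (fixPts V (f (k.1 : C)) : Set (C ⧸ N)).toFinset
  have hsub : (V : Set (C ⧸ N)).toFinset ⊆ T := by
    intro a ha
    rw [Set.mem_toFinset, SetLike.mem_coe] at ha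
    simp only [T, Finset.mem_biUnion, Finset.mem_univ, true_and, Set.mem_toFinset, SetLike.mem_coe]
    by_cases h1 : a = 1
    · obtain ⟨k0, hk0⟩ : ∃ k : K, k * k = 1 ∧ k ≠ 1 := by
        by_contra h0
        push Not at h0
        have : IsEmpty I := ⟨fun k => k.2.2 (h0 k.1 k.2.1)⟩
        rw [Nat.card_of_isEmpty] at hI15
        omega
      exact ⟨⟨k0, hk0⟩, h1 ▸ one_mem _⟩
    · obtain ⟨_, ⟨k, rfl⟩, h⟩ := hcover a ha h1
      exact ⟨k, h⟩
  have hcount : Nat.card V ≤ ∑ k : I, Nat.card (fixPts V (f (k.1 : C))) := by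
    rw [← SetLike.coe_sort_coe, Nat.card_eq_card_toFinset]
    refine (Finset.card_le_card hsub).trans (Finset.card_biUnion_le.trans (le_of_eq ?_))
    exact Finset.sum_congr rfl fun k _ => (Nat.card_eq_card_toFinset _).symm
  have hbound : (∑ k : I, Nat.card (fixPts V (f (k.1 : C)))) * (r * r) ≤ 15 * Nat.card V := by
    rw [Finset.sum_mul]
    refine (Finset.sum_le_card_nsmul _ _ (Nat.card V) fun k _ => hsmall _ ⟨k, rfl⟩).trans ?_
    rw [Finset.card_univ, ← Nat.card_eq_fintype_card, hI15, smul_eq_mul]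
  have h49 : 49 ≤ r * r := Nat.mul_le_mul hr7 hr7
  have hpos : 0 < Nat.card V := Nat.card_pos
  nlinarith [Nat.mul_le_mul_right (r * r) hcount, Nat.mul_le_mul_left (Nat.card V) h49]

end Main

end Cfsg.Agent.EqConjOdd
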