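import Cfsg.Agent.Lib.EqConjOdd.PSLLocal
import Cfsg.Agent.Lib.EqualOrderConj.Basic
import Cfsg.Agent.Lib.GW.ConsPSLGenerate

/-!
# The centralizers of the involutions of a four-group generate `PSL₂(q)`, `q ≡ ±3 (mod 8)`
-/

set_option autoImplicit false
set_option linter.style.haveILetI false
set_option linter.unusedSectionVars false

namespace Cfsg.Agent.EqConjOdd

open Subgroup MulAction Cfsg.Agent.Forms

universe u

theorem small_orders : (∀ x : alternatingGroup (Fin 4), x ^ 2 = 1 ∨ x ^ 3 = 1) ∧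
    (∀ x : Equiv.Perm (Fin 4), x ^ 2 = 1 ∨ x ^ 3 = 1 ∨ x ^ 4 = 1) ∧
    ∀ x : alternatingGroup (Fin 5), x ^ 2 = 1 ∨ x ^ 3 = 1 ∨ x ^ 5 = 1 := by
  refine ⟨?_, ?_, ?_⟩ <;> decide +kernel

theorem generated_psl {F : Type} [Field F] [Fintype F]
    (hmod : Fintype.card F % 8 = 3 ∨ Fintype.card F % 8 = 5) (h7 : 7 ≤ Fintype.card F)
    {a b : Matrix.ProjectiveSpecialLinearGroup (Fin 2) F} (ha : orderOf a = 2) (hb : orderOf b = 2)
    (hab : Commute a b) (hne : a ≠ b) :
    centralizer ({a} : Set (Matrix.ProjectiveSpecialLinearGroup (Fin 2) F)) ⊔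
      centralizer ({b} : Set (Matrix.ProjectiveSpecialLinearGroup (Fin 2) F)) ⊔
      centralizer ({a * b} : Set (Matrix.ProjectiveSpecialLinearGroup (Fin 2) F)) = ⊤ := by
  classical
  obtain ⟨p, hchar⟩ := CharP.exists F
  obtain ⟨f, hp, hF⟩ := FiniteField.card F p
  haveI : Fact p.Prime := ⟨hp⟩
  set q := Fintype.card F with hq
  have hodd : Odd q := Nat.odd_iff.2 (by omega)
  have hp2 : p ≠ 2 := fun h => by
    rw [hF, h, Nat.odd_pow_iff f.ne_zero] at hodd
    exact absurd hodd (by decide)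
  have hL := exists_lfacts (F := F) hF hmod (by omega)
  obtain ⟨r, hK, hr⟩ := JT.Loc.exists_kfacts (F := F) hodd (by omega) fun P x hx y hy =>
    comm_of_card_four (not_eight_dvd hL.q_mod hL.card) P x hx y hy
  have hr3 : 3 ≤ r := by obtain ⟨i, hi⟩ := hK.r_odd; omega
  have ha1 : a ≠ 1 := fun e => by rw [e, orderOf_one] at ha; omega
  have hb1 : b ≠ 1 := fun e => by rw [e, orderOf_one] at hb; omega
  -- the generators of the odd tori
  obtain ⟨hCa, A, hAcyc, hAcard, hAa, -⟩ := hK.torus a ha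
  obtain ⟨-, B, hBcyc, hBcard, hBb, -⟩ := hK.torus b hb
  obtain ⟨u₀, hu₀⟩ := IsCyclic.exists_generator (α := A)
  obtain ⟨v₀, hv₀⟩ := IsCyclic.exists_generator (α := B)
  have huo : orderOf (u₀ : Matrix.ProjectiveSpecialLinearGroup (Fin 2) F) = r := by
    rw [Subgroup.orderOf_coe, orderOf_eq_card_of_forall_mem_zpowers hu₀, hAcard]
  have hvo : orderOf (v₀ : Matrix.ProjectiveSpecialLinearGroup (Fin 2) F) = r := by
    rw [Subgroup.orderOf_coe, orderOf_eq_card_of_forall_mem_zpowers hv₀, hBcard]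
  have hua := hAa _ u₀.2
  have hvb := hBb _ v₀.2
  set H := centralizer ({a} : Set (Matrix.ProjectiveSpecialLinearGroup (Fin 2) F)) ⊔
      centralizer ({b} : Set (Matrix.ProjectiveSpecialLinearGroup (Fin 2) F)) ⊔
      centralizer ({a * b} : Set (Matrix.ProjectiveSpecialLinearGroup (Fin 2) F)) with hH
  have hlea : centralizer ({a} : Set (Matrix.ProjectiveSpecialLinearGroup (Fin 2) F)) ≤ H :=
    le_sup_left.trans le_sup_left
  have hleb : centralizer ({b} : Set (Matrix.ProjectiveSpecialLinearGroup (Fin 2) F)) ≤ H :=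
    le_sup_right.trans le_sup_left
  have huH : (u₀ : Matrix.ProjectiveSpecialLinearGroup (Fin 2) F) ∈ H :=
    hlea (mem_centralizer_singleton_iff.2 hua.eq)
  have hvH : (v₀ : Matrix.ProjectiveSpecialLinearGroup (Fin 2) F) ∈ H :=
    hleb (mem_centralizer_singleton_iff.2 hvb.eq)
  have haH : a ∈ H := hlea (mem_centralizer_singleton_iff.2 rfl)
  have hbH : b ∈ H := hleb (mem_centralizer_singleton_iff.2 rfl)
  -- the two tori differ
  have hvu : (⟨_, hvH⟩ : H) ∉ zpowers (⟨_, huH⟩ : H) := by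
    rintro ⟨i, hi⟩
    have e := congrArg Subtype.val hi
    simp only [SubgroupClass.coe_zpow] at e
    have hva : Commute (v₀ : Matrix.ProjectiveSpecialLinearGroup (Fin 2) F) a :=
      e ▸ hua.zpow_left i
    have h1 := hL.fixfree a b _ ha hb hab hne (hvo ▸ hK.r_odd) hva hvb
    rw [h1, orderOf_one] at hvo
    omega
  -- an element of order `2r`
  set c : H := ⟨_, huH⟩ * ⟨a, haH⟩ with hc
  have hco : orderOf c = 2 * r := by
    rw [← orderOf_injective H.subtype H.subtype_injective, hc, map_mul]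
    show orderOf ((u₀ : Matrix.ProjectiveSpecialLinearGroup (Fin 2) F) * a) = _
    rw [hua.orderOf_mul_eq_mul_orderOf_of_coprime (by
      rw [huo, ha]; exact Nat.coprime_two_right.2 hK.r_odd), huo, ha, mul_comm]
  have hnotsmall : ∀ {Y : Type} [Group Y], (H ≃* Y) →
      (∀ y : Y, y ^ 2 = 1 ∨ y ^ 3 = 1 ∨ y ^ 4 = 1 ∨ y ^ 5 = 1) → False := by
    intro Y _ ψ hY
    have ho : orderOf (ψ c) = 2 * r := by rw [MulEquiv.orderOf_eq, hco]
    rcases hY (ψ c) with h | h | h | h <;>
      · have := Nat.le_of_dvd (by norm_num) (orderOf_dvd_of_pow_eq_one h)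
        omega
  rcases DicksonList.classify p H with ⟨x, -, -, ⟨hcy, -⟩ | ⟨⟨e⟩⟩⟩ | ⟨x, -, hfix⟩ | ⟨⟨e⟩⟩ | ⟨⟨e⟩⟩ |
      ⟨⟨e⟩⟩ | ⟨K, iK, iT, k, hk, he⟩
  · -- cyclic
    exact absurd (GW.Cons.mem_zpowers_of_pow (c := (⟨_, huH⟩ : H)) (x := ⟨_, hvH⟩) (Subtype.ext (by
      rw [SubmonoidClass.coe_pow, Subgroup.orderOf_mk, huo, ← hvo, pow_orderOf_eq_one, coe_one]))) hvu
  · -- dihedral
    haveI : NeZero (orderOf x) := ⟨(orderOf_pos x).ne'⟩
    obtain ⟨i, hi⟩ := GW.Cons.mem_zpowers_of_dihedral (c := e ⟨_, huH⟩) (x := e ⟨_, hvH⟩)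
      (by rw [MulEquiv.orderOf_eq, Subgroup.orderOf_mk, huo]; exact hK.r_odd)
      (by rw [MulEquiv.orderOf_eq, MulEquiv.orderOf_eq, Subgroup.orderOf_mk, Subgroup.orderOf_mk, huo,
        hvo])
    exact absurd ⟨i, e.injective (by rw [map_zpow]; exact hi)⟩ hvu
  · -- a fixed point
    exfalso
    haveI : Fact (Nat.Prime 2) := ⟨Nat.prime_two⟩
    have ha2 : a ^ 2 = 1 := by have h := pow_orderOf_eq_one a; rwa [ha] at h
    have hb2 : b ^ 2 = 1 := by have h := pow_orderOf_eq_one b; rwa [hb] at h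
    have hbz : b ∉ zpowers a := by
      intro h
      obtain ⟨i, hi⟩ := mem_zpowers_iff.1 h
      rcases Int.even_or_odd' i with ⟨j, rfl | rfl⟩
      · rw [zpow_mul, zpow_two, ← pow_two, ha2, one_zpow] at hi
        exact hb1 hi.symm
      · rw [zpow_add, zpow_mul, zpow_two, ← pow_two, ha2, one_zpow, one_mul, zpow_one] at hi
        exact hne hi
    obtain ⟨-, -, hexp⟩ := EqualOrderConj.pair_data (p := 2) ha2 ha1 hb2 hbz hab.symm.eq
    set V := zpowers a ⊔ zpowers b with hV
    have hcyc := (DicksonAction.twoPt (F := F) p).cyc x V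
      (fun y hy => hfix y ((sup_le (zpowers_le.2 haH) (zpowers_le.2 hbH) : V ≤ H) hy))
      fun y hy hyp => hp2 ((Nat.prime_dvd_prime_iff_eq hp Nat.prime_two).1
        (hyp ▸ orderOf_dvd_of_pow_eq_one (hexp y hy)))
    obtain ⟨i, hi⟩ := GW.Cons.mem_zpowers_of_pow
      (c := (⟨a, mem_sup_left (mem_zpowers a)⟩ : V)) (x := ⟨b, mem_sup_right (mem_zpowers b)⟩)
      (Subtype.ext (by rw [SubmonoidClass.coe_pow, Subgroup.orderOf_mk, ha]; exact hb2))
    exact hbz ⟨i, congrArg Subtype.val hi⟩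
  · exact (hnotsmall e fun y => (small_orders.1 y).imp_right Or.inl).elim
  · exact (hnotsmall e fun y => (small_orders.2.1 y).imp_right (Or.imp_right Or.inl)).elim
  · exact (hnotsmall e fun y => (small_orders.2.2 y).imp_right (Or.imp_right Or.inr)).elim
  · -- subfields
    have hPSLK := DicksonCor.gcd_mul_natCard (F := K)
    set r₀ := Fintype.card K with hr₀
    have hr₀2 : 1 < r₀ := Fintype.one_lt_card
    rw [← hq] at hk
    have hk0 : k ≠ 0 := by rintro rfl; simp at hk; omega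
    have hr₀odd : Odd r₀ := (Nat.odd_pow_iff hk0).1 (hk ▸ hodd)
    have hgr : Nat.gcd 2 (r₀ - 1) = 2 :=
      Nat.gcd_eq_left (Nat.dvd_of_mod_eq_zero (by obtain ⟨t, ht⟩ := hr₀odd; omega))
    rw [hgr] at hPSLK
    have hHc : 2 * Nat.card H = r₀ * ((r₀ - 1) * (r₀ + 1)) ∨
        Nat.card H = r₀ * ((r₀ - 1) * (r₀ + 1)) := by
      rcases he with ⟨⟨e⟩⟩ | ⟨⟨e⟩⟩
      · exact Or.inl (by rw [Nat.card_congr e.toEquiv]; exact hPSLK)
      · exact Or.inr (by rw [Nat.card_congr e.toEquiv, DicksonPGL.natCard_PP])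
    rcases Nat.lt_or_ge k 2 with hk1 | hk2
    · obtain rfl : k = 1 := by omega
      rw [pow_one] at hk
      rw [hk] at hHc
      have hle := Nat.le_of_dvd Nat.card_pos H.card_subgroup_dvd_card
      have hcard := hL.card
      rw [← hq] at hcard
      refine H.eq_top_of_card_eq ?_
      have := Nat.card_pos (α := H)
      omega
    · exfalso
      have h4r : 4 * r ∣ r₀ * ((r₀ - 1) * (r₀ + 1)) := by
        have := hCa ▸ card_dvd_of_le hlea
        rcases hHc with h | h
        · exact h ▸ this.mul_left 2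
        · exact h ▸ this
      have hcop : (4 * r).Coprime r₀ := by
        refine Nat.Coprime.coprime_dvd_right (hk ▸ dvd_pow_self r₀ hk0) ?_
        rw [Nat.coprime_iff_gcd_eq_one]
        have hg1 := Nat.gcd_dvd_left (4 * r) q
        have hg2 := Nat.gcd_dvd_right (4 * r) q
        rcases hr with ⟨-, h⟩ | ⟨-, h⟩
        · have h1 := Nat.dvd_sub hg2 hg1
          rw [show q - 4 * r = 1 by omega] at h1
          exact Nat.dvd_one.1 h1
        · have h1 := Nat.dvd_sub hg1 hg2
          rw [show 4 * r - q = 1 by omega] at h1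
          exact Nat.dvd_one.1 h1
      have hle := Nat.le_of_dvd (Nat.mul_pos (by omega) (by omega)) (hcop.dvd_of_dvd_mul_left h4r)
      have hexp : (r₀ - 1) * (r₀ + 1) + 1 = r₀ * r₀ := by
        obtain ⟨t, ht⟩ : ∃ t, r₀ = t + 1 := ⟨r₀ - 1, by omega⟩
        rw [ht, Nat.add_sub_cancel]; ring
      have hr2q : r₀ * r₀ ≤ q := by
        rw [← hk, ← pow_two]; exact Nat.pow_le_pow_right (by omega) hk2
      have hsq : r₀ * r₀ % 8 = 1 := by
        obtain ⟨t, ht⟩ : ∃ t, r₀ = 2 * t + 1 := hr₀odd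
        obtain ⟨s, hs⟩ := Nat.even_mul_succ_self t
        have : r₀ * r₀ = 8 * s + 1 := by rw [ht]; linear_combination 4 * hs
        omega
      rcases hr with ⟨-, h⟩ | ⟨-, h⟩ <;> omega

/-- The centralizers of the three involutions of a four-group generate. -/
theorem generated {F : Type} [Field F] [Fintype F]
    (hmod : Fintype.card F % 8 = 3 ∨ Fintype.card F % 8 = 5) (h7 : 7 ≤ Fintype.card F)
    {X : Type u} [Group X] [Finite X] (e : X ≃* Matrix.ProjectiveSpecialLinearGroup (Fin 2) F)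
    {a b : X} (ha : orderOf a = 2) (hb : orderOf b = 2) (hab : Commute a b) (hne : a ≠ b) :
    centralizer ({a} : Set X) ⊔ centralizer ({b} : Set X) ⊔ centralizer ({a * b} : Set X) = ⊤ := by
  have h := generated_psl hmod h7 (a := e a) (b := e b) (by rw [e.orderOf_eq, ha])
    (by rw [e.orderOf_eq, hb]) (hab.map e.toMonoidHom) fun he => hne (e.injective he)
  have key : ∀ x : X, centralizer ({x} : Set X) =
      (centralizer ({e x} : Set (Matrix.ProjectiveSpecialLinearGroup (Fin 2) F))).map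
        e.symm.toMonoidHom := fun x => by
    ext y
    rw [mem_map]
    simp only [mem_centralizer_singleton_iff]
    constructor
    · exact fun hy => ⟨e y, by rw [← map_mul, ← map_mul, hy], e.symm_apply_apply y⟩
    · rintro ⟨z, hz, rfl⟩
      have := congrArg e.symm hz
      simpa using this
  rw [key, key, key, map_mul, ← Subgroup.map_sup, ← Subgroup.map_sup, h,
    map_top_of_surjective _ e.symm.surjective]

end Cfsg.Agent.EqConjOdd
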