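import Cfsg.Agent.S1225
import Cfsg.Agent.S0205
import Cfsg.Agent.Lib.Hall.Solvable
import Cfsg.Agent.Lib.J1FromOrder.Insoluble
import Cfsg.Agent.Lib.Cores.Basic
import Cfsg.Prelude.Def_Sporadic

/-!
# No strongly embedded subgroup has the first Janko group as quotient by its odd core

The intersection with a conjugate would be an odd group transitive on the 1463 involutions of the
Janko group, so a subgroup of order 1463 would centralise a Sylow 11-subgroup.
-/

set_option autoImplicit false
set_option linter.style.haveILetI false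

namespace Cfsg.Agent.EqConjOdd

open Subgroup

universe u

/-- A Sylow subgroup of prime order. -/
theorem card_sylow_once {H : Type*} [Group H] [Finite H] {p : ℕ} [hp : Fact p.Prime] (P : Sylow p H)
    {m : ℕ} (hH : Nat.card H = p * m) (hm : ¬ p ∣ m) : Nat.card P = p := by
  have hm0 : m ≠ 0 := fun h => hm (h ▸ dvd_zero p)
  rw [P.card_eq_multiplicity, hH, Nat.factorization_def _ hp.out,
    padicValNat.mul hp.out.ne_zero hm0, padicValNat.self hp.out.one_lt,
    padicValNat.eq_zero_of_not_dvd hm, add_zero, pow_one]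

/-- A group of order 1463 normalises a subgroup of order 11. -/
theorem exists_eleven {H : Type*} [Group H] [Finite H] (hH : Nat.card H = 1463) :
    ∃ P : Subgroup H, Nat.card P = 11 ∧ P.Normal := by
  haveI : Fact (Nat.Prime 7) := ⟨by norm_num⟩
  haveI : Fact (Nat.Prime 11) := ⟨by norm_num⟩
  obtain ⟨A⟩ : Nonempty (Sylow 11 H) := inferInstance
  obtain ⟨B⟩ : Nonempty (Sylow 7 H) := inferInstance
  have hA : Nat.card A = 11 := card_sylow_once A (m := 133) (by rw [hH]) (by norm_num)
  have hB : Nat.card B = 7 := card_sylow_once B (m := 209) (by rw [hH]) (by norm_num)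
  have hone : Nat.card (Sylow 7 H) = 1 := by
    have h1 := B.card_dvd_index
    have h2 : (B : Subgroup H).index = 209 := by
      have := (B : Subgroup H).card_mul_index
      rw [hB, hH] at this
      omega
    rw [h2] at h1
    have h3 : Nat.card (Sylow 7 H) % 7 = 1 := card_sylow_modEq_one 7 H
    have : Nat.card (Sylow 7 H) ∈ Nat.divisors 209 := Nat.mem_divisors.2 ⟨h1, by norm_num⟩
    rw [show Nat.divisors 209 = {1, 11, 19, 209} by decide +kernel] at this
    simp only [Finset.mem_insert, Finset.mem_singleton] at this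
    omega
  haveI : Subsingleton (Sylow 7 H) := (Nat.card_eq_one_iff_unique.1 hone).1
  haveI hBn : (B : Subgroup H).Normal := B.normal_of_subsingleton
  -- `A` centralises `B`, so it is normalised by `B` and by a Sylow 19-subgroup modulo `B`
  have hone' : Nat.card (Sylow 11 H) = 1 := by
    have h1 := A.card_dvd_index
    have h2 : (A : Subgroup H).index = 133 := by
      have := (A : Subgroup H).card_mul_index
      rw [hA, hH] at this
      omega
    rw [h2] at h1
    have h3 : Nat.card (Sylow 11 H) % 11 = 1 := card_sylow_modEq_one 11 H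
    have h4 : Nat.card (Sylow 11 H) ∈ Nat.divisors 133 := Nat.mem_divisors.2 ⟨h1, by norm_num⟩
    rw [show Nat.divisors 133 = {1, 7, 19, 133} by decide +kernel] at h4
    simp only [Finset.mem_insert, Finset.mem_singleton] at h4
    by_contra hne
    have h133 : Nat.card (Sylow 11 H) = 133 := by omega
    have hN : Nat.card (normalizer ((A : Subgroup H) : Set H)) = 11 := by
      have := (normalizer ((A : Subgroup H) : Set H)).card_mul_index
      rw [show (normalizer ((A : Subgroup H) : Set H)).index = 133 from
        A.card_eq_index_normalizer.symm.trans h133, hH] at this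
      omega
    have hAB : (B : Subgroup H) ≤ normalizer ((A : Subgroup H) : Set H) := by
      refine le_trans ?_ (centralizer_le_normalizer _)
      rw [le_centralizer_iff]
      intro a ha b hb
      have hconj : ∀ b : (B : Subgroup H), (MulAut.conjNormal a : MulAut (B : Subgroup H)) b = b := by
        intro b
        have ho : orderOf (MulAut.conjNormal a : MulAut (B : Subgroup H)) ∣ 11 := by
          refine (orderOf_map_dvd _ a).trans ?_
          rw [← hA]
          exact Subgroup.orderOf_dvd_natCard _ ha
        haveI : Finite (MulAut (B : Subgroup H)) := inferInstance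
        haveI : IsCyclic (B : Subgroup H) := isCyclic_of_prime_card hB
        have ho' : orderOf (MulAut.conjNormal a : MulAut (B : Subgroup H)) ∣ 6 := by
          have h := orderOf_dvd_natCard (MulAut.conjNormal a : MulAut (B : Subgroup H))
          rwa [IsCyclic.card_mulAut, hB, show Nat.totient 7 = 6 by decide] at h
        have h1 : orderOf (MulAut.conjNormal a : MulAut (B : Subgroup H)) = 1 :=
          Nat.eq_one_of_dvd_coprimes (by norm_num : Nat.Coprime 11 6) ho ho'
        rw [orderOf_eq_one_iff.1 h1]
        rfl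
      have := congrArg Subtype.val (hconj ⟨b, hb⟩)
      rw [MulAut.conjNormal_apply] at this
      exact (mul_inv_eq_iff_eq_mul.1 this).symm
    have h7 := Subgroup.card_dvd_of_le hAB
    rw [hB, hN] at h7
    norm_num at h7
  haveI : Subsingleton (Sylow 11 H) := (Nat.card_eq_one_iff_unique.1 hone').1
  exact ⟨A, hA, A.normal_of_subsingleton⟩

/-- A simple group of order 175560 has no odd subgroup transitive on its involutions. -/
theorem janko_no_transitive {Q : Type*} [Group Q] [Finite Q] [IsSimpleGroup Q]
    (hQ : Nat.card Q = 175560) (D : Subgroup Q) (hD : Odd (Nat.card D))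
    (htr : ∀ s t : Q, orderOf s = 2 → orderOf t = 2 → ∃ d ∈ D, d * s * d⁻¹ = t) : False := by
  obtain ⟨-, t, -, -, ht, -, ⟨e⟩⟩ := J1FromOrder.janko_data hQ
  have hC : Nat.card (centralizer ({t} : Set Q)) = 120 := by
    rw [Nat.card_congr e.toEquiv, Nat.card_prod, Nat.card_eq_fintype_card (α := alternatingGroup (Fin 5)),
      card_alternatingGroup, Fintype.card_fin]
    simp [Nat.factorial]
  -- the orbit of `t`
  letI : MulAction D Q :=
    MulAction.compHom Q ((MulAut.conj : Q →* MulAut Q).comp D.subtype)
  have horb : MulAction.orbit D t = {s : Q | IsConj t s} := by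
    ext s
    constructor
    · rintro ⟨d, rfl⟩
      exact isConj_iff.2 ⟨d, rfl⟩
    · intro hs
      obtain ⟨c, hc⟩ := isConj_iff.1 hs
      obtain ⟨d, hd, hd'⟩ := htr t s ht (by
        rw [← hc, ← ht]
        exact MulEquiv.orderOf_eq (MulAut.conj c) t)
      exact ⟨⟨d, hd⟩, hd'⟩
  have hdvd : 1463 ∣ Nat.card D := by
    have h1 : Nat.card (MulAction.orbit D t) * Nat.card (MulAction.stabilizer D t) = Nat.card D := by
      rw [← Nat.card_prod]
      exact Nat.card_congr (MulAction.orbitProdStabilizerEquivGroup D t)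
    have h2 : Nat.card (MulAction.orbit D t) = 1463 := by
      rw [horb]
      have h := (centralizer ({t} : Set Q)).card_mul_index
      rw [hC, hQ] at h
      have h3 : Nat.card {s : Q | IsConj t s} = (centralizer ({t} : Set Q)).index := by
        have e : MulAction.stabilizer (ConjAct Q) t =
            (centralizer ({t} : Set Q)).comap (ConjAct.ofConjAct (G := Q)).toMonoidHom := by
          ext c
          rw [MulAction.mem_stabilizer_iff, ConjAct.smul_def, mem_comap, mem_centralizer_singleton_iff]
          exact mul_inv_eq_iff_eq_mul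
        have hst : Nat.card {s : Q | IsConj t s} = Nat.card (MulAction.orbit (ConjAct Q) t) := by
          refine Nat.card_congr (Equiv.setCongr ?_)
          ext s
          rw [ConjAct.mem_orbit_conjAct, Set.mem_ofPred_eq, isConj_comm]
        rw [hst, Nat.card_coe_set_eq, ← MulAction.index_stabilizer, e,
          index_comap_of_surjective _ (ConjAct.ofConjAct (G := Q)).surjective]
      rw [h3]
      omega
    exact ⟨_, by rw [← h1, h2]⟩
  have hD' : Nat.card D ∣ 21945 := by
    have h1 := D.card_subgroup_dvd_card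
    rw [hQ, show (175560 : ℕ) = 8 * 21945 by norm_num] at h1
    exact ((Nat.Coprime.pow_right 3 (Nat.coprime_two_right.2 hD))).dvd_of_dvd_mul_left
      (by norm_num; exact h1)
  haveI : Group.IsSolvable D := S0205.result hD
  obtain ⟨K, hK, hKi⟩ := Hall.exists_hall ({7, 11, 19} : Set ℕ) D
  have hcard : Nat.card K = 1463 := by
    have h1 : Nat.card K ∣ 21945 := K.card_subgroup_dvd_card.trans hD'
    have hmem : ∀ p, p.Prime → p ∣ 1463 → p = 7 ∨ p = 11 ∨ p = 19 := by
      intro p hp hd
      have : p ∈ Nat.primeFactors 1463 := Nat.mem_primeFactors.2 ⟨hp, hd, by norm_num⟩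
      rw [show Nat.primeFactors 1463 = {7, 11, 19} by decide +kernel] at this
      simpa using this
    have h2 : (1463 : ℕ).Coprime K.index := by
      refine Nat.coprime_of_dvd fun p hp hd hd' => hKi p hp ?_ hd'
      rcases hmem p hp hd with rfl | rfl | rfl <;> simp
    have h3 : 1463 ∣ Nat.card K := h2.dvd_of_dvd_mul_right (K.card_mul_index.symm ▸ hdvd)
    have h15 : (Nat.card K).Coprime 15 := by
      refine Nat.coprime_of_dvd fun p hp hd hd' => ?_
      have hp' := hK p hp hd
      simp only [Set.mem_insert_iff, Set.mem_singleton_iff] at hp'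
      rcases hp' with rfl | rfl | rfl <;> norm_num at hd'
    have h4 : Nat.card K ∣ 1463 := h15.dvd_of_dvd_mul_left (by norm_num; exact h1)
    exact Nat.dvd_antisymm h4 h3
  obtain ⟨P, hP, hPn⟩ := exists_eleven hcard
  set f : K →* Q := D.subtype.comp K.subtype with hf
  have hfi : Function.Injective f := Subtype.val_injective.comp Subtype.val_injective
  have hP' : Nat.card (P.map f) = 11 := by rw [card_map_of_injective hfi, hP]
  have hle : f.range ≤ normalizer ((P.map f : Subgroup Q) : Set Q) := by
    rw [MonoidHom.range_eq_map]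
    have h := (Subgroup.le_normalizer_map (H := P) f)
    rwa [Subgroup.normalizer_eq_top_iff.2 hPn] at h
  have h1 := Subgroup.card_dvd_of_le hle
  rw [Nat.card_congr (MonoidHom.ofInjective hfi).toEquiv.symm, hcard] at h1
  have h2 := (J1FromOrder.facts hQ (p := 11) (by simp [J1FromOrder.primes]) hP').2.2.2 rfl
  have := Nat.le_of_dvd Nat.card_pos h1
  omega

theorem no_janko {G : Type u} [Group G] [Finite G] (M : Subgroup G) (hM : Cfsg.IsStronglyEmbedded M)
    (hJ : Cfsg.IsJ1 (↥M ⧸ Cfsg.oddCore ↥M)) : False := by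
  obtain ⟨hsimple, hQ⟩ := hJ
  haveI := hsimple
  obtain ⟨hne, hev, hodd⟩ := id hM
  -- an involution outside `M`
  obtain ⟨u, hu, huM⟩ : ∃ u : G, orderOf u = 2 ∧ u ∉ M := by
    by_contra hno
    push Not at hno
    haveI : Fact (Nat.Prime 2) := ⟨Nat.prime_two⟩
    obtain ⟨w, hw⟩ := exists_prime_orderOf_dvd_card' (G := M) 2 hev.two_dvd
    apply hne
    rw [eq_top_iff]
    intro g _
    by_contra hg
    have hw' : orderOf (w : G) = 2 := by rw [Subgroup.orderOf_coe, hw]
    have hwg : g⁻¹ * w * g ∈ M := hno _ (by
      rw [← hw']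
      simpa using MulEquiv.orderOf_eq (MulAut.conj g⁻¹) (w : G))
    have hmem : (w : G) ∈ M ⊓ M.map (MulAut.conj g).toMonoidHom :=
      ⟨w.2, ⟨_, hwg, by simp [mul_assoc]⟩⟩
    have h2 := Subgroup.orderOf_dvd_natCard _ hmem
    rw [hw'] at h2
    exact (Nat.not_even_iff_odd.2 (hodd g hg)) (even_iff_two_dvd.2 h2)
  set q := QuotientGroup.mk' (Cfsg.oddCore M) with hq
  set Db := ((M ⊓ M.map (MulAut.conj u).toMonoidHom).subgroupOf M).map q with hDb
  have hDodd : Odd (Nat.card Db) := by
    refine Odd.of_dvd_nat ?_ (((M ⊓ M.map (MulAut.conj u).toMonoidHom).subgroupOf M).card_map_dvd q)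
    rw [Nat.card_congr (Subgroup.subgroupOfEquivOfLe inf_le_left).toEquiv]
    exact hodd u huM
  -- involutions of the quotient lift
  have hlift : ∀ s : M ⧸ Cfsg.oddCore M, orderOf s = 2 → ∃ a : M, orderOf a = 2 ∧ q a = s := by
    intro s hs
    obtain ⟨x, rfl⟩ := QuotientGroup.mk'_surjective (Cfsg.oddCore M) s
    have h2 : x ^ 2 ∈ Cfsg.oddCore M := by
      rw [← QuotientGroup.eq_one_iff]
      have := pow_orderOf_eq_one (q x)
      rwa [hs, ← map_pow] at this
    obtain ⟨m, hm⟩ : ∃ m, orderOf (⟨x ^ 2, h2⟩ : Cfsg.oddCore M) = 2 * m + 1 :=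
      (Odd.of_dvd_nat (Cores.oddCore_odd (G := M)) (orderOf_dvd_natCard _))
    refine ⟨x ^ (2 * m + 1), orderOf_eq_prime ?_ ?_, ?_⟩
    · have := congrArg Subtype.val (pow_orderOf_eq_one (⟨x ^ 2, h2⟩ : Cfsg.oddCore M))
      rw [hm, SubgroupClass.coe_pow] at this
      rw [← pow_mul, mul_comm, pow_mul]
      exact this
    · intro h1
      have : q x = 1 := by
        have h3 : q x ^ (2 * m + 1) = 1 := by rw [← map_pow, h1, map_one]
        rwa [pow_succ, pow_mul, show q x ^ 2 = 1 by rw [← hs]; exact pow_orderOf_eq_one _, one_pow,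
          one_mul] at h3
      rw [this, orderOf_one] at hs
      omega
    · rw [map_pow, pow_succ, pow_mul, show q x ^ 2 = 1 by rw [← hs]; exact pow_orderOf_eq_one _,
        one_pow, one_mul]
  refine janko_no_transitive hQ Db hDodd fun s t hs ht => ?_
  obtain ⟨a, ha, rfl⟩ := hlift s hs
  obtain ⟨b, hb, rfl⟩ := hlift t ht
  obtain ⟨d, hd, hdab⟩ := (S1225.result M hM u hu huM (a : G) (b : G) (by rwa [Subgroup.orderOf_coe])
    a.2 (by rwa [Subgroup.orderOf_coe]) b.2).1
  refine ⟨q ⟨d, hd.1⟩, ⟨⟨d, hd.1⟩, hd, rfl⟩, ?_⟩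
  rw [← map_inv, ← map_mul, ← map_mul]
  exact congrArg q (Subtype.ext hdab)

end Cfsg.Agent.EqConjOdd
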