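import Cfsg.Agent.Lib.EqConjOdd.Tools
import Cfsg.Agent.Lib.EqConjOdd.PSLLocal
import Cfsg.Agent.Lib.EqSubConj.Large
import Cfsg.Agent.Lib.PSLBinary.Classify
import Cfsg.Agent.Lib.SEAbelian.Main
import Cfsg.Agent.Lib.SEAbelian.ReduceSimple

/-!
# Elementary abelian Sylow 2-subgroups of order at least eight, solvable centralizers of involutions

For order `32` the centralizers are always solvable; in the solvable-centralizer case the group is
an affine one, `PSL₂(8)` or the automorphism group of `PSL₂(32)`.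
-/

set_option autoImplicit false
set_option linter.style.haveILetI false
set_option linter.unusedSectionVars false

namespace Cfsg.Agent.EqConjOdd

open Subgroup MulAction

universe u

variable {G : Type u} [Group G] [Finite G]

theorem psl_invol_conj {F : Type*} [Field F] [Fintype F]
    {a b : Matrix.ProjectiveSpecialLinearGroup (Fin 2) F} (ha : orderOf a = 2) (hb : orderOf b = 2) :
    IsConj a b := by
  by_cases h2 : (2 : F) = 0
  · exact (PSLBinary.invol_conj_one h2 ha).symm.trans (PSLBinary.invol_conj_one h2 hb)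
  · exact PSLBinary.involutions_conj h2 ha hb

theorem four_dvd_psl {F : Type} [Field F] [Fintype F]
    (hq : ((Fintype.card F % 8 = 3 ∨ Fintype.card F % 8 = 5) ∧ 5 ≤ Fintype.card F) ∨
      (∃ n : ℕ, 2 ≤ n ∧ Fintype.card F = 2 ^ n)) :
    4 ∣ Nat.card (Matrix.ProjectiveSpecialLinearGroup (Fin 2) F) := by
  have hN := PSLOrderSpectrum.card_psl_two (F := F)
  rcases hq with ⟨hmod, -⟩ | ⟨n, hn, hF⟩
  · rw [Nat.gcd_eq_left (Nat.dvd_of_mod_eq_zero (by omega))] at hN
    obtain ⟨k, hk⟩ : ∃ k, Fintype.card F = 2 * k + 1 := ⟨Fintype.card F / 2, by omega⟩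
    obtain ⟨c, hc⟩ := Nat.even_mul_succ_self k
    refine ⟨(2 * k + 1) * c, Nat.eq_of_mul_eq_mul_left two_pos ?_⟩
    rw [hN, hk, Nat.add_sub_cancel]
    calc (2 * k + 1) * (2 * k * (2 * k + 1 + 1)) = 4 * (2 * k + 1) * (k * (k + 1)) := by ring
      _ = _ := by rw [hc]; ring
  · have hev : Even (2 ^ n) := Nat.even_pow.2 ⟨even_two, by omega⟩
    have hg : Nat.gcd 2 (Fintype.card F - 1) = 1 := Nat.coprime_two_left.2 (by
      rw [hF]; exact Nat.Even.sub_odd Nat.one_le_two_pow hev odd_one)
    rw [hg, one_mul] at hN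
    rw [hN, hF]
    exact (pow_dvd_pow 2 hn).mul_right _

theorem fixed_of_order_five {S : Subgroup G} (hS : Nat.card S = 32) (he : ∀ a ∈ S, a ^ 2 = 1)
    {h : G} (hN : h ∈ normalizer (S : Set G)) (h5 : ∀ s ∈ S, h ^ 5 * s * (h ^ 5)⁻¹ = s) {a b : G}
    (ha : a ∈ S) (hb : b ∈ S) (ha1 : a ≠ 1) (hab : b ∉ zpowers a) (hfa : h * a * h⁻¹ = a)
    (hfb : h * b * h⁻¹ = b) {s : G} (hs : s ∈ S) : h * s * h⁻¹ = s := by
  classical
  haveI : Fact (Nat.Prime 2) := ⟨Nat.prime_two⟩
  haveI : Fact (Nat.Prime 5) := ⟨Nat.prime_five⟩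
  haveI := Fintype.ofFinite S
  let φ : MulAut S :=
    { toFun := fun x => ⟨h * x * h⁻¹, (mem_normalizer_iff.1 hN x).1 x.2⟩
      invFun := fun x => ⟨h⁻¹ * x * h, by simpa using (mem_normalizer_iff.1 (inv_mem hN) x).1 x.2⟩
      left_inv := fun x => Subtype.ext (by simp [mul_assoc])
      right_inv := fun x => Subtype.ext (by simp [mul_assoc])
      map_mul' := fun x y => Subtype.ext (by simp [mul_assoc]) }
  let σ : Equiv.Perm S := φ.toEquiv
  have hσp : ∀ (k : ℕ) (x : S), (((σ ^ k) x : S) : G) = h ^ k * x * (h ^ k)⁻¹ := by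
    intro k
    induction k with
    | zero => intro x; simp
    | succ k ih =>
      intro x
      rw [pow_succ, Equiv.Perm.mul_apply, ih, show ((σ x : S) : G) = h * x * h⁻¹ from rfl, pow_succ]
      group
  have hσ5 : σ ^ (5 ^ 1) = 1 := Equiv.ext fun x => Subtype.ext (by
    rw [pow_one, hσp]; exact h5 x x.2)
  let E : Subgroup S := { carrier := {x | φ x = x}
                          mul_mem' := fun {x y} hx hy => by
                            show φ (x * y) = x * y
                            rw [map_mul, show φ x = x from hx, show φ y = y from hy]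
                          one_mem' := map_one φ
                          inv_mem' := fun {x} hx => by
                            show φ x⁻¹ = x⁻¹
                            rw [map_inv, show φ x = x from hx] }
  have hmod : σ.supportᶜ.card ≡ Fintype.card S [MOD 5] := Equiv.Perm.card_compl_support_modEq hσ5
  have hEfix : σ.supportᶜ.card = Nat.card E := by
    rw [← Nat.card_eq_finsetCard]
    refine Nat.card_congr (Equiv.subtypeEquivRight fun x => ?_)
    simp only [Finset.mem_compl, Equiv.Perm.mem_support, not_not]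
    rfl
  rw [← Nat.card_eq_fintype_card, hS, hEfix] at hmod
  obtain ⟨k, hk5, hk⟩ := (Nat.dvd_prime_pow Nat.prime_two).1
    (E.card_subgroup_dvd_card.trans (dvd_of_eq (hS.trans (by norm_num : (32 : ℕ) = 2 ^ 5))))
  have h4 : 4 ≤ Nat.card E := by
    have hcomm : b * a = a * b := by
      have h1 := he _ (mul_mem hb ha)
      have hia : a⁻¹ = a := inv_eq_of_mul_eq_one_right (by rw [← pow_two]; exact he a ha)
      have hib : b⁻¹ = b := inv_eq_of_mul_eq_one_right (by rw [← pow_two]; exact he b hb)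
      calc b * a = (b * a)⁻¹ := (inv_eq_of_mul_eq_one_right (by rw [← pow_two]; exact h1)).symm
        _ = a * b := by rw [mul_inv_rev, hia, hib]
    obtain ⟨hcard, -, -⟩ := EqualOrderConj.pair_data (p := 2) (he a ha) ha1 (he b hb) hab hcomm
    have hle : zpowers a ⊔ zpowers b ≤ E.map S.subtype :=
      sup_le (zpowers_le.2 ⟨⟨a, ha⟩, Subtype.ext hfa, rfl⟩)
        (zpowers_le.2 ⟨⟨b, hb⟩, Subtype.ext hfb, rfl⟩)
    have := card_le_of_le hle
    rwa [hcard, card_map_of_injective S.subtype_injective] at this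
  rw [hk] at hmod h4
  have hk' : k = 5 := by
    unfold Nat.ModEq at hmod
    interval_cases k <;> simp_all
  subst hk'
  have htop : E = ⊤ := E.eq_top_of_card_eq (by rw [hk, hS]; norm_num)
  have := (htop ▸ mem_top (⟨s, hs⟩ : S) : (⟨s, hs⟩ : S) ∈ E)
  exact congrArg Subtype.val this

theorem exists_iso_of_card {F : Type} [Field F] [Fintype F] {n : ℕ} (hn : n ≠ 0)
    (hF : Fintype.card F = 2 ^ n) : Nonempty (F ≃+* GaloisField 2 n) := by
  haveI : Fact (Nat.Prime 2) := ⟨Nat.prime_two⟩
  letI := Fintype.ofFinite (GaloisField 2 n)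
  exact ⟨FiniteField.ringEquivOfCardEq (by rw [hF, ← Nat.card_eq_fintype_card, GaloisField.card 2 n hn])⟩

variable (h : AllConj G) (S : Sylow 2 G)
  (hc : ∀ a ∈ (S : Subgroup G), ∀ b ∈ (S : Subgroup G), a * b = b * a)
  (he : ∀ a ∈ (S : Subgroup G), a ^ 2 = 1)

include h hc he

/-- With a Sylow subgroup of order `32` the stabilizer of an involution acts on it as a group of order five. -/
theorem stab_pow_five (hcard : Nat.card (S : Subgroup G) = 32) {t : G} (htS : t ∈ (S : Subgroup G))
    (ht : orderOf t = 2) {n : G} (hn : n ∈ normalizer ((S : Subgroup G) : Set G))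
    (hnt : n * t * n⁻¹ = t) : n ^ 5 ∈ centralizer ((S : Subgroup G) : Set G) := by
  classical
  haveI : Fact (Nat.Prime 2) := ⟨Nat.prime_two⟩
  obtain ⟨-, e, -, hA, he5, -⟩ := EqSubConj.model_two (h 2 Nat.prime_two) S hc he (by norm_num : 3 ≤ 5)
    (hcard.trans (by norm_num))
  set N := normalizer ((S : Subgroup G) : Set G) with hN
  rw [he5 rfl] at hA
  letI : MulAction N G := MulAction.compHom G ((MulDistribMulAction.toMulAut (ConjAct G) G).comp
    (ConjAct.toConjAct.toMonoidHom.comp N.subtype))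
  have hsmul : ∀ (m : N) (x : G), m • x = (m : G) * x * (m : G)⁻¹ := fun _ _ => rfl
  have horb : orbit N t = ((S : Subgroup G) : Set G) \ {1} := by
    ext x
    constructor
    · rintro ⟨m, rfl⟩
      refine ⟨(mem_normalizer_iff.1 m.2 t).1 htS, fun e1 => ?_⟩
      have := conj_eq_one_iff.1 (e1 : (m : G) * t * (m : G)⁻¹ = 1)
      rw [this, orderOf_one] at ht
      omega
    · rintro ⟨hx, hx1⟩
      obtain ⟨m, hm, hmt⟩ := h.transitive S hc htS hx ht
        (orderOf_eq_prime (he x hx) hx1)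
      exact ⟨⟨m, hm⟩, hmt⟩
  have hidx := index_stabilizer N t
  rw [horb, Set.ncard_diff_singleton_of_mem (one_mem _), ← Nat.card_coe_set_eq, SetLike.coe_sort_coe,
    hcard] at hidx
  set T := stabilizer N t with hT
  set Cn := (centralizer ((S : Subgroup G) : Set G)).subgroupOf N with hCn
  have hle : Cn ≤ T := fun m hm => by
    have h1 : t * (m : G) = (m : G) * t := mem_centralizer_iff.1 (mem_subgroupOf.1 hm) t htS
    rw [hT, mem_stabilizer_iff, hsmul, ← h1, mul_inv_cancel_right]
  haveI : (centralizer ((S : Subgroup G) : Set G)).subgroupOf N |>.Normal := by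
    refine ⟨fun m hm g => mem_subgroupOf.2 (mem_centralizer_iff.2 fun s hs => ?_)⟩
    have hs' : (g : G)⁻¹ * s * g ∈ (S : Subgroup G) := by
      simpa using (mem_normalizer_iff.1 (inv_mem g.2) s).1 hs
    have h1 := mem_centralizer_iff.1 (mem_subgroupOf.1 hm) _ hs'
    calc s * ((g : G) * m * (g : G)⁻¹) = g * (((g : G)⁻¹ * s * g) * m) * (g : G)⁻¹ := by group
      _ = g * ((m : G) * ((g : G)⁻¹ * s * g)) * (g : G)⁻¹ := by rw [h1]
      _ = (g : G) * m * (g : G)⁻¹ * s := by group
  haveI : (Cn.subgroupOf T).Normal := Normal.subgroupOf inferInstance T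
  have hcC : Nat.card Cn = Nat.card (centralizer ((S : Subgroup G) : Set G)) :=
    Nat.card_congr (subgroupOfEquivOfLe (Subgroup.centralizer_le_normalizer _)).toEquiv
  have h5 : (Cn.subgroupOf T).index = 5 := by
    have h1 := (Cn.subgroupOf T).card_mul_index
    rw [Nat.card_congr (subgroupOfEquivOfLe hle).toEquiv, hcC] at h1
    have h2 := T.card_mul_index
    rw [hidx, ← hA, ← h1] at h2
    have h3 : (Cn.subgroupOf T).index * 31 = 155 :=
      Nat.eq_of_mul_eq_mul_left (Nat.card_pos (α := centralizer ((S : Subgroup G) : Set G)))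
        (by rw [← mul_assoc]; exact h2)
    omega
  have hnT : (⟨n, hn⟩ : N) ∈ T := hnt
  have hpow := (Cn.subgroupOf T).pow_index_mem (⟨⟨n, hn⟩, hnT⟩ : T)
  rw [h5] at hpow
  exact hpow

/-- With a Sylow subgroup of order `32` the centralizers of involutions are solvable. -/
theorem five_centralizer_solvable (hcard : Nat.card (S : Subgroup G) = 32) {t : G}
    (htS : t ∈ (S : Subgroup G)) (ht : orderOf t = 2) :
    Group.IsSolvable ↥(centralizer ({t} : Set G)) := by
  classical
  haveI : Fact (Nat.Prime 2) := ⟨Nat.prime_two⟩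
  set C := centralizer ({t} : Set G) with hC
  have hSC : (S : Subgroup G) ≤ C := fun a ha => mem_centralizer_singleton_iff.2 (hc a ha t htS)
  let SC : Sylow 2 C := S.subtype hSC
  have hSCmem : ∀ x : C, x ∈ (SC : Subgroup C) ↔ (x : G) ∈ (S : Subgroup G) := fun x => Iff.rfl
  let tC : C := ⟨t, hSC htS⟩
  have htCc : tC ∈ center C := mem_center_iff.2 fun x => Subtype.ext
    (mem_centralizer_singleton_iff.1 x.2)
  haveI : (zpowers tC).Normal := ⟨fun x hx g => by
    rw [mem_center_iff.1 (zpowers_le.2 htCc hx) g, mul_inv_cancel_right]; exact hx⟩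
  have htC2 : tC ^ 2 = 1 := Subtype.ext (by rw [Subgroup.coe_pow]; exact he t htS)
  have hzt : ∀ z ∈ zpowers tC, z = 1 ∨ z = tC := by
    intro z hz
    obtain ⟨k, rfl⟩ := mem_zpowers_iff.1 hz
    rcases Int.even_or_odd' k with ⟨j, rfl | rfl⟩
    · exact Or.inl (by rw [zpow_mul, zpow_two, ← pow_two, htC2, one_zpow])
    · exact Or.inr (by rw [zpow_add, zpow_mul, zpow_two, ← pow_two, htC2, one_zpow, one_mul, zpow_one])
  set π := QuotientGroup.mk' (zpowers tC) with hπ
  have hπs : Function.Surjective π := QuotientGroup.mk'_surjective _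
  let SX : Sylow 2 (C ⧸ zpowers tC) := SC.mapSurjective hπs
  have hSXc : IsMulCommutative ↥(SX : Subgroup (C ⧸ zpowers tC)) := ⟨⟨by
    rintro ⟨_, a, ha, rfl⟩ ⟨_, b, hb, rfl⟩
    exact Subtype.ext (by
      show π a * π b = π b * π a
      rw [← map_mul, ← map_mul, show a * b = b * a from Subtype.ext (hc _ ha _ hb)])⟩⟩
  -- the centralizers in the quotient
  have hcentS : ∀ v : C, v ∈ (SC : Subgroup C) → v ∉ zpowers tC →
      Group.IsSolvable ↥(centralizer ({π v} : Set (C ⧸ zpowers tC))) := by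
    intro v hv hvt
    set D := (centralizer ({π v} : Set (C ⧸ zpowers tC))).comap π with hD
    have hSD : (SC : Subgroup C) ≤ D := fun a ha => mem_centralizer_singleton_iff.2 (by
      rw [← map_mul, ← map_mul, show a * v = v * a from Subtype.ext (hc _ ha _ hv)])
    haveI hsolD : Group.IsSolvable D := by
      refine solvable_of_control (SC.subtype hSD)
        (fun a ha b hb => Subtype.ext (Subtype.ext (hc _ ha _ hb))) fun m hm => ?_
      set g : G := ((m : C) : G) with hg
      have hgN : g ∈ normalizer ((S : Subgroup G) : Set G) := by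
        refine EqualOrderConj.mem_normalizer_of_conj_mem fun s hs => ?_
        exact (mem_normalizer_iff.1 hm ⟨⟨s, hSC hs⟩, hSD hs⟩).1 hs
      have hgt : g * t * g⁻¹ = t := by
        rw [show g * t = t * g from mem_centralizer_singleton_iff.1 (m : C).2, mul_inv_cancel_right]
      have hg2v : g ^ 2 * (v : G) * (g ^ 2)⁻¹ = v := by
        have hmD : π (m : C) * π v = π v * π (m : C) := mem_centralizer_singleton_iff.1 m.2
        have hker : v⁻¹ * ((m : C) * v * (m : C)⁻¹) ∈ zpowers tC := by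
          rw [← QuotientGroup.eq_one_iff (N := zpowers tC)]
          show π (v⁻¹ * ((m : C) * v * (m : C)⁻¹)) = 1
          rw [map_mul, map_mul, map_mul, map_inv, map_inv, hmD, mul_inv_cancel_right, inv_mul_cancel]
        rcases hzt _ hker with e1 | e1
        · have e2 : g * v * g⁻¹ = v := congrArg Subtype.val (inv_mul_eq_one.1 e1).symm
          calc g ^ 2 * (v : G) * (g ^ 2)⁻¹ = g * (g * v * g⁻¹) * g⁻¹ := by rw [pow_two]; group
            _ = v := by rw [e2, e2]
        · have e2 : g * v * g⁻¹ = v * t := congrArg Subtype.val (inv_mul_eq_iff_eq_mul.1 e1)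
          calc g ^ 2 * (v : G) * (g ^ 2)⁻¹ = g * (g * v * g⁻¹) * g⁻¹ := by rw [pow_two]; group
            _ = g * (v * t) * g⁻¹ := by rw [e2]
            _ = g * v * g⁻¹ * (g * t * g⁻¹) := by group
            _ = v := by rw [e2, hgt, mul_assoc, ← pow_two, he t htS, mul_one]
      have hg5 := stab_pow_five h S hc he hcard htS ht hgN hgt
      have hg2C : ∀ s ∈ (S : Subgroup G), g ^ 2 * s * (g ^ 2)⁻¹ = s := by
        intro s hs
        refine fixed_of_order_five hcard he (pow_mem hgN 2) (fun s' hs' => ?_) htS hv ?_ ?_ ?_ hg2v hs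
        · rw [← pow_mul, mul_comm 2 5, pow_mul, ← mem_centralizer_iff.1 (pow_mem hg5 2) s' hs',
            mul_inv_cancel_right]
        · intro e1; rw [e1, orderOf_one] at ht; omega
        · intro e1
          obtain ⟨k, hk⟩ := mem_zpowers_iff.1 e1
          exact hvt (mem_zpowers_iff.2 ⟨k, Subtype.ext (by simpa using hk)⟩)
        · calc g ^ 2 * t * (g ^ 2)⁻¹ = g * (g * t * g⁻¹) * g⁻¹ := by rw [pow_two]; group
            _ = t := by rw [hgt, hgt]
      refine mem_centralizer_iff.2 fun s hs => Subtype.ext (Subtype.ext ?_)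
      show ((s : C) : G) * g = g * ((s : C) : G)
      have h2' : g ^ 2 ∈ centralizer ((S : Subgroup G) : Set G) := mem_centralizer_iff.2 fun s hs =>
        (mul_inv_eq_iff_eq_mul.1 (hg2C s hs)).symm
      have hg1 : g = g ^ 5 * (g ^ 2)⁻¹ * (g ^ 2)⁻¹ := by group
      exact mem_centralizer_iff.1 (hg1 ▸ mul_mem (mul_mem hg5 (inv_mem h2')) (inv_mem h2')) _ hs
    exact Group.isSolvable_of_surjective (f := π.subgroupComap (centralizer ({π v} : Set (C ⧸ zpowers tC))))
      (MonoidHom.subgroupComap_surjective_of_surjective _ _ hπs)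
  have hcent : ∀ y : C ⧸ zpowers tC, orderOf y = 2 →
      Group.IsSolvable ↥(centralizer ({y} : Set (C ⧸ zpowers tC))) := by
    intro y hy
    obtain ⟨P, hP⟩ := (IsPGroup.of_card (n := 1) (G := zpowers y)
      (by rw [Nat.card_zpowers, hy, pow_one])).exists_le_sylow
    obtain ⟨c, hcP⟩ := MulAction.exists_smul_eq (C ⧸ zpowers tC) P SX
    have hyS : c * y * c⁻¹ ∈ (SX : Subgroup (C ⧸ zpowers tC)) := by
      rw [← hcP]
      refine Transfer.Fusion.mem_smul_sylow_iff.2 ?_
      rw [show c⁻¹ * (c * y * c⁻¹) * c = y by group]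
      exact hP (mem_zpowers y)
    obtain ⟨v, hv, hve⟩ := hyS
    have hvt : v ∉ zpowers tC := fun h1 => by
      have h2 : π v = 1 := (QuotientGroup.eq_one_iff v).2 h1
      rw [hve, conj_eq_one_iff] at h2
      rw [h2, orderOf_one] at hy
      omega
    haveI := hcentS v hv hvt
    refine Group.isSolvable_of_isSolvable_injective
      (f := ((MulAut.conj c).toMonoidHom.comp (centralizer ({y} : Set (C ⧸ zpowers tC))).subtype).codRestrict
        (centralizer ({π v} : Set (C ⧸ zpowers tC))) fun x => ?_) ?_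
    · rw [mem_centralizer_singleton_iff, hve]
      simpa [mul_assoc] using congrArg (fun z => c * z * c⁻¹) (mem_centralizer_singleton_iff.1 x.2)
    · exact fun a b e1 => Subtype.ext ((MulAut.conj c).injective (congrArg Subtype.val e1))
  rcases SEAbelian.s3188_of_core SEAbelian.coreLemma SX hSXc hcent with hs | ⟨F, iF, iT, hq, M, hMn, ⟨eM⟩, -⟩
  · haveI := hs
    haveI : Group.IsSolvable (zpowers tC) := Group.isSolvable_of_comm fun a b => mul_comm' a b
    exact Group.isSolvable_of_ker_le_range (zpowers tC).subtype π (by rw [hπ, QuotientGroup.ker_mk', range_subtype])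
  exfalso
  set O := Cfsg.oddCore (C ⧸ zpowers tC) with hO
  set f : C →* (C ⧸ zpowers tC) ⧸ O := (QuotientGroup.mk' O).comp π with hf
  have hfs : Function.Surjective f := (QuotientGroup.mk'_surjective _).comp hπs
  let SY : Sylow 2 ((C ⧸ zpowers tC) ⧸ O) := SC.mapSurjective hfs
  haveI := hMn
  have hYc : ∀ a ∈ (SY : Subgroup ((C ⧸ zpowers tC) ⧸ O)), ∀ b ∈ (SY : Subgroup ((C ⧸ zpowers tC) ⧸ O)),
      a * b = b * a := by
    rintro _ ⟨a, ha, rfl⟩ _ ⟨b, hb, rfl⟩
    rw [← map_mul, ← map_mul, show a * b = b * a from Subtype.ext (hc _ ha _ hb)]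
  have hYe : ∀ a ∈ (SY : Subgroup ((C ⧸ zpowers tC) ⧸ O)), a ^ 2 = 1 := by
    rintro _ ⟨a, ha, rfl⟩
    rw [← map_pow, show a ^ 2 = 1 from Subtype.ext (by rw [Subgroup.coe_pow]; exact he _ ha), map_one]
  let SM : Sylow 2 M := IsPGroup.toSylow (SY.2.comap_subtype (K := M))
    (Cores.sylow_subgroupOf_isSubnormal SY hMn.isSubnormal)
  set I := (SY : Subgroup ((C ⧸ zpowers tC) ⧸ O)) ⊓ M with hI
  have hIcard : Nat.card I = Nat.card (SM : Subgroup M) := by
    refine Nat.card_congr
      { toFun := fun x => ⟨⟨x.1, x.2.2⟩, x.2.1⟩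
        invFun := fun x => ⟨x.1.1, x.2, x.1.2⟩
        left_inv := fun _ => rfl
        right_inv := fun _ => rfl }
  have h4M : 4 ∣ Nat.card M := by
    rw [Nat.card_congr eM.toEquiv]
    exact four_dvd_psl hq
  have h4I : 4 ∣ Nat.card I := by
    rw [hIcard, SM.card_eq_multiplicity]
    exact pow_dvd_pow 2 ((Nat.prime_two.pow_dvd_iff_le_factorization Nat.card_pos.ne').1
      (show 2 ^ 2 ∣ Nat.card M from h4M))
  have hI1 : ∃ x ∈ I, x ≠ 1 := by
    by_contra hh
    push Not at hh
    rw [show I = ⊥ from (eq_bot_iff_forall I).2 hh, Subgroup.card_bot] at h4I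
    omega
  obtain ⟨j, hj⟩ := card_sub_one_of_transitive (M := I)
    (normalizer ((SY : Subgroup ((C ⧸ zpowers tC) ⧸ O)) : Set ((C ⧸ zpowers tC) ⧸ O)))
    (fun n hn x hx => ⟨(mem_normalizer_iff.1 hn x).1 hx.1, hMn.conj_mem x hx.2 n⟩)
    (fun n hn x hx => by
      obtain ⟨m, hm, rfl⟩ := exists_normalizer_lift f hfs SC hn
      obtain ⟨a, ha, rfl⟩ := hx.1
      have hmN : (m : G) ∈ normalizer ((S : Subgroup G) : Set G) := by
        refine EqualOrderConj.mem_normalizer_of_conj_mem fun s hs => ?_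
        exact (mem_normalizer_iff.1 hm ⟨s, hSC hs⟩).1 hs
      have h5 := stab_pow_five h S hc he hcard htS ht hmN (by
        rw [show (m : G) * t = t * m from mem_centralizer_singleton_iff.1 m.2, mul_inv_cancel_right])
      rw [← map_pow, ← map_inv, ← map_mul, ← map_mul]
      congr 1
      refine Subtype.ext ?_
      show (m : G) ^ 5 * a * ((m : G) ^ 5)⁻¹ = a
      rw [← mem_centralizer_iff.1 h5 (a : G) ha, mul_inv_cancel_right])
    hI1
    (fun x hx y hy hx1 hy1 => by
      have hox : orderOf (eM ⟨x, hx.2⟩) = 2 := by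
        rw [eM.orderOf_eq, ← Subgroup.orderOf_coe]; exact orderOf_eq_prime (hYe x hx.1) hx1
      have hoy : orderOf (eM ⟨y, hy.2⟩) = 2 := by
        rw [eM.orderOf_eq, ← Subgroup.orderOf_coe]; exact orderOf_eq_prime (hYe y hy.1) hy1
      obtain ⟨g, hg⟩ := isConj_iff.1 (psl_invol_conj hox hoy)
      refine exists_normalizer_conj SY hYc hx.1 hy.1 (g := ((eM.symm g : M) : _)) ?_
      have h1 := congrArg (fun z => ((eM.symm z : M) : (C ⧸ zpowers tC) ⧸ O)) hg
      simpa using h1)
  obtain ⟨i, hi⟩ := (SY.2.to_le inf_le_left : IsPGroup 2 I).exists_card_eq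
  have hi5 : 2 ^ i ≤ 32 := by
    rw [← hi]
    refine le_trans (card_le_of_le inf_le_left) ?_
    exact hcard ▸ le_trans (Nat.le_of_dvd Nat.card_pos (card_map_dvd _ _))
      (Nat.card_congr (subgroupOfEquivOfLe hSC).toEquiv).le
  rw [hi] at hj h4I
  have hi' : i ≤ 5 := (Nat.pow_le_pow_iff_right Nat.one_lt_two).1 (hi5.trans_eq (by norm_num))
  have hj5 : 5 ^ j ≤ 31 := by
    have := Nat.pow_le_pow_right two_pos hi'
    omega
  have hj2 : j ≤ 2 := by
    by_contra hh
    have := Nat.pow_le_pow_right (show 0 < 5 by norm_num) (show 3 ≤ j by omega)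
    omega
  interval_cases i <;> interval_cases j <;> simp_all

/-- Solvable centralizers of involutions. -/
theorem large_solvable (hO : Cfsg.oddCore G = ⊥) {n : ℕ} (hn : 3 ≤ n)
    (hcard : Nat.card (S : Subgroup G) = 2 ^ n)
    (hC : ∀ t : G, orderOf t = 2 → Group.IsSolvable ↥(centralizer ({t} : Set G))) :
    Nonempty (G ≃* Cfsg.affineGroup (GaloisField 2 3)) ∨
    Nonempty (G ≃* Cfsg.semiaffineGroup (GaloisField 2 3)) ∨
    Nonempty (G ≃* Cfsg.semiaffineGroup (GaloisField 2 5)) ∨
    Nonempty (G ≃* Matrix.ProjectiveSpecialLinearGroup (Fin 2) (GaloisField 2 3)) ∨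
    Nonempty (G ≃* MulAut (Matrix.ProjectiveSpecialLinearGroup (Fin 2) (GaloisField 2 5))) := by
  classical
  haveI : Fact (Nat.Prime 2) := ⟨Nat.prime_two⟩
  obtain ⟨hn35, e, -, hA, he5, hmodel⟩ := EqSubConj.model_two (h 2 Nat.prime_two) S hc he hn hcard
  haveI : IsMulCommutative ↥(S : Subgroup G) := ⟨⟨fun a b => Subtype.ext (hc _ a.2 _ b.2)⟩⟩
  rcases SEAbelian.s3188_of_core SEAbelian.coreLemma S inferInstance hC with hs | ⟨F, iF, iT, hq, M₀, hMn, ⟨eM₀⟩, hCM₀⟩
  · haveI := hs
    have htop : normalizer ((S : Subgroup G) : Set G) = ⊤ := by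
      have h1 := (SEAbelian.sylow_le_pCore (SEAbelian.abTwo_of_sylow S inferInstance) hO S).1
      have heq : (S : Subgroup G) = Cfsg.pCore 2 G := le_antisymm h1 (Cores.pCore_le_sylow S)
      haveI : (S : Subgroup G).Normal := by rw [heq]; infer_instance
      exact Subgroup.normalizer_eq_top _
    let eN : ↥(normalizer ((S : Subgroup G) : Set G)) ≃* G :=
      (MulEquiv.subgroupCongr htop).trans Subgroup.topEquiv
    have hbot : Cfsg.pPrimeCore 2 ↥(normalizer ((S : Subgroup G) : Set G)) = ⊥ := by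
      have hmap : ((Cfsg.pPrimeCore 2 ↥(normalizer ((S : Subgroup G) : Set G))).map
          eN.toMonoidHom).Normal := Subgroup.Normal.map inferInstance _ eN.surjective
      have hle := hO ▸ Cores.le_oddCore (N := (Cfsg.pPrimeCore 2
        ↥(normalizer ((S : Subgroup G) : Set G))).map eN.toMonoidHom) (by
          rw [card_map_of_injective eN.injective]; exact Cores.oddCore_odd)
      exact (Subgroup.map_eq_bot_iff_of_injective _ eN.injective).1 (le_bot_iff.1 hle)
    let eG : G ≃* ↥(normalizer ((S : Subgroup G) : Set G)) ⧸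
        Cfsg.pPrimeCore 2 ↥(normalizer ((S : Subgroup G) : Set G)) :=
      eN.symm.trans (QuotientGroup.quotientBot.symm.trans (QuotientGroup.quotientMulEquivOfEq hbot.symm))
    rcases hmodel with ⟨-, ⟨f⟩⟩ | ⟨-, ⟨f⟩⟩ | ⟨-, ⟨f⟩⟩
    · exact Or.inr (Or.inl ⟨eG.trans f⟩)
    · exact Or.inl ⟨eG.trans f⟩
    · exact Or.inr (Or.inr (Or.inl ⟨eG.trans f⟩))
  -- transfer to `G`
  let q₀ : G ⧸ Cfsg.oddCore G ≃* G := (QuotientGroup.quotientMulEquivOfEq hO).trans QuotientGroup.quotientBot
  set L : Subgroup G := M₀.map q₀.toMonoidHom with hL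
  haveI hLn : L.Normal := Normal.map hMn _ q₀.surjective
  have eL : L ≃* Matrix.ProjectiveSpecialLinearGroup (Fin 2) F :=
    (q₀.subgroupMap M₀).symm.trans eM₀
  have hCL : centralizer (L : Set G) = ⊥ := by
    rw [eq_bot_iff_forall]
    intro x hx
    have : q₀.symm x ∈ centralizer (M₀ : Set (G ⧸ Cfsg.oddCore G)) := mem_centralizer_iff.2 fun m hm => by
      apply q₀.injective
      rw [map_mul, map_mul, q₀.apply_symm_apply]
      exact mem_centralizer_iff.1 hx _ ⟨m, hm, rfl⟩
    rw [hCM₀, mem_bot] at this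
    simpa using congrArg q₀ this
  -- all involutions lie in `L`
  have h4L : 4 ∣ Nat.card L := Nat.card_congr eL.toEquiv ▸ four_dvd_psl hq
  obtain ⟨l, hl⟩ := exists_prime_orderOf_dvd_card' (G := L) 2 ((show 2 ∣ 4 by norm_num).trans h4L)
  have hlo : orderOf (l : G) = 2 := by rw [Subgroup.orderOf_coe, hl]
  have hSL : (S : Subgroup G) ≤ L := by
    intro s hs
    by_cases hs1 : s = 1
    · rw [hs1]; exact one_mem L
    obtain ⟨g, hg⟩ := isConj_iff.1 (h.isConj_invol hlo (orderOf_eq_prime (he s hs) hs1))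
    exact hg ▸ hLn.conj_mem _ l.2 g
  have h2L : 2 ^ n ∣ Nat.card L := hcard ▸ card_dvd_of_le hSL
  obtain ⟨m, hm, hFm⟩ : ∃ m, 2 ≤ m ∧ Fintype.card F = 2 ^ m := by
    rcases hq with ⟨hmod, h5⟩ | ⟨m, hm, hF⟩
    · exfalso
      have hN := PSLOrderSpectrum.card_psl_two (F := F)
      rw [Nat.gcd_eq_left (Nat.dvd_of_mod_eq_zero (by omega)), ← Nat.card_congr eL.toEquiv] at hN
      exact not_eight_dvd hmod hN ((pow_dvd_pow 2 hn).trans h2L)
    · exact ⟨m, hm, hF⟩
  obtain ⟨hLc, hGd, hAut⟩ := EqSubConj.card_dvd_aut (L := L) hm hFm eL hCL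
  have hm' : m = n := by
    have h1 : n ≤ m := by
      rw [hLc] at h2L
      have hcop : (2 ^ n).Coprime ((2 ^ m - 1) * (2 ^ m + 1)) := by
        refine Nat.Coprime.pow_left n (Nat.coprime_two_left.2 ?_)
        have hev : Even (2 ^ m) := Nat.even_pow.2 ⟨even_two, by omega⟩
        exact (Nat.Even.sub_odd Nat.one_le_two_pow hev odd_one).mul (Even.add_one hev)
      exact (Nat.pow_dvd_pow_iff_le_right (by norm_num)).1 (hcop.dvd_of_dvd_mul_right h2L)
    have h2 : m ≤ n := by
      have h3 : 2 ^ m ∣ Nat.card (S : Subgroup G) := by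
        rw [S.card_eq_multiplicity]
        refine pow_dvd_pow 2 ((Nat.prime_two.pow_dvd_iff_le_factorization Nat.card_pos.ne').1 ?_)
        exact (hLc ▸ dvd_mul_right _ _ : 2 ^ m ∣ Nat.card L).trans L.card_subgroup_dvd_card
      rw [hcard] at h3
      exact (Nat.pow_dvd_pow_iff_le_right (by norm_num)).1 h3
    omega
  subst hm'
  obtain ⟨j, hj⟩ := L.card_subgroup_dvd_card
  have hjd : j ∣ m := Nat.dvd_of_mul_dvd_mul_right Nat.card_pos (by
    rw [hj, mul_comm (Nat.card L)] at hGd; exact hGd)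
  rcases hn35 with rfl | rfl
  · rcases (Nat.dvd_prime Nat.prime_three).1 hjd with rfl | rfl
    · have hLtop : L = ⊤ := L.eq_top_of_card_eq (by rw [hj, mul_one])
      obtain ⟨r⟩ := exists_iso_of_card (by norm_num) hFm
      exact Or.inr (Or.inr (Or.inr (Or.inl
        ⟨(((MulEquiv.subgroupCongr hLtop).trans Subgroup.topEquiv).symm.trans eL).trans
          (Classical.SmallIso.pslCongr r)⟩)))
    · exact (EqSubConj.not_aut_three_of (fun x y hx hy => by
        obtain ⟨w, hw, -⟩ := h.exists_conj_mem Nat.prime_three hx hy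
        exact ⟨w, hw⟩) hFm eL hCL (by rw [hj, mul_comm])).elim
  · rcases (Nat.dvd_prime Nat.prime_five).1 hjd with rfl | rfl
    · exfalso
      have h5 : 5 ∣ Nat.card L := by
        rw [show Nat.card L = Nat.card G by rw [hj, mul_one]]
        refine dvd_trans ?_ (normalizer ((S : Subgroup G) : Set G)).card_subgroup_dvd_card
        rw [← hA, he5 rfl]
        exact Dvd.dvd.mul_left (dvd_mul_left 5 _) _
      rw [hLc] at h5
      norm_num at h5
    · obtain ⟨r⟩ := exists_iso_of_card (by norm_num) hFm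
      have hbij : Function.Bijective (MulAut.conjNormal (H := L) : G →* MulAut L) :=
        (Nat.bijective_iff_injective_and_card _).2
          ⟨GW.Cons.conjNormal_injective hCL, by rw [hAut, hj, mul_comm]⟩
      exact Or.inr (Or.inr (Or.inr (Or.inr ⟨(MulEquiv.ofBijective _ hbij).trans
        (MulAut.congr (eL.trans (Classical.SmallIso.pslCongr r)))⟩)))

end Cfsg.Agent.EqConjOdd
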