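import Mathlib
import Cfsg.Agent.Lib.Cores.Basic

/-!
# A simplicity criterion for groups with one class of involutions and centralizer `2 × K`
-/

set_option autoImplicit false
set_option linter.style.haveILetI false
set_option linter.unusedSectionVars false

namespace Cfsg.Agent.EqConjOdd

open Subgroup

universe u

variable {H : Type u} [Group H] [Finite H]

omit [Finite H] in
theorem orderOf_conj (g x : H) : orderOf (g * x * g⁻¹) = orderOf x :=
  orderOf_injective (MulAut.conj g).toMonoidHom (MulAut.conj g).injective x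

omit [Finite H] in

theorem commute_conj_iff (g x y : H) : Commute (g * x * g⁻¹) (g * y * g⁻¹) ↔ Commute x y :=
  Commute.conj_iff g

/-- Simplicity from a simple component `K` of the centralizer of an involution. -/
theorem isSimpleGroup_of (hO : Cfsg.oddCore H = ⊥)
    (hinv : ∀ a b : H, orderOf a = 2 → orderOf b = 2 → IsConj a b) (S : Sylow 2 H)
    (hS8 : Nat.card (S : Subgroup H) = 8)
    (hc : ∀ a ∈ (S : Subgroup H), ∀ b ∈ (S : Subgroup H), a * b = b * a)
    (he : ∀ a ∈ (S : Subgroup H), a ^ 2 = 1) {t : H} (ht : orderOf t = 2) (K : Subgroup H)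
    (hKt : K ≤ centralizer ({t} : Set H)) (hC : centralizer ({t} : Set H) = zpowers t ⊔ K)
    (htK : t ∉ K) (hKs : IsSimpleGroup K)
    (hKconj : ∀ a b : K, orderOf a = 2 → orderOf b = 2 → IsConj a b) (h4 : 4 ∣ Nat.card K) :
    IsSimpleGroup H := by
  classical
  haveI : Fact (Nat.Prime 2) := ⟨Nat.prime_two⟩
  haveI : Fintype H := Fintype.ofFinite H
  have ht1 : t ≠ 1 := fun e => by rw [e, orderOf_one] at ht; omega
  haveI : Nontrivial H := ⟨⟨t, 1, ht1⟩⟩
  set L := normalClosure ({t} : Set H) with hL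
  have htL : t ∈ L := subset_normalClosure (Set.mem_singleton t)
  have hall : ∀ a : H, orderOf a = 2 → a ∈ L := fun a ha => by
    obtain ⟨g, hg⟩ := isConj_iff.1 (hinv t a ht ha)
    exact hg ▸ (normalClosure_normal).conj_mem t htL g
  have hmin : ∀ N : Subgroup H, N.Normal → N ≠ ⊥ → L ≤ N := by
    intro N hN hne
    refine normalClosure_le_normal (Set.singleton_subset_iff.2 ?_)
    have h2 : 2 ∣ Nat.card N := by
      by_contra hcon
      exact hne (le_bot_iff.1 (hO ▸ Cores.le_oddCore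
        (Nat.odd_iff.2 (Nat.two_dvd_ne_zero.1 hcon))))
    obtain ⟨y, hy⟩ := exists_prime_orderOf_dvd_card' (G := N) 2 h2
    obtain ⟨g, hg⟩ := isConj_iff.1 (hinv y t (by rw [Subgroup.orderOf_coe, hy]) ht)
    exact hg ▸ hN.conj_mem _ y.2 g
  -- `C(t) ≤ L`
  have h2K : 2 ∣ Nat.card K := dvd_trans (by norm_num) h4
  obtain ⟨k₀, hk₀⟩ := exists_prime_orderOf_dvd_card' (G := K) 2 h2K
  have hKL : K ≤ L := by
    rcases hKs.eq_bot_or_eq_top_of_normal (L.subgroupOf K) inferInstance with hb | htop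
    · exfalso
      have hm : k₀ ∈ L.subgroupOf K := hall _ ((orderOf_injective K.subtype K.subtype_injective k₀).trans hk₀)
      rw [hb, mem_bot] at hm
      rw [hm, orderOf_one] at hk₀
      omega
    · exact subgroupOf_eq_top.1 htop
  have hCt : centralizer ({t} : Set H) ≤ L := hC ▸ sup_le (zpowers_le.2 htL) hKL
  have hCs : ∀ s g : H, orderOf s = 2 → Commute g s → g ∈ L := by
    intro s g hs hgs
    obtain ⟨d, hd⟩ := isConj_iff.1 (hinv s t hs ht)
    have h1 : d * g * d⁻¹ ∈ L := hCt (mem_centralizer_singleton_iff.2 (by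
      rw [← hd]; exact ((commute_conj_iff d g s).2 hgs).eq))
    have h2 := (normalClosure_normal (s := ({t} : Set H))).conj_mem _ h1 d⁻¹
    simpa [mul_assoc] using h2
  have hSL : (S : Subgroup H) ≤ L := fun a ha => by
    by_cases ha1 : a = 1
    · rw [ha1]; exact one_mem L
    · exact hall a (orderOf_eq_prime (he a ha) ha1)
  -- two distinct elements of `S` conjugate in `L`
  obtain ⟨s₁, s₂, hs₁, hs₂, hs₁2, hs12, l₀, hl₀, hls⟩ : ∃ s₁ s₂, s₁ ∈ (S : Subgroup H) ∧
      s₂ ∈ (S : Subgroup H) ∧ orderOf s₁ = 2 ∧ s₁ ≠ s₂ ∧ ∃ l ∈ L, l * s₁ * l⁻¹ = s₂ := by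
    obtain ⟨P⟩ : Nonempty (Sylow 2 K) := inferInstance
    have hP4 : 4 ∣ Nat.card (P : Subgroup K) := by
      have := P.pow_dvd_card_of_pow_dvd_card (n := 2) (by simpa using h4)
      simpa using this
    obtain ⟨T, hT⟩ := (P.2.map K.subtype).exists_le_sylow
    obtain ⟨g, rfl⟩ := MulAction.exists_smul_eq H S T
    have hmem : ∀ x ∈ (P : Subgroup K), g⁻¹ * x * g ∈ (S : Subgroup H) := fun x hx => by
      have := hT ⟨x, hx, rfl⟩
      rw [Sylow.coe_subgroup_smul, Subgroup.mem_pointwise_smul_iff_inv_smul_mem,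
        MulAut.smul_def, ← map_inv, MulAut.conj_apply] at this
      simpa using this
    have h2P : ∀ x ∈ (P : Subgroup K), x ≠ 1 → orderOf x = 2 := fun x hx hx1 => by
      refine orderOf_eq_prime ?_ hx1
      have h := he _ (hmem x hx)
      have e : (g⁻¹ * (x : H) * g) ^ 2 = g⁻¹ * ((x : H) ^ 2) * g := by rw [pow_two, pow_two]; group
      rw [e] at h
      refine Subtype.ext ?_
      rw [Subgroup.coe_pow, Subgroup.coe_one]
      calc (x : H) ^ 2 = g * (g⁻¹ * (x : H) ^ 2 * g) * g⁻¹ := by group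
        _ = 1 := by rw [h]; group
    obtain ⟨a, b, ha, hb, ha1, hb1, hab⟩ : ∃ a b, a ∈ (P : Subgroup K) ∧ b ∈ (P : Subgroup K) ∧
        a ≠ 1 ∧ b ≠ 1 ∧ a ≠ b := by
      haveI := Fintype.ofFinite (P : Subgroup K)
      have h3 : 2 < Fintype.card (P : Subgroup K) := by
        rw [← Nat.card_eq_fintype_card]
        have := Nat.le_of_dvd Nat.card_pos hP4
        omega
      obtain ⟨x, y, z, hxy, hxz, hyz⟩ := Fintype.two_lt_card_iff.1 h3
      by_cases hx : x = 1
      · exact ⟨y, z, y.2, z.2, fun e => hxy (by rw [hx]; exact (Subtype.ext e).symm),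
          fun e => hxz (by rw [hx]; exact (Subtype.ext e).symm), fun e => hyz (Subtype.ext e)⟩
      by_cases hy : y = 1
      · exact ⟨x, z, x.2, z.2, fun e => hx (Subtype.ext e),
          fun e => hyz (by rw [hy]; exact (Subtype.ext e).symm), fun e => hxz (Subtype.ext e)⟩
      exact ⟨x, y, x.2, y.2, fun e => hx (Subtype.ext e), fun e => hy (Subtype.ext e),
        fun e => hxy (Subtype.ext e)⟩
    obtain ⟨c, hc'⟩ := isConj_iff.1 (hKconj a b (h2P a ha ha1) (h2P b hb hb1))
    refine ⟨_, _, hmem a ha, hmem b hb, ?_, fun e => hab (Subtype.ext (by simpa using e)),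
      g⁻¹ * c * g, ?_, ?_⟩
    · have := orderOf_conj g⁻¹ (a : H)
      rw [inv_inv] at this
      rw [this, Subgroup.orderOf_coe, h2P a ha ha1]
    · have := (normalClosure_normal (s := ({t} : Set H))).conj_mem _ (hKL c.2) g⁻¹
      rwa [inv_inv] at this
    · have hcv : (c : H) * a * (c : H)⁻¹ = b := congrArg Subtype.val hc'
      rw [← hcv]
      group
  -- `L` fuses the involutions of `S`
  haveI : IsMulCommutative (S : Subgroup H) := ⟨⟨fun a b => Subtype.ext (hc _ a.2 _ b.2)⟩⟩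
  have htrans : ∀ a ∈ (S : Subgroup H), ∀ b ∈ (S : Subgroup H), orderOf a = 2 → orderOf b = 2 →
      ∃ n ∈ normalizer ((S : Subgroup H) : Set H), n * a * n⁻¹ = b := by
    intro a ha b hb ha2 hb2
    obtain ⟨d, hd⟩ := isConj_iff.1 (hinv a b ha2 hb2)
    obtain ⟨n, hn, e⟩ := S.conj_eq_normalizer_conj_of_mem a d⁻¹ ha (by rw [inv_inv, hd]; exact hb)
    exact ⟨n⁻¹, inv_mem hn, by rw [inv_inv, ← e, inv_inv, hd]⟩
  set s := Finset.univ.filter fun a : H => a ∈ (S : Subgroup H) ∧ a ≠ 1 with hs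
  have hs7 : s.card = 7 := by
    have : s = (Finset.univ.filter fun a : H => a ∈ (S : Subgroup H)).erase 1 := by
      ext a; simp [hs, and_comm]
    rw [this, Finset.card_erase_of_mem (by simp [one_mem]), ← Fintype.card_subtype,
      ← Nat.card_eq_fintype_card, show Nat.card {x // x ∈ (S : Subgroup H)} = 8 from hS8]
  set C : H → Finset H := fun a => s.filter fun b => ∃ l ∈ L, l * a * l⁻¹ = b with hCdef
  have hmem_s : ∀ {a : H}, a ∈ s ↔ a ∈ (S : Subgroup H) ∧ orderOf a = 2 := fun {a} => by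
    simp only [hs, Finset.mem_filter, Finset.mem_univ, true_and]
    refine and_congr_right fun ha => ⟨fun h1 => orderOf_eq_prime (he a ha) h1, fun h1 e => ?_⟩
    rw [e, orderOf_one] at h1
    omega
  have hClass : ∀ a ∈ s, ∀ b ∈ s, b ∈ C a ↔ C b = C a := by
    intro a ha b hb
    simp only [hCdef, Finset.mem_filter]
    constructor
    · rintro ⟨-, l, hl, rfl⟩
      refine Finset.filter_congr fun x _ => ⟨?_, ?_⟩
      · rintro ⟨m, hm, rfl⟩
        exact ⟨m * l, mul_mem hm hl, by group⟩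
      · rintro ⟨m, hm, rfl⟩
        exact ⟨m * l⁻¹, mul_mem hm (inv_mem hl), by group⟩
    · intro e
      have h1 : b ∈ s.filter fun x => ∃ l ∈ L, l * b * l⁻¹ = x :=
        Finset.mem_filter.2 ⟨hb, 1, one_mem L, by group⟩
      rw [e] at h1
      exact Finset.mem_filter.1 h1
  have hCle : ∀ a ∈ s, ∀ b ∈ s, (C a).card ≤ (C b).card := by
    intro a ha b hb
    obtain ⟨n, hn, rfl⟩ := htrans a (hmem_s.1 ha).1 b (hmem_s.1 hb).1 (hmem_s.1 ha).2 (hmem_s.1 hb).2
    refine Finset.card_le_card_of_injOn (fun x => n * x * n⁻¹) ?_ fun x _ y _ e => by simpa using e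
    intro x hx
    obtain ⟨hxs, l, hl, rfl⟩ := Finset.mem_filter.1 (Finset.mem_coe.1 hx)
    refine Finset.mem_coe.2 (Finset.mem_filter.2 ⟨hmem_s.2 ⟨?_, ?_⟩, n * l * n⁻¹,
      normalClosure_normal.conj_mem l hl n, by group⟩)
    · exact (mem_normalizer_iff.1 hn _).1 (hmem_s.1 hxs).1
    · rw [orderOf_conj, (hmem_s.1 hxs).2]
  have hs₁s : s₁ ∈ s := hmem_s.2 ⟨hs₁, hs₁2⟩
  have hs₂s : s₂ ∈ s := hmem_s.2 ⟨hs₂, by rw [← hls, orderOf_conj, hs₁2]⟩
  have hfull : C s₁ = s := by
    refine Finset.eq_of_subset_of_card_le (Finset.filter_subset _ _) ?_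
    have hk : 2 ≤ (C s₁).card :=
      Finset.one_lt_card.2 ⟨s₁, Finset.mem_filter.2 ⟨hs₁s, 1, one_mem L, by group⟩, s₂,
        Finset.mem_filter.2 ⟨hs₂s, l₀, hl₀, hls⟩, hs12⟩
    have hsum := Finset.card_eq_sum_card_image C s
    have hfib : ∀ B ∈ s.image C, (s.filter fun a => C a = B).card = (C s₁).card := by
      intro B hB
      obtain ⟨a, ha, rfl⟩ := Finset.mem_image.1 hB
      rw [show (s.filter fun x => C x = C a) = C a from Finset.ext fun x => ?_]
      · exact le_antisymm (hCle a ha s₁ hs₁s) (hCle s₁ hs₁s a ha)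
      · rw [Finset.mem_filter]
        exact ⟨fun ⟨hx, e⟩ => (hClass a ha x hx).2 e,
          fun hx => ⟨(Finset.mem_filter.1 hx).1, (hClass a ha x (Finset.mem_filter.1 hx).1).1 hx⟩⟩
    rw [Finset.sum_congr rfl hfib, Finset.sum_const, smul_eq_mul, hs7] at hsum
    rw [hs7]
    rcases (Nat.dvd_prime (by norm_num : Nat.Prime 7)).1 (Dvd.intro_left _ hsum.symm) with h1 | h1
    · omega
    · omega
  -- the normalizer of `S` lies in `L`
  have hN : normalizer ((S : Subgroup H) : Set H) ≤ L := by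
    intro n hn
    have hx : n * s₁ * n⁻¹ ∈ C s₁ := by
      rw [hfull]
      exact hmem_s.2 ⟨(mem_normalizer_iff.1 hn _).1 hs₁, by rw [orderOf_conj, hs₁2]⟩
    obtain ⟨-, l, hl, e⟩ := Finset.mem_filter.1 hx
    have hcom : Commute (l⁻¹ * n) s₁ := by
      show l⁻¹ * n * s₁ = s₁ * (l⁻¹ * n)
      calc l⁻¹ * n * s₁ = l⁻¹ * (n * s₁ * n⁻¹) * n := by group
        _ = l⁻¹ * (l * s₁ * l⁻¹) * n := by rw [e]
        _ = _ := by group
    simpa using mul_mem hl (hCs _ _ hs₁2 hcom)
  have hLtop : L = ⊤ := by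
    rw [← S.normalizer_sup_eq_top' hSL]
    exact (sup_eq_right.2 hN).symm
  exact ⟨fun N hN => or_iff_not_imp_left.2 fun hne => eq_top_iff.2 (hLtop ▸ hmin N hN hne)⟩

end Cfsg.Agent.EqConjOdd
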