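import Cfsg.Agent.Lib.EqConjOdd.Cyc
import Cfsg.Agent.Lib.Coprime.Sylow
import Cfsg.Agent.Lib.Transfer.NormalPComplement

/-!
# The 3-part of the order when an element of order 3 centralises a single involution class member
-/

set_option autoImplicit false
set_option linter.style.haveILetI false

namespace Cfsg.Agent.EqConjOdd

open Subgroup

universe u

variable {G : Type u} [Group G] [Finite G]

/-- Elements of a 2-subgroup commute when a Sylow 2-subgroup is abelian. -/
theorem comm_of_two (S : Sylow 2 G)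
    (hc : ∀ a ∈ (S : Subgroup G), ∀ b ∈ (S : Subgroup G), a * b = b * a) {Q : Subgroup G}
    (hQ : IsPGroup 2 Q) {a b : G} (ha : a ∈ Q) (hb : b ∈ Q) : a * b = b * a := by
  haveI : Fact (Nat.Prime 2) := ⟨Nat.prime_two⟩
  obtain ⟨S', hS'⟩ := hQ.exists_le_sylow
  obtain ⟨g, hg⟩ := MulAction.exists_smul_eq G S S'
  rw [← hg, Sylow.coe_subgroup_smul, pointwise_smul_def] at hS'
  obtain ⟨a0, ha0, rfl⟩ := hS' ha
  obtain ⟨b0, hb0, rfl⟩ := hS' hb
  simp only [MulDistribMulAction.toMonoidEnd_apply, MulDistribMulAction.toMonoidHom_apply,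
    MulAut.smul_def]
  rw [← map_mul, ← map_mul, hc a0 ha0 b0 hb0]

open scoped Pointwise in
theorem three_part (h : CycConj G) (S : Sylow 2 G)
    (hc : ∀ a ∈ (S : Subgroup G), ∀ b ∈ (S : Subgroup G), a * b = b * a)
    (_he : ∀ a ∈ (S : Subgroup G), a ^ 2 = 1) {t x : G} (ht : orderOf t = 2) (hx : orderOf x = 3)
    (hxt : Commute x t)
    (hCx : ¬ 4 ∣ Nat.card ↥(centralizer ({x} : Set G) ⊓ centralizer ({t} : Set G)))
    (hinv : ∀ s : G, orderOf s = 2 → Commute s t → s * x * s⁻¹ ≠ x⁻¹)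
    (h81 : ¬ 81 ∣ Nat.card ↥(centralizer ({t} : Set G))) : ¬ 81 ∣ Nat.card G := by
  intro hG
  haveI : Fact (Nat.Prime 2) := ⟨Nat.prime_two⟩
  haveI : Fact (Nat.Prime 3) := ⟨Nat.prime_three⟩
  set C := centralizer ({x} : Set G) with hC
  have htC : t ∈ C := mem_centralizer_singleton_iff.2 hxt.eq.symm
  have ht2 : t * t = 1 := by rw [← sq, ← ht]; exact pow_orderOf_eq_one t
  have htinv : t⁻¹ = t := inv_eq_of_mul_eq_one_right ht2
  -- a Sylow 2-subgroup of `C` has order 2
  set tC : C := ⟨t, htC⟩ with htCdef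
  have htC2 : orderOf tC = 2 := by rw [← Subgroup.orderOf_coe]; exact ht
  obtain ⟨W, hW⟩ := (IsPGroup.of_card (n := 1)
    (by rw [Nat.card_zpowers, htC2, pow_one]) : IsPGroup 2 (zpowers tC)).exists_le_sylow
  have hWt : (W : Subgroup C).map C.subtype ≤ centralizer ({x} : Set G) ⊓ centralizer ({t} : Set G) := by
    rintro _ ⟨w, hw, rfl⟩
    exact ⟨w.2, mem_centralizer_singleton_iff.2
      (comm_of_two S hc (W.2.map C.subtype) (mem_map_of_mem _ hw)
        (mem_map_of_mem C.subtype (hW (mem_zpowers tC))))⟩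
  have hW4 : ¬ 4 ∣ Nat.card W := fun h4 => hCx (by
    refine dvd_trans ?_ (card_dvd_of_le hWt)
    rwa [card_map_of_injective C.subtype_injective])
  have hWle : Nat.card W ≤ 2 := by
    obtain ⟨k, hk⟩ := W.2.exists_card_eq
    rw [hk] at hW4 ⊢
    rcases k with - | - | k
    · norm_num
    · norm_num
    · exact absurd ⟨2 ^ k, by rw [pow_succ, pow_succ]; ring⟩ hW4
  have hN : normalizer ((W : Subgroup C) : Set C) ≤ centralizer ((W : Subgroup C) : Set C) := by
    intro n hn w hw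
    by_cases h1 : w = 1
    · simp [h1]
    · have h2 : Nat.card W = 2 := by
        refine le_antisymm hWle ?_
        exact (W : Subgroup C).one_lt_card_iff_ne_bot.2 fun hb => h1 (by
          rw [hb] at hw; exact mem_bot.1 hw)
      obtain ⟨y, -, hy⟩ := (Nat.card_eq_two_iff' (1 : (W : Subgroup C))).1 h2
      have e := (hy ⟨n * w * n⁻¹, (mem_normalizer_iff.1 hn w).1 hw⟩ (fun e => h1 (by
        have := congrArg Subtype.val e
        simpa using conj_eq_one_iff.1 this))).trans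
        (hy ⟨w, hw⟩ (fun e => h1 (congrArg Subtype.val e))).symm
      exact (mul_inv_eq_iff_eq_mul.1 (congrArg Subtype.val e)).symm
  obtain ⟨K, hKn, hKc, k, hKi⟩ := Transfer.NormalPComplement.hasNormalPComplement_iff_exists.1
    (Transfer.NormalPComplement.hasNormalPComplement_of_normalizer_le_centralizer W hN)
  -- every 3-element of `C` lies in `K`
  obtain ⟨P0, -, hP0C⟩ := h.exists_sylow_le_centralizer hx
  have h81K : 81 ∣ Nat.card K := by
    have h1 : 81 ∣ Nat.card P0 := P0.pow_dvd_card_of_pow_dvd_card (n := 4) (by norm_num; exact hG)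
    have h2 : 81 ∣ Nat.card K * K.index := by
      rw [K.card_mul_index]; exact h1.trans (card_dvd_of_le hP0C)
    refine Nat.Coprime.dvd_of_dvd_mul_right ?_ h2
    rw [hKi]
    exact Nat.Coprime.pow_right k (by norm_num)
  set K' := K.map C.subtype with hK'
  have hA : zpowers t ≤ normalizer (K' : Set G) := by
    rw [zpowers_le]
    have h1 : tC ∈ normalizer (K : Set C) := by
      rw [normalizer_eq_top_iff.2 hKn]; exact mem_top _
    exact le_normalizer_map C.subtype (mem_map_of_mem _ h1)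
  have hcop : (Nat.card (zpowers t)).Coprime (Nat.card K') := by
    rw [Nat.card_zpowers, ht, card_map_of_injective C.subtype_injective]
    exact (Nat.Coprime.symm hKc)
  obtain ⟨P1, hP1⟩ := Coprime.exists_invariant_sylow (G := G) 3 hA hcop
    (Or.inl (by infer_instance))
  set P := (P1 : Subgroup K').map K'.subtype with hP
  have hP81 : 81 ∣ Nat.card P := by
    rw [hP, card_map_of_injective K'.subtype_injective]
    exact P1.pow_dvd_card_of_pow_dvd_card (n := 4) (by
      rw [hK', card_map_of_injective C.subtype_injective]; norm_num; exact h81K)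
  have hPp : IsPGroup 3 P := P1.2.map _
  -- `t` centralises `P`
  apply h81
  refine hP81.trans (card_dvd_of_le fun p hp => mem_centralizer_singleton_iff.2 ?_)
  by_contra hne
  have hconj : t * p * t⁻¹ ∈ P := (mem_normalizer_iff.1 (hP1 (mem_zpowers t)) p).1 hp
  set y := p⁻¹ * (t * p * t⁻¹) with hy
  have hyP : y ∈ P := mul_mem (inv_mem hp) hconj
  have hy1 : y ≠ 1 := fun e => hne (by
    rw [hy, inv_mul_eq_one] at e
    exact (mul_inv_eq_iff_eq_mul.1 e.symm).symm)
  have hyinv : t * y * t⁻¹ = y⁻¹ := by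
    rw [hy, htinv]
    simp only [mul_inv_rev, inv_inv, mul_assoc, htinv, ht2, mul_one]
  obtain ⟨m, hm⟩ := hPp ⟨y, hyP⟩
  have hm' : y ^ 3 ^ m = 1 := congrArg Subtype.val hm
  obtain ⟨j, hj, hjo⟩ : ∃ j ≤ m, orderOf y = 3 ^ j :=
    (Nat.dvd_prime_pow Nat.prime_three).1 (orderOf_dvd_of_pow_eq_one hm')
  have hj0 : j ≠ 0 := fun e => hy1 (orderOf_eq_one_iff.1 (by rw [hjo, e, pow_zero]))
  obtain ⟨i, rfl⟩ : ∃ i, j = i + 1 := ⟨j - 1, by omega⟩
  set y3 := y ^ 3 ^ i with hy3
  have hy3o : orderOf y3 = 3 := by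
    rw [hy3, orderOf_pow' _ (by positivity), hjo,
      Nat.gcd_eq_right (pow_dvd_pow 3 (Nat.le_succ i)), pow_succ,
      Nat.mul_div_cancel_left _ (by positivity)]
  have hy3inv : t * y3 * t⁻¹ = y3⁻¹ := by rw [hy3, ← conj_pow, hyinv, inv_pow]
  obtain ⟨g, hg, hgz⟩ := h.exists_conj_mem Nat.prime_three hy3o hx
  set s0 := g * t * g⁻¹ with hs0
  have hs0o : orderOf s0 = 2 := by rw [← ht]; exact MulEquiv.orderOf_eq (MulAut.conj g) t
  have hs0x : s0 * x * s0⁻¹ = x⁻¹ := by
    obtain ⟨a, ha⟩ := mem_zpowers_iff.1 (show x ∈ zpowers (g * y3 * g⁻¹) by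
      have : x ∈ (zpowers y3).map (MulAut.conj g).toMonoidHom := hgz ▸ mem_zpowers x
      rwa [MonoidHom.map_zpowers] at this)
    rw [← ha, ← conj_zpow]
    have : s0 * (g * y3 * g⁻¹) * s0⁻¹ = (g * y3 * g⁻¹)⁻¹ := by
      calc _ = g * (t * y3 * t⁻¹) * g⁻¹ := by rw [hs0]; group
        _ = _ := by rw [hy3inv]; group
    rw [this, inv_zpow]
  -- move `s0` into a 2-subgroup with `t`
  set Nx := normalizer ((zpowers x : Subgroup G) : Set G) with hNx
  have hmemN : ∀ {n : G}, n * x * n⁻¹ ∈ zpowers x → n ∈ Nx := by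
    intro n hn
    refine mem_normalizer_iff.2 fun a => ⟨fun ha => ?_, fun ha => ?_⟩
    · obtain ⟨e, rfl⟩ := mem_zpowers_iff.1 ha
      rw [← conj_zpow]
      exact zpow_mem hn e
    · have hle : (zpowers x).map (MulAut.conj n).toMonoidHom ≤ zpowers x := by
        rw [MonoidHom.map_zpowers, zpowers_le]
        exact hn
      have heq := Subgroup.eq_of_le_of_card_ge hle (by
        rw [card_map_of_injective (MulAut.conj n).injective])
      rw [← heq] at ha
      obtain ⟨b, hb, hbe⟩ := ha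
      rwa [show a = b from ((MulAut.conj n).injective hbe).symm]
  have htN : t ∈ Nx := hmemN (by
    rw [show t * x * t⁻¹ = x by rw [← hxt.eq, mul_inv_cancel_right]]
    exact mem_zpowers x)
  have hsN : s0 ∈ Nx := hmemN (by rw [hs0x]; exact inv_mem (mem_zpowers x))
  obtain ⟨S1, hS1⟩ := (IsPGroup.of_card (n := 1) (by
    rw [Nat.card_zpowers, ← Subgroup.orderOf_coe, ht, pow_one]) :
      IsPGroup 2 (zpowers (⟨t, htN⟩ : Nx))).exists_le_sylow
  obtain ⟨S2, hS2⟩ := (IsPGroup.of_card (n := 1) (by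
    rw [Nat.card_zpowers, ← Subgroup.orderOf_coe, hs0o, pow_one]) :
      IsPGroup 2 (zpowers (⟨s0, hsN⟩ : Nx))).exists_le_sylow
  obtain ⟨n, hn⟩ := MulAction.exists_smul_eq Nx S2 S1
  have hs : n * (⟨s0, hsN⟩ : Nx) * n⁻¹ ∈ (S1 : Subgroup Nx) := by
    rw [← hn, Sylow.coe_subgroup_smul]
    exact Subgroup.smul_mem_pointwise_smul _ (MulAut.conj n) _ (hS2 (mem_zpowers _))
  set s : G := (n : G) * s0 * (n : G)⁻¹ with hsdef
  have hsc : Commute s t := comm_of_two S hc (S1.2.map Nx.subtype) ⟨_, hs, rfl⟩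
    ⟨_, hS1 (mem_zpowers _), rfl⟩
  refine hinv s (by rw [← hs0o]; exact MulEquiv.orderOf_eq (MulAut.conj (n : G)) s0) hsc ?_
  obtain ⟨e, he⟩ := mem_zpowers_iff.1 ((mem_normalizer_iff''.1 n.2 x).1 (mem_zpowers x))
  have h1 : s0 * ((n : G)⁻¹ * x * n) * s0⁻¹ = ((n : G)⁻¹ * x * n)⁻¹ := by
    rw [← he, ← conj_zpow, hs0x, inv_zpow]
  calc s * x * s⁻¹ = (n : G) * (s0 * ((n : G)⁻¹ * x * n) * s0⁻¹) * (n : G)⁻¹ := by rw [hsdef]; group
    _ = _ := by rw [h1]; group

end Cfsg.Agent.EqConjOdd
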