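import Cfsg.Agent.Lib.EqConjOdd.Tools
import Cfsg.Agent.Lib.EqConjOdd.Large
import Cfsg.Agent.Lib.EqConjOdd.Five
import Cfsg.Agent.Lib.EqConjOdd.Generation
import Cfsg.Agent.Lib.EqConjOdd.SimpleOf
import Cfsg.Agent.Lib.EqConjOdd.ThreePart
import Cfsg.Agent.Lib.EqConjOdd.JankoSE
import Cfsg.Agent.Lib.EqConjOdd.Cyc
import Cfsg.Agent.Lib.SEAbelian.ReduceSignalizer
import Cfsg.Agent.Lib.Components.Hyperplane
import Cfsg.Agent.Lib.Involutions.StronglyEmbedded
import Cfsg.Agent.Lib.TimesPSLTwo.PSLFacts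
import Cfsg.Agent.Lib.CyclicSylowInter.Congr
import Cfsg.Agent.S0343

/-!
# Elementary Sylow 2-subgroups of order eight: the first Janko group

With involution centralisers `O × (2 × L₂(q))` up to coprime cores, the cores generate an odd group
whose normalizer is everything or strongly embedded, and the quotient is the first Janko group.
-/

set_option autoImplicit false
set_option linter.style.haveILetI false
set_option linter.unusedSectionVars false

namespace Cfsg.Agent.EqConjOdd

open Subgroup SEAbelian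
open scoped Pointwise

universe u

variable {G : Type u} [Group G] [Finite G] {F : Type} [Field F] [Fintype F]

/-- A complement to the odd core in a centralizer of an involution. -/
structure Comp (F : Type) [Field F] [Fintype F] (t : G) (K : Subgroup G) : Prop where
  le : K ≤ centralizer ({t} : Set G)
  notMem : t ∉ K
  iso : Nonempty (↥K ≃* Matrix.ProjectiveSpecialLinearGroup (Fin 2) F)
  sup : theta t ⊔ (zpowers t ⊔ K) = centralizer ({t} : Set G)
  cop : (Nat.card ↥(theta t)).Coprime (2 * Nat.card K)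

/-- The odd Sylow subgroups are each cyclic or of prime exponent. -/
def OddSylow (G : Type u) [Group G] : Prop :=
  ∀ r : ℕ, ∀ [Fact r.Prime], r ≠ 2 → ∀ P : Sylow r G,
    IsCyclic (P : Subgroup G) ∨ ∀ a ∈ (P : Subgroup G), a ^ r = 1

theorem AllConj.oddSylow (h : AllConj G) : OddSylow G := by
  intro r hr hr2 P
  rcases EqualOrderConj.main h P with hcy | he | ⟨⟨e⟩⟩
  · exact Or.inl hcy
  · exact Or.inr he.2
  · exfalso
    obtain ⟨k, hk⟩ := P.2.exists_card_eq
    rw [Nat.card_congr e.toEquiv, Nat.card_eq_fintype_card, QuaternionGroup.card] at hk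
    refine hr2 ((Nat.prime_dvd_prime_iff_eq hr.out Nat.prime_two).1 (hr.out.dvd_of_dvd_pow
      (m := 2) (n := 3) ?_))
    rcases k with - | k
    · norm_num at hk
    · exact ⟨r ^ k, by rw [← pow_succ']; norm_num at hk ⊢; exact hk⟩

/-- Every centralizer of an involution has such a complement. -/
def HasShape (G : Type u) [Group G] [Finite G] (F : Type) [Field F] [Fintype F] : Prop :=
  ∀ t : G, orderOf t = 2 → ∃ K : Subgroup G, Comp F t K

theorem Comp.card_K {t : G} {K : Subgroup G} (h : Comp F t K) :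
    Nat.card K = Nat.card (Matrix.ProjectiveSpecialLinearGroup (Fin 2) F) :=
  Nat.card_congr h.iso.some.toEquiv

theorem Comp.commute {t : G} {K : Subgroup G} (h : Comp F t K) {k : G} (hk : k ∈ K) : Commute k t :=
  mem_centralizer_singleton_iff.1 (h.le hk)

theorem Comp.card_zpowers_sup {t : G} {K : Subgroup G} (h : Comp F t K) (ht : orderOf t = 2) :
    Nat.card ↥(zpowers t ⊔ K) = 2 * Nat.card K := by
  have hn : zpowers t ≤ normalizer (K : Set G) := zpowers_le.2
    (EqualOrderConj.mem_normalizer_of_conj_mem fun a ha => by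
      rw [(h.commute ha).symm.eq, mul_inv_cancel_right]; exact ha)
  have hd : Disjoint K (zpowers t) := by
    rw [disjoint_def]
    intro a haK hat
    by_contra ha1
    refine h.notMem (zpowers_le.1 ?_)
    have h2 : Nat.card ↥(zpowers a) = 2 := by
      rw [Nat.card_zpowers]
      rcases (Nat.dvd_prime Nat.prime_two).1
        ((Subgroup.orderOf_dvd_natCard _ hat).trans (by rw [Nat.card_zpowers, ht])) with e | e
      · exact absurd (orderOf_eq_one_iff.1 e) ha1
      · exact e
    rw [← eq_of_le_of_card_ge (zpowers_le.2 hat) (by rw [Nat.card_zpowers t, ht, h2])]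
    exact zpowers_le.2 haK
  rw [sup_comm, Coprime.card_sup_of_disjoint hn hd, Nat.card_zpowers, ht, mul_comm]

theorem theta_normal (t : G) : centralizer ({t} : Set G) ≤ normalizer (theta t : Set G) := fun _ hg =>
  EqualOrderConj.mem_normalizer_of_conj_mem fun _ ha => theta_conj hg ha

theorem Comp.card_centralizer {t : G} {K : Subgroup G} (h : Comp F t K) (ht : orderOf t = 2) :
    Nat.card ↥(centralizer ({t} : Set G)) = Nat.card ↥(theta t) * (2 * Nat.card K) := by
  have hn : zpowers t ⊔ K ≤ normalizer (theta t : Set G) :=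
    le_trans (h.sup ▸ le_sup_right) (theta_normal t)
  have hd : Disjoint (theta t) (zpowers t ⊔ K) := by
    rw [disjoint_iff]
    exact inf_eq_bot_of_coprime (by rw [h.card_zpowers_sup ht]; exact h.cop)
  rw [← h.sup, Coprime.card_sup_of_disjoint hn hd, h.card_zpowers_sup ht]

/-- The odd core consists of the elements of order coprime to the order of the complement. -/
theorem mem_theta (hF : HasShape G F) {t x : G} (ht : orderOf t = 2)
    (hx : x ∈ centralizer ({t} : Set G))
    (hcop : (orderOf x).Coprime (2 * Nat.card (Matrix.ProjectiveSpecialLinearGroup (Fin 2) F))) :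
    x ∈ theta t := by
  obtain ⟨K, h⟩ := hF t ht
  set C := centralizer ({t} : Set G) with hC
  have hi : (Cfsg.oddCore ↥C).index = 2 * Nat.card (Matrix.ProjectiveSpecialLinearGroup (Fin 2) F) := by
    have h1 := (Cfsg.oddCore ↥C).card_mul_index
    have h2 := h.card_centralizer ht
    rw [theta, card_map_of_injective C.subtype_injective, h.card_K] at h2
    exact Nat.eq_of_mul_eq_mul_left Nat.card_pos (h1.trans h2)
  obtain ⟨j, hj⟩ := exists_pow_eq_self_of_coprime (x := (⟨x, hx⟩ : ↥C))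
    (n := (Cfsg.oddCore ↥C).index) (by rw [hi, Subgroup.orderOf_mk]; exact hcop.symm)
  exact ⟨⟨x, hx⟩, hj ▸ pow_mem ((Cfsg.oddCore ↥C).pow_index_mem _) j, rfl⟩

theorem coprime_of_mem_theta (hF : HasShape G F) {t x : G} (ht : orderOf t = 2) (hx : x ∈ theta t) :
    (orderOf x).Coprime (2 * Nat.card (Matrix.ProjectiveSpecialLinearGroup (Fin 2) F)) := by
  obtain ⟨K, h⟩ := hF t ht
  rw [← h.card_K]
  exact h.cop.coprime_dvd_left (Subgroup.orderOf_dvd_natCard _ hx)

theorem theta_balance (hF : HasShape G F) {a b x : G} (ha : orderOf a = 2) (hb : orderOf b = 2)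
    (hx : x ∈ theta a) (hxb : Commute x b) : x ∈ theta b :=
  mem_theta hF hb (mem_centralizer_singleton_iff.2 hxb) (coprime_of_mem_theta hF ha hx)

theorem theta_map_mem (hF : HasShape G F) {a x : G} (ha : orderOf a = 2) (hx : x ∈ theta a) (n : G) :
    n * x * n⁻¹ ∈ theta (n * a * n⁻¹) := by
  refine mem_theta hF (by rw [Involutions.Basic.orderOf_conj, ha]) (mem_centralizer_singleton_iff.2 ?_) ?_
  · exact ((Commute.conj_iff n).2 (mem_centralizer_singleton_iff.1 (theta_le a hx)))
  · rw [Involutions.Basic.orderOf_conj]; exact coprime_of_mem_theta hF ha hx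

/-- The group generated by the odd cores of the centralizers of the elements of `S`. -/
def coreJoinS (S : Subgroup G) : Subgroup G := ⨆ a : {a : G // a ∈ S ∧ a ≠ 1}, theta (a : G)

theorem theta_le_coreJoinS {S : Subgroup G} {a : G} (ha : a ∈ S) (ha1 : a ≠ 1) :
    theta a ≤ coreJoinS S :=
  le_iSup (fun b : {b : G // b ∈ S ∧ b ≠ 1} => theta (b : G)) ⟨a, ha, ha1⟩

section Shape

variable (hF : HasShape G F) (S : Sylow 2 G) (hS8 : Nat.card (S : Subgroup G) = 8)
  (hc : ∀ a ∈ (S : Subgroup G), ∀ b ∈ (S : Subgroup G), a * b = b * a)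
  (he : ∀ a ∈ (S : Subgroup G), a ^ 2 = 1)

include he in
theorem orderOf_two_of_mem {a : G} (ha : a ∈ (S : Subgroup G)) (ha1 : a ≠ 1) : orderOf a = 2 :=
  orderOf_eq_prime (he a ha) ha1

include hF hS8 hc he in
/-- The cores generate an odd group meeting each centralizer in its core. -/
theorem coreJoinS_facts : Odd (Nat.card ↥(coreJoinS (S : Subgroup G))) ∧
    ∀ a ∈ (S : Subgroup G), a ≠ 1 →
      coreJoinS (S : Subgroup G) ⊓ centralizer ({a} : Set G) = theta a := by
  haveI : Fact (Nat.Prime 2) := ⟨Nat.prime_two⟩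
  have h := S0217.result (p := 2) (S : Subgroup G) hc he (by rw [hS8]; norm_num) theta
    (fun a _ _ => theta_le a) (fun a _ _ => Nat.two_dvd_ne_zero.2 (Nat.odd_iff.1 (odd_theta a)))
    (fun a ha _ b hb x hx => theta_conj (mem_centralizer_singleton_iff.2 (hc b hb a ha)) hx)
    (fun a _ _ => S0205.result (odd_theta a))
    (fun a ha ha1 b hb hb1 x hx => theta_balance hF (orderOf_two_of_mem S he ha ha1)
      (orderOf_two_of_mem S he hb hb1) hx.1 (mem_centralizer_singleton_iff.1 hx.2))
  exact ⟨Nat.odd_iff.2 (Nat.two_dvd_ne_zero.1 h.1), h.2⟩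

include hF he in
theorem normalizer_le_normalizer_coreJoinS :
    normalizer ((S : Subgroup G) : Set G) ≤ normalizer (coreJoinS (S : Subgroup G) : Set G) := by
  intro n hn
  refine EqualOrderConj.mem_normalizer_of_conj_mem fun x hx => ?_
  have hle : coreJoinS (S : Subgroup G) ≤
      (coreJoinS (S : Subgroup G)).comap (MulAut.conj n).toMonoidHom :=
    iSup_le fun a y hy => theta_le_coreJoinS ((mem_normalizer_iff.1 hn _).1 a.2.1)
      (fun e => a.2.2 (conj_eq_one_iff.1 e)) (theta_map_mem hF (orderOf_two_of_mem S he a.2.1 a.2.2) hy n)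
  exact hle hx

include hF hS8 hc he in
/-- An element centralizing two involutions of `S` normalizes the join. -/
theorem mem_normalizer_of_two {a b g : G} (ha : a ∈ (S : Subgroup G)) (hb : b ∈ (S : Subgroup G))
    (ha1 : a ≠ 1) (hb1 : b ≠ 1) (hab : a ≠ b) (hga : Commute g a) (hgb : Commute g b) :
    g ∈ normalizer (coreJoinS (S : Subgroup G) : Set G) := by
  haveI : Fact (Nat.Prime 2) := ⟨Nat.prime_two⟩
  obtain ⟨hWodd, hWa⟩ := coreJoinS_facts hF S hS8 hc he
  set W := coreJoinS (S : Subgroup G) with hW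
  have hbz : b ∉ zpowers a := by
    intro h
    obtain ⟨i, rfl⟩ := mem_zpowers_iff.1 h
    rcases Int.even_or_odd' i with ⟨j, rfl | rfl⟩
    · rw [zpow_mul, zpow_two, ← pow_two, he a ha, one_zpow] at hb1
      exact hb1 rfl
    · rw [zpow_add, zpow_mul, zpow_two, ← pow_two, he a ha, one_zpow, one_mul, zpow_one] at hab
      exact hab rfl
  obtain ⟨hcard, hcomm, hexp⟩ := EqualOrderConj.pair_data (p := 2) (he a ha) ha1 (he b hb) hbz
    (hc b hb a ha)
  set A := zpowers a ⊔ zpowers b with hA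
  have hAS : A ≤ (S : Subgroup G) := sup_le (zpowers_le.2 ha) (zpowers_le.2 hb)
  have hgA : ∀ x ∈ A, Commute g x := by
    intro x hx
    have hle : A ≤ centralizer ({g} : Set G) :=
      sup_le (zpowers_le.2 (mem_centralizer_singleton_iff.2 hga.symm.eq))
        (zpowers_le.2 (mem_centralizer_singleton_iff.2 hgb.symm.eq))
    exact (show Commute x g from mem_centralizer_singleton_iff.1 (hle hx)).symm
  have hgen := Components.Hyperplane.eq_iSup_hyperplane (p := 2) (A := A) (K := W)
    ⟨⟨⟨fun x y => Subtype.ext (hcomm _ x.2 _ y.2)⟩⟩, hexp⟩ hcard.ge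
    (Nat.two_dvd_ne_zero.2 (Nat.odd_iff.1 hWodd))
    ((hAS.trans le_normalizer).trans (normalizer_le_normalizer_coreJoinS hF S he))
  have hle : W ≤ W.comap (MulAut.conj g).toMonoidHom := by
    nth_rw 1 [hgen]
    refine iSup_le fun ⟨D, hDA, hD⟩ => ?_
    obtain ⟨d, hdD, hd1⟩ : ∃ d ∈ D, d ≠ 1 := by
      by_contra hcon
      push Not at hcon
      rw [(eq_bot_iff_forall D).2 hcon, relIndex_bot_left, hcard] at hD
      omega
    intro x hx
    have hd2 := orderOf_two_of_mem S he (hAS (hDA hdD)) hd1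
    have hxd : x ∈ theta d := hWa d (hAS (hDA hdD)) hd1 ▸
      ⟨hx.1, mem_centralizer_singleton_iff.2 (mem_centralizer_iff.1 hx.2 d hdD).symm⟩
    have := theta_map_mem hF hd2 hxd g
    rw [(hgA d (hDA hdD)).eq, mul_inv_cancel_right] at this
    exact theta_le_coreJoinS (hAS (hDA hdD)) hd1 this
  exact EqualOrderConj.mem_normalizer_of_conj_mem fun x hx => hle hx

include hF hS8 hc he in
/-- A complement meeting `S` in a four-group. -/
theorem exists_comp_four (h5 : 5 ≤ Fintype.card F)
    (hmod : Fintype.card F % 8 = 3 ∨ Fintype.card F % 8 = 5) {t : G} (ht : t ∈ (S : Subgroup G))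
    (ht1 : t ≠ 1) : ∃ K V : Subgroup G, Comp F t K ∧ V ≤ K ∧ V ≤ (S : Subgroup G) ∧
      Nat.card V = 4 ∧ (S : Subgroup G) = zpowers t ⊔ V := by
  haveI : Fact (Nat.Prime 2) := ⟨Nat.prime_two⟩
  have ht2 := orderOf_two_of_mem S he ht ht1
  obtain ⟨K, hK⟩ := hF t ht2
  set C := centralizer ({t} : Set G) with hC
  obtain ⟨P⟩ : Nonempty (Sylow 2 K) := inferInstance
  set V := (P : Subgroup K).map K.subtype with hV
  have hVK : V ≤ K := map_subtype_le _
  have hV4 : 4 ∣ Nat.card V := by
    have h4 : 4 ∣ Nat.card K := hK.card_K ▸ four_dvd_psl (Or.inl ⟨hmod, h5⟩)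
    rw [hV, card_map_of_injective K.subtype_injective]
    simpa using P.pow_dvd_card_of_pow_dvd_card (n := 2) (by simpa using h4)
  have hn : zpowers t ≤ normalizer (V : Set G) := zpowers_le.2
    (EqualOrderConj.mem_normalizer_of_conj_mem fun a ha => by
      rw [(hK.commute (hVK ha)).symm.eq, mul_inv_cancel_right]; exact ha)
  have hX : Nat.card ↥(V ⊔ zpowers t) = Nat.card V * 2 := by
    rw [Coprime.card_sup_of_disjoint hn, Nat.card_zpowers, ht2]
    rw [disjoint_def]
    intro a haV hat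
    obtain ⟨i, rfl⟩ := mem_zpowers_iff.1 hat
    rcases Int.even_or_odd' i with ⟨j, rfl | rfl⟩
    · rw [zpow_mul, zpow_two, ← pow_two, he t ht, one_zpow]
    · rw [zpow_add, zpow_mul, zpow_two, ← pow_two, he t ht, one_zpow, one_mul, zpow_one] at haV
      exact absurd (hVK haV) hK.notMem
  have hXp : IsPGroup 2 ↥(V ⊔ zpowers t) := by
    obtain ⟨k, hk⟩ := (P.2.map K.subtype).exists_card_eq
    exact IsPGroup.of_card (n := k + 1) (by rw [hX, pow_succ, hV, hk])
  obtain ⟨T, hT⟩ := hXp.exists_le_sylow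
  have hT8 : Nat.card (T : Subgroup G) = 8 := by rw [Sylow.card_eq_multiplicity, ← hS8, Sylow.card_eq_multiplicity]
  have hX8 := Nat.le_of_dvd (by norm_num) (hT8 ▸ Subgroup.card_dvd_of_le hT)
  have hV4' : Nat.card V = 4 := by
    have := Nat.le_of_dvd Nat.card_pos hV4
    omega
  have hXT : V ⊔ zpowers t = (T : Subgroup G) := eq_of_le_of_card_ge hT (by rw [hX, hV4', hT8])
  have hTC : (T : Subgroup G) ≤ C := hXT ▸ sup_le (hVK.trans hK.le)
    (zpowers_le.2 (mem_centralizer_singleton_iff.2 rfl))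
  have hSC : (S : Subgroup G) ≤ C := fun s hs => mem_centralizer_singleton_iff.2 (hc s hs t ht)
  obtain ⟨c, hcc⟩ := MulAction.exists_smul_eq C (T.subtype hTC) (S.subtype hSC)
  have hct : (c : G) * t * (c : G)⁻¹ = t := by
    rw [mem_centralizer_singleton_iff.1 c.2, mul_inv_cancel_right]
  have hmap : (T : Subgroup G).map (MulAut.conj (c : G)).toMonoidHom = (S : Subgroup G) := by
    refine eq_of_le_of_card_ge ?_
      (by rw [card_map_of_injective (MulAut.conj (c : G)).injective, hT8, hS8])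
    rintro _ ⟨a, ha, rfl⟩
    have h1 : c * ⟨a, hTC ha⟩ * c⁻¹ ∈ ((c • T.subtype hTC : Sylow 2 C) : Subgroup C) :=
      ZStar.CyclicIntersections.conj_mem_smul c (by rw [Sylow.coe_subtype, mem_subgroupOf]; exact ha)
    rw [hcc, Sylow.coe_subtype, mem_subgroupOf] at h1
    exact h1
  set f := (MulAut.conj (c : G)).toMonoidHom with hf
  refine ⟨K.map f, V.map f, ⟨?_, ?_, ?_, ?_, ?_⟩, map_mono hVK, ?_, ?_, ?_⟩
  · rintro _ ⟨k, hk, rfl⟩
    exact C.mul_mem (C.mul_mem c.2 (hK.le hk)) (C.inv_mem c.2)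
  · rintro ⟨k, hk, hkt⟩
    refine hK.notMem ?_
    have : k = t := (MulAut.conj (c : G)).injective (hkt.trans hct.symm)
    exact this ▸ hk
  · exact ⟨(equivMapOfInjective K f (MulAut.conj (c : G)).injective).symm.trans hK.iso.some⟩
  · have hθ : (theta t).map f = theta t := eq_of_le_of_card_ge
      (by rintro _ ⟨a, ha, rfl⟩; exact theta_conj c.2 ha)
      (by rw [card_map_of_injective (MulAut.conj (c : G)).injective])
    have hz : (zpowers t).map f = zpowers t := by
      rw [MonoidHom.map_zpowers]; exact congrArg zpowers hct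
    have h1 := congrArg (Subgroup.map f) hK.sup
    rw [Subgroup.map_sup, Subgroup.map_sup, hθ, hz] at h1
    rw [h1]
    refine eq_of_le_of_card_ge ?_ (by rw [card_map_of_injective (MulAut.conj (c : G)).injective])
    rintro _ ⟨a, ha, rfl⟩
    exact C.mul_mem (C.mul_mem c.2 ha) (C.inv_mem c.2)
  · rw [card_map_of_injective (MulAut.conj (c : G)).injective]
    exact hK.cop
  · rw [← hmap, ← hXT]
    exact map_mono le_sup_left
  · rw [card_map_of_injective (MulAut.conj (c : G)).injective, hV4']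
  · rw [← hmap, ← hXT, Subgroup.map_sup, MonoidHom.map_zpowers, show f t = t from hct, sup_comm]

include hF hS8 hc he in
theorem centralizer_le_normalizer_coreJoinS (h : CycConj G) (hsyl : OddSylow G) (h5 : 5 ≤ Fintype.card F)
    (hmod : Fintype.card F % 8 = 3 ∨ Fintype.card F % 8 = 5) {p f : ℕ} [Fact p.Prime]
    (hpf : Fintype.card F = p ^ f) {t : G} (ht : t ∈ (S : Subgroup G)) (ht1 : t ≠ 1) :
    centralizer ({t} : Set G) ≤ normalizer (coreJoinS (S : Subgroup G) : Set G) := by
  classical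
  haveI : Fact (Nat.Prime 2) := ⟨Nat.prime_two⟩
  have ht2 := orderOf_two_of_mem S he ht ht1
  obtain ⟨hWodd, hWa⟩ := coreJoinS_facts hF S hS8 hc he
  obtain ⟨K, V, hK, hVK, hVS, hV4, hSV⟩ := exists_comp_four hF S hS8 hc he h5 hmod ht ht1
  set W := coreJoinS (S : Subgroup G) with hW
  have hθW : theta t ≤ W := theta_le_coreJoinS ht ht1
  suffices hKN : K ≤ normalizer (W : Set G) by
    rw [← hK.sup]
    exact sup_le (hθW.trans le_normalizer) (sup_le
      (zpowers_le.2 (normalizer_le_normalizer_coreJoinS hF S he (le_normalizer ht))) hKN)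
  have hVt : ∀ v ∈ V, v ≠ t := fun v hv e => hK.notMem (e ▸ hVK hv)
  obtain ⟨a, haV, ha1⟩ : ∃ a ∈ V, a ≠ 1 := by
    by_contra hcon
    push Not at hcon
    rw [(eq_bot_iff_forall V).2 hcon, card_bot] at hV4
    omega
  obtain ⟨b, hbV, hb1⟩ : ∃ b ∈ V, b ∉ zpowers a := by
    by_contra hcon
    push Not at hcon
    have h1 := Subgroup.card_le_of_le (show V ≤ zpowers a from hcon)
    rw [hV4, Nat.card_zpowers, orderOf_two_of_mem S he (hVS haV) ha1] at h1
    omega
  have hb0 : b ≠ 1 := fun e => hb1 (e ▸ one_mem _)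
  have hab : a ≠ b := fun e => hb1 (e ▸ mem_zpowers a)
  rcases Nat.lt_or_ge (Fintype.card F) 7 with h7 | h7
  · -- `q = 5`
    have hq5 : Fintype.card F = 5 := by omega
    have h60 : Nat.card (Matrix.ProjectiveSpecialLinearGroup (Fin 2) F) = 60 := by
      have := PSLOrderSpectrum.card_psl_two (F := F)
      rw [hq5, show Nat.gcd 2 (5 - 1) = 2 by decide] at this
      omega
    set C := centralizer ({t} : Set G) with hC
    have htC : t ∈ C := mem_centralizer_singleton_iff.2 rfl
    have hKC := hK.le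
    have hcopθ : (Nat.card ↥(theta t)).Coprime 120 := by
      have := hK.cop; rwa [hK.card_K, h60] at this
    have key := five_centralizes (Cfsg.oddCore ↥C) (K.subgroupOf C) (t := ⟨t, htC⟩)
      (by rw [Subgroup.orderOf_mk, ht2])
      (mem_center_iff.2 fun y => Subtype.ext (mem_centralizer_singleton_iff.1 y.2))
      (by
        haveI := TimesPSLTwo.psl_simple (F := F) (by omega)
        exact CyclicSylowInter.isSimpleGroup_congr ((Subgroup.subgroupOfEquivOfLe hKC).trans hK.iso.some).symm)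
      (by rw [Nat.card_congr (Subgroup.subgroupOfEquivOfLe hKC).toEquiv, hK.card_K, h60])
      (by
        apply Subgroup.map_injective C.subtype_injective
        rw [Subgroup.map_sup, Subgroup.map_sup, MonoidHom.map_zpowers, ← MonoidHom.range_eq_map,
          Subgroup.range_subtype, map_subgroupOf_eq_of_le hKC]
        exact hK.sup)
      (by
        rw [← card_map_of_injective C.subtype_injective]
        exact hcopθ.coprime_dvd_right (by norm_num))
      (fun r hr R => by
        by_cases hr2 : r = 2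
        · subst hr2
          left
          have h1 : ∀ z : ↥(R : Subgroup ↥(Cfsg.oddCore ↥C)), (z : ↥(Cfsg.oddCore ↥C)) = 1 := fun z => by
            obtain ⟨j, hj⟩ := R.2 z
            exact orderOf_eq_one_iff.1 (Nat.eq_one_of_dvd_coprimes
              ((Nat.coprime_two_left.2 (Agent.Cores.oddCore_odd (G := ↥C))).pow_left j)
              (orderOf_dvd_of_pow_eq_one (congrArg Subtype.val hj)) (orderOf_dvd_natCard _))
          haveI : Subsingleton ↥(R : Subgroup ↥(Cfsg.oddCore ↥C)) :=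
            ⟨fun z w => Subtype.ext (by rw [h1 z, h1 w])⟩
          infer_instance
        obtain ⟨P, hP⟩ := ((R.2.map (Cfsg.oddCore ↥C).subtype).map C.subtype).exists_le_sylow
        let g : ↥(R : Subgroup ↥(Cfsg.oddCore ↥C)) →* ↥(P : Subgroup G) :=
          { toFun := fun z => ⟨_, hP (mem_map_of_mem _ (mem_map_of_mem _ z.2))⟩
            map_one' := Subtype.ext rfl
            map_mul' := fun _ _ => Subtype.ext rfl }
        have hg : Function.Injective g := fun z w e => Subtype.ext (Subtype.ext (Subtype.ext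
          (congrArg Subtype.val e : _)))
        rcases hsyl r hr2 P with hcy | he'
        · haveI := hcy
          exact Or.inl (isCyclic_of_injective g hg)
        · refine Or.inr fun z hz => ?_
          exact Subtype.ext (Subtype.ext (he' _ (g ⟨z, hz⟩).2)))
      (fun x hx hxp => by
        set r := orderOf x with hr
        haveI : Fact r.Prime := ⟨hxp⟩
        have hxθ : (x : G) ∈ theta t := mem_map_of_mem _ hx
        -- an element of the same order centralised by a four-group
        have hrdvd : r ∣ Nat.card ↥(theta t) := by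
          rw [hr, ← Subgroup.orderOf_coe]; exact Subgroup.orderOf_dvd_natCard _ hxθ
        have hVθ : V ≤ normalizer (theta t : Set G) := (hVK.trans hK.le).trans (theta_normal t)
        have hVcop : (Nat.card V).Coprime (Nat.card ↥(theta t)) := by
          rw [hV4]; exact (hcopθ.coprime_dvd_right (by norm_num)).symm
        obtain ⟨P, hP⟩ := Coprime.exists_invariant_sylow (G := G) r hVθ hVcop
          (Or.inr (S0205.result (odd_theta t)))
        set R := (P : Subgroup ↥(theta t)).map (theta t).subtype with hRdef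
        have hRr : IsPGroup r R := P.2.map _
        have hRne : R ≠ ⊥ := by
          rw [hRdef, Ne, map_eq_bot_iff_of_injective _ (theta t).subtype_injective]
          exact P.ne_bot_of_dvd_card hrdvd
        have hRodd : Odd (Nat.card R) :=
          (odd_theta t).of_dvd_nat (card_dvd_of_le (map_subtype_le _))
        have hgen := Components.Hyperplane.eq_iSup_hyperplane (p := 2) (A := V) (K := R)
          ⟨⟨⟨fun u w => Subtype.ext (hc _ (hVS u.2) _ (hVS w.2))⟩⟩, fun u hu => he u (hVS hu)⟩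
          (by rw [hV4]; norm_num) (Nat.two_dvd_ne_zero.2 (Nat.odd_iff.1 hRodd)) hP
        obtain ⟨v, hvV, hv1, y, hyR, hy1, hyv⟩ :
            ∃ v ∈ V, v ≠ 1 ∧ ∃ y ∈ R, y ≠ 1 ∧ Commute y v := by
          by_contra hcon
          push Not at hcon
          refine hRne (le_bot_iff.1 (hgen.le.trans (iSup_le fun ⟨D, hDV, hD⟩ => ?_)))
          intro y hy
          rw [mem_bot]
          by_contra hy1
          obtain ⟨d, hdD, hd1⟩ : ∃ d ∈ D, d ≠ 1 := by
            by_contra hcon'
            push Not at hcon'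
            rw [(eq_bot_iff_forall D).2 hcon', relIndex_bot_left, hV4] at hD
            omega
          exact hcon d (hDV hdD) hd1 y hy.1 hy1 (mem_centralizer_iff.1 hy.2 d hdD).symm
        obtain ⟨y', hy'R, hy'o, hy'v⟩ : ∃ y' ∈ R, orderOf y' = r ∧ Commute y' v := by
          have hp : IsPGroup r ↥(zpowers y) := hRr.to_le (zpowers_le.2 hyR)
          obtain ⟨z, hz⟩ := exists_prime_orderOf_dvd_card' (G := ↥(zpowers y)) r (by
            obtain ⟨n, hn⟩ := hp.exists_card_eq
            rcases n with - | n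
            · rw [Nat.card_zpowers, pow_zero, orderOf_eq_one_iff] at hn
              exact absurd hn hy1
            · exact hn ▸ dvd_pow_self r n.succ_ne_zero)
          obtain ⟨i, hi⟩ := mem_zpowers_iff.1 z.2
          exact ⟨z, zpowers_le.2 hyR z.2, by rw [Subgroup.orderOf_coe, hz], hi ▸ hyv.zpow_left i⟩
        have h4C : 4 ∣ Nat.card ↥(centralizer ({(x : G)} : Set G)) := by
          rw [h.card_centralizer_eq hxp (Subgroup.orderOf_coe x) hy'o]
          have hvz : v ∉ zpowers t := fun hvz => by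
            obtain ⟨i, hi⟩ := mem_zpowers_iff.1 hvz
            rcases Int.even_or_odd' i with ⟨j, rfl | rfl⟩
            · rw [zpow_mul, zpow_two, ← pow_two, he t ht, one_zpow] at hi
              exact hv1 hi.symm
            · rw [zpow_add, zpow_mul, zpow_two, ← pow_two, he t ht, one_zpow, one_mul, zpow_one] at hi
              exact hVt v hvV hi.symm
          obtain ⟨hcard, -, -⟩ := EqualOrderConj.pair_data (p := 2) (he t ht) ht1 (he v (hVS hvV))
            hvz (hc v (hVS hvV) t ht)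
          rw [show (4 : ℕ) = 2 ^ 2 by norm_num, ← hcard]
          refine card_dvd_of_le (sup_le (zpowers_le.2 (mem_centralizer_singleton_iff.2 ?_))
            (zpowers_le.2 (mem_centralizer_singleton_iff.2 hy'v.symm.eq)))
          exact (mem_centralizer_singleton_iff.1 (theta_le t ((map_subtype_le _) hy'R))).symm
        have htx : t ∈ centralizer ({(x : G)} : Set G) :=
          mem_centralizer_singleton_iff.2 (mem_centralizer_singleton_iff.1 x.2).symm
        set Cx := centralizer ({(x : G)} : Set G) with hCx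
        obtain ⟨T, hT⟩ := (IsPGroup.of_card (n := 1)
          (by rw [Nat.card_zpowers, Subgroup.orderOf_mk, ht2, pow_one]) :
            IsPGroup 2 (zpowers (⟨t, htx⟩ : Cx))).exists_le_sylow
        have hT4 : 4 ≤ Nat.card T := Nat.le_of_dvd Nat.card_pos (by
          simpa using T.pow_dvd_card_of_pow_dvd_card (n := 2) (by simpa using h4C))
        have hT2 : IsPGroup 2 ↥((T : Subgroup Cx).map Cx.subtype) := T.2.map _
        obtain ⟨s, hsT, hs1, hst⟩ : ∃ s ∈ (T : Subgroup Cx).map Cx.subtype, s ≠ 1 ∧ s ≠ t := by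
          by_contra hcon
          push Not at hcon
          have hsub : ((T : Subgroup Cx).map Cx.subtype : Set G) ⊆ {1, t} := fun s hs =>
            (em (s = 1)).elim Or.inl fun h1 => Or.inr (hcon s hs h1)
          have h1 := (Set.ncard_le_ncard hsub (Set.toFinite _)).trans
            ((Set.ncard_insert_le _ _).trans (by rw [Set.ncard_singleton]))
          rw [← Nat.card_coe_set_eq, SetLike.coe_sort_coe,
            card_map_of_injective Cx.subtype_injective] at h1
          omega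
        have hs2 : orderOf s = 2 := by
          obtain ⟨T', hT'⟩ := hT2.exists_le_sylow
          obtain ⟨g, hg⟩ := MulAction.exists_smul_eq G T' S
          refine orderOf_eq_prime ?_ hs1
          have h1 := he _ (hg ▸ ZStar.CyclicIntersections.conj_mem_smul g (hT' hsT))
          rw [conj_pow, conj_eq_one_iff] at h1
          exact h1
        have hsc : Commute s t := comm_of_two S hc hT2 hsT
          ⟨⟨t, htx⟩, hT (mem_zpowers _), rfl⟩
        have hsx : Commute s (x : G) := by
          obtain ⟨s', -, rfl⟩ := hsT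
          exact mem_centralizer_singleton_iff.1 s'.2
        exact ⟨⟨s, mem_centralizer_singleton_iff.2 hsc⟩, by rw [Subgroup.orderOf_mk]; exact hs2,
          Subtype.ext hsx.eq, fun e => hst (congrArg Subtype.val e)⟩)
    -- all the cores are equal
    have hKθ : ∀ k ∈ K, ∀ w ∈ theta t, Commute k w := by
      rintro k hk _ ⟨w, hw, rfl⟩
      exact congrArg Subtype.val (mem_centralizer_iff.1 (key (show (⟨k, hKC hk⟩ : ↥C) ∈ K.subgroupOf C
        from mem_subgroupOf.2 hk)) w hw).symm
    have hnorm := fun u (hu : u ∈ (S : Subgroup G)) (hu1 : u ≠ 1) =>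
      CycConj.transitive h S hc ht hu ht2 (orderOf_two_of_mem S he hu hu1)
    have hle : ∀ u ∈ (S : Subgroup G), u ≠ 1 → theta u ≤ theta t := by
      intro u hu hu1
      have hu2 := orderOf_two_of_mem S he hu hu1
      have hsub : theta t ≤ theta u := by
        intro w hw
        refine theta_balance hF ht2 hu2 hw ?_
        have hwle : (S : Subgroup G) ≤ centralizer ({w} : Set G) := by
          rw [hSV]
          exact sup_le (zpowers_le.2 (mem_centralizer_singleton_iff.2
            (mem_centralizer_singleton_iff.1 (theta_le t hw)).symm))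
            fun v hv => mem_centralizer_singleton_iff.2 (hKθ v (hVK hv) w hw).eq
        exact (mem_centralizer_singleton_iff.1 (hwle hu)).symm
      obtain ⟨n, -, hn⟩ := hnorm u hu hu1
      have hback : (theta u).map (MulAut.conj n⁻¹).toMonoidHom ≤ theta t := by
        rintro _ ⟨w, hw, rfl⟩
        have := theta_map_mem hF hu2 hw n⁻¹
        rwa [show n⁻¹ * u * n⁻¹⁻¹ = t by rw [← hn]; group] at this
      refine (eq_of_le_of_card_ge hsub ?_).ge
      exact (card_map_of_injective (MulAut.conj n⁻¹).injective).symm.le.trans (card_le_of_le hback)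
    have hWθ : W = theta t := le_antisymm (iSup_le fun u => hle u u.2.1 u.2.2) hθW
    rw [hWθ]
    exact hKC.trans (theta_normal t)
  · -- the centralisers in `K` generate
    have hgen := generated (F := F) hmod h7 hK.iso.some
      (a := (⟨a, hVK haV⟩ : K)) (b := ⟨b, hVK hbV⟩)
      (by rw [Subgroup.orderOf_mk]; exact orderOf_two_of_mem S he (hVS haV) ha1)
      (by rw [Subgroup.orderOf_mk]; exact orderOf_two_of_mem S he (hVS hbV) hb0)
      (Subtype.ext (hc a (hVS haV) b (hVS hbV))) (fun e => hab (congrArg Subtype.val e))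
    have hsub : ∀ v : K, (v : G) ∈ V → v ≠ 1 →
        centralizer ({v} : Set K) ≤ (normalizer (W : Set G)).subgroupOf K := by
      intro v hv hv1 g hg
      rw [mem_subgroupOf]
      exact mem_normalizer_of_two hF S hS8 hc he ht (hVS hv) ht1 (fun e => hv1 (Subtype.ext e))
        (hVt _ hv).symm (hK.commute g.2)
        (congrArg Subtype.val (mem_centralizer_singleton_iff.1 hg))
    intro k hk
    have h1 : (⟨k, hk⟩ : K) ∈ (normalizer (W : Set G)).subgroupOf K := by
      refine (hgen ▸ sup_le (sup_le (hsub _ haV fun e => ha1 (congrArg Subtype.val e))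
        (hsub _ hbV fun e => hb0 (congrArg Subtype.val e)))
        (hsub _ (show a * b ∈ V from mul_mem haV hbV) fun e => hab ?_) :
          ⊤ ≤ (normalizer (W : Set G)).subgroupOf K) (mem_top _)
      have e' : a * b = 1 := congrArg Subtype.val e
      rw [mul_eq_one_iff_eq_inv.1 e', inv_eq_of_mul_eq_one_right]
      rw [← pow_two]; exact he b (hVS hbV)
    exact mem_subgroupOf.1 h1

include hF hS8 hc he in
/-- For twenty-seven elements `81` does not divide the order. -/
theorem not_eightyone (h : CycConj G) {p f : ℕ} [Fact p.Prime] (hpf : Fintype.card F = p ^ f)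
    (h27 : Fintype.card F = 27) : ¬ 81 ∣ Nat.card G := by
  classical
  haveI : Fact (Nat.Prime 2) := ⟨Nat.prime_two⟩
  haveI : Fact (Nat.Prime 3) := ⟨Nat.prime_three⟩
  have h3 : Fintype.card F = 3 ^ 3 := by rw [h27]; norm_num
  haveI : CharP F 3 := by
    obtain ⟨r, hchar⟩ := CharP.exists F
    obtain ⟨g, hr, hF'⟩ := FiniteField.card F r
    have h1 : r ∣ 3 ^ 3 := h3 ▸ hF' ▸ dvd_pow_self r g.ne_zero
    have : r = 3 := (Nat.prime_dvd_prime_iff_eq hr Nat.prime_three).1 (hr.dvd_of_dvd_pow h1)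
    exact this ▸ hchar
  obtain ⟨t, ht, ht1⟩ : ∃ t ∈ (S : Subgroup G), t ≠ 1 := by
    by_contra hcon
    push Not at hcon
    rw [(eq_bot_iff_forall _).2 hcon, card_bot] at hS8
    omega
  have ht2 := orderOf_two_of_mem S he ht ht1
  obtain ⟨K, hK⟩ := hF t ht2
  have hL := (exists_lfacts (F := F) h3 (Or.inl (by rw [h27])) (by omega)).of_equiv hK.iso.some.symm
  obtain ⟨U, hUc, hUe, hUcomm, hUcen, hUti, hUN⟩ := hL.unipotent
  rw [h27] at hUc hUN
  obtain ⟨x, hx⟩ := exists_prime_orderOf_dvd_card' (G := U) 3 (hUc ▸ by norm_num)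
  have hxo : orderOf ((x : K) : G) = 3 := by rw [Subgroup.orderOf_coe, Subgroup.orderOf_coe, hx]
  have hxU1 : (x : K) ≠ 1 := fun e => by
    rw [← Subgroup.orderOf_coe, e, orderOf_one] at hx
    omega
  set C := centralizer ({t} : Set G) with hC
  have hθc : Nat.Coprime (Nat.card ↥(theta t)) (2 * Nat.card K) := hK.cop
  have hcardK : Nat.card K = 9828 := by
    have := hL.card; rw [h27] at this; norm_num at this; omega
  -- decomposition modulo the odd core
  have hdec : ∀ g ∈ C, ∃ w ∈ theta t, ∃ i : ℕ, ∃ k ∈ K, g = w * (t ^ i * k) := by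
    intro g hg
    rw [hC, ← hK.sup] at hg
    obtain ⟨w, hw, m, hm, rfl⟩ := (Coprime.mem_sup_of_le_normalizer
      (le_trans (hK.sup ▸ le_sup_right) (theta_normal t))).1 hg
    obtain ⟨z, hz, k, hk, rfl⟩ := (Coprime.mem_sup_of_le_normalizer (fun k hk =>
      EqualOrderConj.mem_normalizer_of_conj_mem fun a ha => by
        obtain ⟨i, rfl⟩ := mem_zpowers_iff.1 ha
        rw [((hK.commute hk).zpow_right i).eq, mul_inv_cancel_right]; exact ha)).1 hm
    obtain ⟨i, rfl⟩ := mem_powers_iff_mem_zpowers.2 hz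
    exact ⟨w, hw, i, k, hk, rfl⟩
  have hmodθ : ∀ a ∈ K, ∀ b ∈ K, ∀ w ∈ theta t, a = w * b → a = b := by
    intro a ha b hb w hw e
    have h1 : w ∈ theta t ⊓ (zpowers t ⊔ K) := ⟨hw, mem_sup_right (by
      rw [show w = a * b⁻¹ by rw [e, mul_inv_cancel_right]]; exact mul_mem ha (inv_mem hb))⟩
    rw [inf_eq_bot_of_coprime (by rw [hK.card_zpowers_sup ht2]; exact hθc), mem_bot] at h1
    rw [e, h1, one_mul]
  have hconjθ : ∀ w ∈ theta t, ∀ (i : ℕ), ∀ k ∈ K, ∀ a ∈ K, ∀ c : G, c = w * (t ^ i * k) →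
      ∃ w' ∈ theta t, c * a * c⁻¹ = w' * (k * a * k⁻¹) := by
    rintro w hw i k hk a ha _ rfl
    have hka : k * a * k⁻¹ ∈ K := mul_mem (mul_mem hk ha) (inv_mem hk)
    refine ⟨w * (k * a * k⁻¹ * w⁻¹ * (k * a * k⁻¹)⁻¹),
      mul_mem hw (theta_conj (hK.le hka) (inv_mem hw)), ?_⟩
    have ht' : t ^ i * (k * a * k⁻¹) * (t ^ i)⁻¹ = k * a * k⁻¹ := by
      rw [((hK.commute hka).symm.pow_left i).eq, mul_inv_cancel_right]
    calc w * (t ^ i * k) * a * (w * (t ^ i * k))⁻¹
        = w * (t ^ i * (k * a * k⁻¹) * (t ^ i)⁻¹) * w⁻¹ := by group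
      _ = _ := by rw [ht']; group
  refine three_part h S hc he ht2 hxo (hK.commute (x : K).2) ?_ ?_ ?_
  · intro h4
    have hU2 : ¬ 4 ∣ Nat.card ↥(theta t) * (2 * 27) := by
      intro h4'
      have h5 : Nat.Coprime 4 (Nat.card ↥(theta t)) :=
        (hθc.coprime_dvd_right ⟨4914, by rw [hcardK]⟩).symm
      have := h5.dvd_of_dvd_mul_left h4'
      omega
    refine hU2 (h4.trans ?_)
    set Ux := (zpowers t ⊔ U.map K.subtype) with hUx
    have hle : centralizer ({((x : K) : G)} : Set G) ⊓ C ≤ theta t ⊔ Ux := by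
      rintro g ⟨hgx, hgC⟩
      obtain ⟨w, hw, i, k, hk, hge⟩ := hdec g hgC
      obtain ⟨w', hw', he'⟩ := hconjθ w hw i k hk _ (x : K).2 g hge
      rw [mem_centralizer_singleton_iff.1 hgx, mul_inv_cancel_right] at he'
      have h1 := hmodθ _ (x : K).2 _ (mul_mem (mul_mem hk (x : K).2) (inv_mem hk)) w' hw' he'
      have hkU : (⟨k, hk⟩ : K) ∈ U := hUcen _ x.2 hxU1 _
        (Subtype.ext (mul_inv_eq_iff_eq_mul.1 h1.symm))
      rw [hge]
      exact mul_mem (mem_sup_left hw) (mem_sup_right (mul_mem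
        (mem_sup_left (pow_mem (mem_zpowers t) i)) (mem_sup_right ⟨_, hkU, rfl⟩)))
    refine (card_dvd_of_le hle).trans ?_
    have hUxK : Ux ≤ zpowers t ⊔ K := sup_le_sup_left (map_subtype_le U) _
    rw [Coprime.card_sup_of_disjoint (hUxK.trans (le_trans (hK.sup ▸ le_sup_right) (theta_normal t)))
      (by
        rw [disjoint_iff]
        exact inf_eq_bot_of_coprime (hθc.coprime_dvd_right
          ((card_dvd_of_le hUxK).trans (by rw [hK.card_zpowers_sup ht2]))))]
    refine Nat.mul_dvd_mul_left _ ?_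
    have hUn : zpowers t ≤ normalizer (U.map K.subtype : Set G) := zpowers_le.2
      (EqualOrderConj.mem_normalizer_of_conj_mem fun a ha => by
        rw [(hK.commute (map_subtype_le U ha)).symm.eq, mul_inv_cancel_right]; exact ha)
    rw [hUx, sup_comm, Coprime.card_sup_of_disjoint hUn, card_map_of_injective K.subtype_injective,
      hUc, Nat.card_zpowers, ht2]
    rw [disjoint_iff]
    exact inf_eq_bot_of_coprime (by
      rw [card_map_of_injective K.subtype_injective, hUc, Nat.card_zpowers, ht2]; norm_num)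
  · intro s hs hst hsx
    obtain ⟨w, hw, i, k, hk, hse⟩ := hdec s (mem_centralizer_singleton_iff.2 hst.eq)
    obtain ⟨w', hw', he'⟩ := hconjθ w hw i k hk _ (x : K).2 s hse
    rw [hsx] at he'
    have h1 := hmodθ _ (inv_mem (x : K).2) _ (mul_mem (mul_mem hk (x : K).2) (inv_mem hk)) w' hw' he'
    have hxi : (⟨k, hk⟩ : K) * x * (⟨k, hk⟩ : K)⁻¹ = (x : K)⁻¹ := Subtype.ext h1.symm
    have hkN := hUti _ x.2 hxU1 (⟨k, hk⟩ : K) (by rw [hxi]; exact U.inv_mem x.2)
    -- an odd power of `k` inverts `x` and lies in the odd group `N(U)`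
    have hodd : Odd (orderOf (⟨k, hk⟩ : K)) := by
      refine Odd.of_dvd_nat ?_ (Subgroup.orderOf_dvd_natCard _ hkN)
      have : Nat.card ↥(normalizer (U : Set K)) = 351 := by norm_num at hUN; omega
      rw [this]; decide
    obtain ⟨j, hj⟩ := hodd
    have hpow : ∀ n : ℕ, (⟨k, hk⟩ : K) ^ (2 * n) * x * ((⟨k, hk⟩ : K) ^ (2 * n))⁻¹ = x := by
      intro n
      induction n with
      | zero => simp
      | succ n ih =>
        rw [show 2 * (n + 1) = 2 + 2 * n by ring, pow_add, mul_inv_rev,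
          show (⟨k, hk⟩ : K) ^ 2 * (⟨k, hk⟩ : K) ^ (2 * n) * (x : K) *
            (((⟨k, hk⟩ : K) ^ (2 * n))⁻¹ * ((⟨k, hk⟩ : K) ^ 2)⁻¹) =
            (⟨k, hk⟩ : K) ^ 2 * ((⟨k, hk⟩ : K) ^ (2 * n) * x * ((⟨k, hk⟩ : K) ^ (2 * n))⁻¹) *
              ((⟨k, hk⟩ : K) ^ 2)⁻¹ by group, ih, pow_two,
          show (⟨k, hk⟩ : K) * ⟨k, hk⟩ * (x : K) * ((⟨k, hk⟩ : K) * ⟨k, hk⟩)⁻¹ =
            (⟨k, hk⟩ : K) * ((⟨k, hk⟩ : K) * x * (⟨k, hk⟩ : K)⁻¹) * (⟨k, hk⟩ : K)⁻¹ by group,
          hxi, ← conj_inv, hxi, inv_inv]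
    have h2 := pow_orderOf_eq_one (⟨k, hk⟩ : K)
    rw [hj, pow_succ] at h2
    have h4 := hpow j
    rw [eq_inv_of_mul_eq_one_left h2, inv_inv] at h4
    have h5 : (x : K) = (x : K)⁻¹ := by
      calc (x : K) = (⟨k, hk⟩ : K) * ((⟨k, hk⟩ : K)⁻¹ * x * ⟨k, hk⟩) * (⟨k, hk⟩ : K)⁻¹ := by group
        _ = (⟨k, hk⟩ : K) * x * (⟨k, hk⟩ : K)⁻¹ := by rw [h4]
        _ = _ := hxi
    have h6 : (x : K) ^ 2 = 1 := by rw [pow_two]; exact mul_eq_one_iff_eq_inv.2 h5
    have h7 := orderOf_dvd_of_pow_eq_one h6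
    rw [Subgroup.orderOf_coe, hx] at h7
    omega
  · rw [hK.card_centralizer ht2, hcardK]
    intro h81
    have h4 : Nat.Coprime 81 (Nat.card ↥(theta t)) :=
      ((hθc.coprime_dvd_right ⟨6552, by rw [hcardK]⟩ : Nat.Coprime (Nat.card ↥(theta t)) 3).pow_right 4).symm
    have := h4.dvd_of_dvd_mul_left h81
    omega

end Shape

/-- The final alternative. -/
theorem janko_or_large {H : Type u} [Group H] [Finite H] (hO : Cfsg.oddCore H = ⊥)
    (hinv : ∀ a b : H, orderOf a = 2 → orderOf b = 2 → IsConj a b) (S : Sylow 2 H)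
    (hS8 : Nat.card (S : Subgroup H) = 8)
    (hc : ∀ a ∈ (S : Subgroup H), ∀ b ∈ (S : Subgroup H), a * b = b * a)
    (he : ∀ a ∈ (S : Subgroup H), a ^ 2 = 1) (hmod : Fintype.card F % 8 = 3 ∨ Fintype.card F % 8 = 5)
    (h5 : 5 ≤ Fintype.card F) {p f : ℕ} [Fact p.Prime] (hF : Fintype.card F = p ^ f)
    (hf : f = 1 ∨ f = 3) {t : H} (ht : orderOf t = 2) (K : Subgroup H)
    (hKt : K ≤ centralizer ({t} : Set H)) (hC : centralizer ({t} : Set H) = zpowers t ⊔ K)
    (htK : t ∉ K) (e : ↥K ≃* Matrix.ProjectiveSpecialLinearGroup (Fin 2) F) :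
    Cfsg.IsJ1 H ∨ (Fintype.card F = 27 ∧ 81 ∣ Nat.card H) := by
  haveI : Fact (Nat.Prime 2) := ⟨Nat.prime_two⟩
  haveI hps := TimesPSLTwo.psl_simple (F := F) (by omega)
  haveI := isSimpleGroup_of hO hinv S hS8 hc he ht K hKt hC htK (CyclicSylowInter.isSimpleGroup_congr e.symm)
    (fun a b ha hb => by
      have := e.symm.toMonoidHom.map_isConj (psl_invol_conj (a := e a) (b := e b)
        (by rw [e.orderOf_eq, ha]) (by rw [e.orderOf_eq, hb]))
      simpa using this)
    (by rw [Nat.card_congr e.toEquiv]; exact four_dvd_psl (Or.inl ⟨hmod, h5⟩))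
  have hab : ∀ P : Sylow 2 H, ∀ a b : P, a * b = b * a := fun P a b =>
    Subtype.ext (comm_of_two S hc P.2 a.2 b.2)
  -- the isomorphism
  have htt : t * t = 1 := Involutions.Basic.inv_sq_one ht
  have htK' : ∀ k ∈ K, Commute k t := fun k hk => mem_centralizer_singleton_iff.1 (hKt hk)
  let Φ : Multiplicative (ZMod 2) × ↥K → ↥(centralizer ({t} : Set H)) := fun x =>
    ⟨t ^ (Multiplicative.toAdd x.1).val * (x.2 : H),
      hC ▸ mul_mem (mem_sup_left (pow_mem (mem_zpowers t) _)) (mem_sup_right x.2.2)⟩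
  have htpow : ∀ a b : ZMod 2, t ^ (a + b).val = t ^ a.val * t ^ b.val := fun a b => by
    rw [← pow_add, ZMod.val_add]
    exact (pow_eq_pow_mod _ (by rw [pow_two, htt])).symm
  let Φh : Multiplicative (ZMod 2) × ↥K →* ↥(centralizer ({t} : Set H)) := MonoidHom.mk' Φ fun x y => by
    refine Subtype.ext ?_
    show t ^ (Multiplicative.toAdd x.1 + Multiplicative.toAdd y.1).val * ((x.2 : H) * y.2) =
      t ^ (Multiplicative.toAdd x.1).val * (x.2 : H) * (t ^ (Multiplicative.toAdd y.1).val * y.2)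
    rw [htpow, ((htK' _ x.2.2).pow_right _).mul_mul_mul_comm]
  have hbij : Function.Bijective Φh := by
    refine ⟨(injective_iff_map_eq_one Φh).2 ?_, fun g => ?_⟩
    · rintro ⟨a, k⟩ hak
      have h1 : t ^ (Multiplicative.toAdd a).val * (k : H) = 1 := congrArg Subtype.val hak
      have hlt := (Multiplicative.toAdd a).val_lt
      rcases (show (Multiplicative.toAdd a).val = 0 ∨ (Multiplicative.toAdd a).val = 1 by omega) with h | h
      · rw [h, pow_zero, one_mul] at h1
        exact Prod.ext ((ZMod.val_eq_zero (Multiplicative.toAdd a)).1 h) (Subtype.ext h1)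
      · rw [h, pow_one] at h1
        exact absurd (show t ∈ K by rw [eq_inv_of_mul_eq_one_left h1]; exact inv_mem k.2) htK
    · obtain ⟨z, hz, k, hk, hzk⟩ := (Coprime.mem_sup_of_le_normalizer (fun k hk =>
        EqualOrderConj.mem_normalizer_of_conj_mem fun a ha => by
          obtain ⟨i, rfl⟩ := mem_zpowers_iff.1 ha
          rw [((htK' k hk).zpow_right i).eq, mul_inv_cancel_right]; exact ha)).1 (show (g : H) ∈ zpowers t ⊔ K by rw [← hC]; exact g.2)
      obtain ⟨i, rfl⟩ := mem_powers_iff_mem_zpowers.2 hz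
      refine ⟨(Multiplicative.ofAdd (i : ZMod 2), ⟨k, hk⟩), Subtype.ext ?_⟩
      show t ^ (i : ZMod 2).val * k = g
      rw [ZMod.val_natCast, ← pow_eq_pow_mod _ (by rw [pow_two, htt])]
      exact hzk
  rcases S0343.result hab (F := F) (by omega) t ht
    ⟨(MulEquiv.ofBijective Φh hbij).symm.trans (MulEquiv.prodCongr (MulEquiv.refl _) e)⟩ with
      ⟨m, hm, hq, hcard⟩ | ⟨-, hJ⟩
  · right
    have hp3 : p = 3 := (Nat.prime_dvd_prime_iff_eq Fact.out Nat.prime_three).1
      ((Fact.out : p.Prime).dvd_of_dvd_pow (hq ▸ hF ▸ dvd_pow_self p (by omega)))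
    subst hp3
    have hfm : f = 2 * m + 1 := Nat.pow_right_injective (by norm_num) (hF.symm.trans hq)
    obtain rfl : m = 1 := by omega
    exact ⟨by rw [hq]; norm_num, hcard ▸ by norm_num⟩
  · exact Or.inl hJ

theorem janko_of_shape_cyc {G : Type u} [Group G] [Finite G] (h : CycConj G) (hsyl : OddSylow G)
    (hO : Cfsg.oddCore G = ⊥)
    (S : Sylow 2 G) (hS8 : Nat.card (S : Subgroup G) = 8)
    (hc : ∀ a ∈ (S : Subgroup G), ∀ b ∈ (S : Subgroup G), a * b = b * a)
    (he : ∀ a ∈ (S : Subgroup G), a ^ 2 = 1) {F : Type} [Field F] [Fintype F]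
    (hmod : Fintype.card F % 8 = 3 ∨ Fintype.card F % 8 = 5) (h5 : 5 ≤ Fintype.card F) {p f : ℕ}
    [Fact p.Prime] (hF : Fintype.card F = p ^ f) (hf : f = 1 ∨ f = 3)
    (hshape : ∀ t : G, orderOf t = 2 → ∃ K : Subgroup G, K ≤ centralizer ({t} : Set G) ∧ t ∉ K ∧
      Nonempty (↥K ≃* Matrix.ProjectiveSpecialLinearGroup (Fin 2) F) ∧
      SEAbelian.theta t ⊔ (zpowers t ⊔ K) = centralizer ({t} : Set G) ∧
      (Nat.card ↥(SEAbelian.theta t)).Coprime (2 * Nat.card K))
    (h81' : Fintype.card F = 27 → ¬ 81 ∣ Nat.card G) : Cfsg.IsJ1 G := by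
  classical
  haveI : Fact (Nat.Prime 2) := ⟨Nat.prime_two⟩
  have hSh : HasShape G F := fun t ht => by
    obtain ⟨K, h1, h2, h3, h4, h5⟩ := hshape t ht
    exact ⟨K, ⟨h1, h2, h3, h4, h5⟩⟩
  obtain ⟨hWodd, hWa⟩ := coreJoinS_facts hSh S hS8 hc he
  set W := coreJoinS (S : Subgroup G) with hW
  obtain ⟨t, htS, ht1⟩ : ∃ t ∈ (S : Subgroup G), t ≠ 1 := by
    by_contra hcon
    push Not at hcon
    rw [(eq_bot_iff_forall _).2 hcon, card_bot] at hS8
    omega
  have ht2 := orderOf_two_of_mem S he htS ht1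
  obtain ⟨K, hK⟩ := hSh t ht2
  by_cases hW0 : W = ⊥
  · have hθ : theta t = ⊥ := le_bot_iff.1 (hW0 ▸ theta_le_coreJoinS htS ht1)
    have hC : centralizer ({t} : Set G) = zpowers t ⊔ K := by rw [← hK.sup, hθ, bot_sup_eq]
    rcases janko_or_large hO (fun a b => h.isConj_invol) S hS8 hc he hmod h5 hF hf ht2 K hK.le hC
      hK.notMem hK.iso.some with hJ | ⟨h27, h81⟩
    · exact hJ
    · exact absurd h81 (h81' h27)
  exfalso
  set M := normalizer (W : Set G) with hM
  have hNM := normalizer_le_normalizer_coreJoinS hSh S he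
  have hSM : (S : Subgroup G) ≤ M := le_normalizer.trans hNM
  have hCM : ∀ a ∈ (S : Subgroup G), a ≠ 1 → centralizer ({a} : Set G) ≤ M := fun a ha ha1 =>
    centralizer_le_normalizer_coreJoinS hSh S hS8 hc he h hsyl h5 hmod hF ha ha1
  have hMne : M ≠ ⊤ := fun e => by
    haveI : W.Normal := normalizer_eq_top_iff.1 e
    exact hW0 (le_bot_iff.1 (hO ▸ Agent.Cores.le_oddCore (N := W) hWodd))
  set SM := S.subtype hSM with hSMdef
  have hinto : ∀ x : M, orderOf x = 2 → ∃ m : M, m * x * m⁻¹ ∈ (SM : Subgroup M) := by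
    intro x hx
    obtain ⟨A, hA⟩ := (IsPGroup.of_card (n := 1) (by rw [Nat.card_zpowers, hx, pow_one]) :
      IsPGroup 2 (zpowers x)).exists_le_sylow
    obtain ⟨m, hm⟩ := MulAction.exists_smul_eq M A SM
    exact ⟨m, hm ▸ ZStar.CyclicIntersections.conj_mem_smul m (hA (mem_zpowers x))⟩
  have heven : Even (Nat.card M) := even_iff_two_dvd.2 (ht2 ▸ M.orderOf_dvd_natCard (hSM htS))
  have hse : Cfsg.IsStronglyEmbedded M := by
    refine Involutions.StronglyEmbedded.of_conj hMne heven fun x hx hx2 g hgx => ?_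
    obtain ⟨m, hm⟩ := hinto ⟨x, hx⟩ (by rw [Subgroup.orderOf_mk, hx2])
    obtain ⟨m', hm'⟩ := hinto ⟨_, hgx⟩ (by rw [Subgroup.orderOf_mk, Involutions.Basic.orderOf_conj, hx2])
    rw [hSMdef, Sylow.coe_subtype, mem_subgroupOf] at hm hm'
    set k : G := (m' : G) * g * (m : G)⁻¹ with hk
    have hkc : k * ((m : G) * x * (m : G)⁻¹) * k⁻¹ = (m' : G) * (g * x * g⁻¹) * (m' : G)⁻¹ := by
      rw [hk]; group
    obtain ⟨n, hn, hne⟩ := exists_normalizer_conj S hc hm hm' hkc
    have hc1 : n⁻¹ * k ∈ centralizer ({(m : G) * x * (m : G)⁻¹} : Set G) := by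
      refine mem_centralizer_singleton_iff.2 ?_
      have h1 : k * ((m : G) * x * (m : G)⁻¹) * k⁻¹ = n * ((m : G) * x * (m : G)⁻¹) * n⁻¹ :=
        hkc.trans hne.symm
      calc n⁻¹ * k * ((m : G) * x * (m : G)⁻¹)
          = n⁻¹ * (k * ((m : G) * x * (m : G)⁻¹) * k⁻¹) * k := by group
        _ = n⁻¹ * (n * ((m : G) * x * (m : G)⁻¹) * n⁻¹) * k := by rw [h1]
        _ = _ := by group
    have hk' := mul_mem (hNM hn) (hCM _ hm (fun e => Involutions.Basic.ne_one hx2 (conj_eq_one_iff.1 e)) hc1)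
    rw [mul_inv_cancel_left] at hk'
    have := mul_mem (mul_mem (inv_mem m'.2) hk') m.2
    simpa [hk, mul_assoc] using this
  set O := Cfsg.oddCore ↥M with hOdef
  set π := QuotientGroup.mk' O with hπdef
  have hπ := QuotientGroup.mk'_surjective O
  have hWO : W.subgroupOf M ≤ O := by
    haveI : (W.subgroupOf M).Normal := normal_subgroupOf_of_le_normalizer le_rfl
    refine Agent.Cores.le_oddCore ?_
    rw [Nat.card_congr (Subgroup.subgroupOfEquivOfLe (le_normalizer : W ≤ M)).toEquiv]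
    exact hWodd
  have hOodd : Odd (Nat.card O) := Agent.Cores.oddCore_odd
  have hO2 : ∀ a ∈ O, ∀ n : ℕ, a ^ 2 ^ n = 1 → a = 1 := fun a ha n hn =>
    orderOf_eq_one_iff.1 (Nat.eq_one_of_dvd_coprimes ((Nat.coprime_two_left.2 hOodd).pow_left n)
      (orderOf_dvd_of_pow_eq_one hn) (O.orderOf_dvd_natCard ha))
  set SQ := SM.mapSurjective hπ with hSQdef
  have hSQ : ∀ a, a ∈ (SQ : Subgroup (↥M ⧸ O)) → ∃ s : M, (s : G) ∈ (S : Subgroup G) ∧ π s = a := by
    intro a ha
    rw [hSQdef, Sylow.coe_mapSurjective] at ha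
    obtain ⟨s, hs, rfl⟩ := ha
    rw [hSMdef, Sylow.coe_subtype] at hs
    exact ⟨s, mem_subgroupOf.1 hs, rfl⟩
  have hsM : ∀ s : M, (s : G) ∈ (S : Subgroup G) → s * s = 1 := fun s hs =>
    Subtype.ext (by rw [Subgroup.coe_mul, ← pow_two]; exact he _ hs)
  have hinj : ∀ a b : M, (a : G) ∈ (S : Subgroup G) → (b : G) ∈ (S : Subgroup G) → π a = π b → a = b :=
    fun a b ha hb e => inv_mul_eq_one.1 (hO2 _ (QuotientGroup.eq.1 e) 1 (by
      rw [pow_one, pow_two]
      exact hsM _ (mul_mem (inv_mem ha) hb)))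
  have hQO : Cfsg.oddCore (↥M ⧸ O) = ⊥ := Agent.Cores.pPrimeCore_quotient_self (G := ↥M) 2
  have hQinv : ∀ a b : ↥M ⧸ O, orderOf a = 2 → orderOf b = 2 → IsConj a b := by
    have hconjS : ∀ a : ↥M ⧸ O, orderOf a = 2 → IsConj a (π ⟨t, hSM htS⟩) := by
      intro a ha
      obtain ⟨A, hA⟩ := (IsPGroup.of_card (n := 1) (by rw [Nat.card_zpowers, ha, pow_one]) :
        IsPGroup 2 (zpowers a)).exists_le_sylow
      obtain ⟨g, hg⟩ := MulAction.exists_smul_eq (↥M ⧸ O) A SQ
      obtain ⟨s, hsS, hs⟩ := hSQ _ (hg ▸ ZStar.CyclicIntersections.conj_mem_smul g (hA (mem_zpowers a)))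
      have hs1 : (s : G) ≠ 1 := fun e => by
        rw [show s = 1 from Subtype.ext e, map_one] at hs
        exact Involutions.Basic.ne_one ha (conj_eq_one_iff.1 hs.symm)
      obtain ⟨n, hn, hne⟩ := h.transitive S hc hsS htS (orderOf_two_of_mem S he hsS hs1) ht2
      refine (isConj_iff.2 ⟨g, rfl⟩).trans (hs ▸ π.map_isConj (isConj_iff.2 ⟨⟨n, hNM hn⟩, Subtype.ext hne⟩))
    exact fun a b ha hb => (hconjS a ha).trans (hconjS b hb).symm
  have hSQ8 : Nat.card (SQ : Subgroup (↥M ⧸ O)) = 8 := by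
    rw [hSQdef, Sylow.coe_mapSurjective, ← hS8,
      ← Nat.card_congr (Subgroup.subgroupOfEquivOfLe hSM).toEquiv, hSMdef, Sylow.coe_subtype]
    refine (Nat.card_congr (Equiv.ofBijective
      (fun s : ↥((S : Subgroup G).subgroupOf M) =>
        (⟨π s.1, mem_map_of_mem π s.2⟩ : ↥(((S : Subgroup G).subgroupOf M).map π)))
      ⟨fun a b e => Subtype.ext (hinj a b (mem_subgroupOf.1 a.2) (mem_subgroupOf.1 b.2)
        (congrArg Subtype.val e)), ?_⟩)).symm
    rintro ⟨_, s, hs, rfl⟩
    exact ⟨⟨s, hs⟩, rfl⟩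
  have hSQc : ∀ a ∈ (SQ : Subgroup (↥M ⧸ O)), ∀ b ∈ (SQ : Subgroup (↥M ⧸ O)), a * b = b * a := by
    intro a ha b hb
    obtain ⟨a', ha', rfl⟩ := hSQ a ha
    obtain ⟨b', hb', rfl⟩ := hSQ b hb
    rw [← map_mul, ← map_mul, show a' * b' = b' * a' from Subtype.ext (hc _ ha' _ hb')]
  have hSQe : ∀ a ∈ (SQ : Subgroup (↥M ⧸ O)), a ^ 2 = 1 := by
    intro a ha
    obtain ⟨a', ha', rfl⟩ := hSQ a ha
    rw [← map_pow, pow_two, hsM a' ha', map_one]
  set tM : M := ⟨t, hSM htS⟩ with htM
  have htM2 : orderOf tM = 2 := by rw [htM, Subgroup.orderOf_mk, ht2]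
  have hKM : K ≤ M := hK.le.trans (hCM t htS ht1)
  set K' := K.subgroupOf M with hK'
  have eK' : ↥K' ≃* Matrix.ProjectiveSpecialLinearGroup (Fin 2) F :=
    (Subgroup.subgroupOfEquivOfLe hKM).trans hK.iso.some
  haveI := TimesPSLTwo.psl_simple (F := F) (by omega)
  haveI hK's : IsSimpleGroup ↥K' := CyclicSylowInter.isSimpleGroup_congr eK'.symm
  have hKinj : Function.Injective (π.comp K'.subtype) := by
    rw [← MonoidHom.ker_eq_bot_iff]
    rcases hK's.eq_bot_or_eq_top_of_normal (π.comp K'.subtype).ker inferInstance with e | e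
    · exact e
    exfalso
    obtain ⟨k, hk⟩ := exists_prime_orderOf_dvd_card' (G := ↥K') 2 ((show 2 ∣ 4 by norm_num).trans
      (by rw [Nat.card_congr eK'.toEquiv]; exact four_dvd_psl (Or.inl ⟨hmod, h5⟩)))
    have hkO : (k : M) ∈ O := (QuotientGroup.eq_one_iff _).1
      (MonoidHom.mem_ker.1 (e.symm ▸ mem_top k))
    have := hO2 _ hkO 1 (by rw [pow_one, ← Subgroup.coe_pow, ← hk, pow_orderOf_eq_one, coe_one])
    rw [← Subgroup.orderOf_coe, this, orderOf_one] at hk
    omega
  have hKc : ∀ k : K', Commute (k : M) tM := fun k =>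
    Subtype.ext (hK.commute (mem_subgroupOf.1 k.2)).eq
  have htK : π tM ∉ K'.map π := by
    rintro ⟨k, hk, hkt⟩
    have hkc : ∀ a : ↥K', (⟨k, hk⟩ : ↥K') * a = a * ⟨k, hk⟩ := fun a => hKinj (by
      show π (((⟨k, hk⟩ : ↥K') : M) * (a : M)) = π ((a : M) * k)
      rw [map_mul, map_mul, hkt, ← map_mul, ← map_mul, (hKc a).eq])
    have hk1 : (⟨k, hk⟩ : ↥K') = 1 := by
      rcases hK's.eq_bot_or_eq_top_of_normal (center ↥K') inferInstance with e | e
      · exact mem_bot.1 (e ▸ mem_center_iff.2 fun a => (hkc a).symm)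
      · exfalso
        have hs : Group.IsSolvable ↥K' := Group.isSolvable_of_comm fun a b =>
          (mem_center_iff.1 (e ▸ mem_top a) b).symm
        letI : CommGroup ↥K' := { (inferInstance : Group ↥K') with
          mul_comm := fun a b => (mem_center_iff.1 (e ▸ mem_top a) b).symm }
        have hprime := IsSimpleGroup.prime_card (α := ↥K')
        have h4 : 4 ∣ Nat.card ↥K' := by
          rw [Nat.card_congr eK'.toEquiv]; exact four_dvd_psl (Or.inl ⟨hmod, h5⟩)
        have := (Nat.prime_dvd_prime_iff_eq Nat.prime_two hprime).1 ((show 2 ∣ 4 by norm_num).trans h4)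
        rw [← this] at h4
        omega
    rw [show k = 1 from congrArg Subtype.val hk1, map_one] at hkt
    exact Involutions.Basic.ne_one htM2 (hO2 tM ((QuotientGroup.eq_one_iff _).1 hkt.symm) 1
      (by rw [pow_one, pow_two]; exact hsM tM htS))
  have hπt : orderOf (π tM) = 2 := Involutions.Basic.orderOf_two_iff.2
    ⟨by rw [← map_mul, hsM tM htS, map_one], fun e => htK (e ▸ one_mem _)⟩
  have hCQ : centralizer ({π tM} : Set (↥M ⧸ O)) = zpowers (π tM) ⊔ K'.map π := by
    refine le_antisymm (fun a ha => ?_) (sup_le (zpowers_le.2 (mem_centralizer_singleton_iff.2 rfl)) ?_)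
    · obtain ⟨g, rfl⟩ := hπ a
      set t' := g * tM * g⁻¹ with ht'
      have ht'2 : orderOf t' = 2 := by rw [ht', Involutions.Basic.orderOf_conj, htM2]
      have htt' : tM * t' ∈ O := (QuotientGroup.eq_one_iff _).1 (by
        show π (tM * t') = 1
        rw [ht', map_mul, map_mul, map_mul, map_inv, mem_centralizer_singleton_iff.1 ha,
          mul_inv_cancel_right, ← map_mul, hsM tM htS, map_one])
      obtain ⟨d, hd, hdt⟩ := Involutions.Basic.exists_conj_of_odd htM2 ht'2
        (hOodd.of_dvd_nat (O.orderOf_dvd_natCard htt'))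
      have hdO : d ∈ O := zpowers_le.2 htt' hd
      have hdg : ((d⁻¹ * g : M) : G) ∈ centralizer ({t} : Set G) := by
        refine mem_centralizer_singleton_iff.2 ?_
        have h1 : d⁻¹ * g * tM = tM * (d⁻¹ * g) := by
          calc d⁻¹ * g * tM = d⁻¹ * (g * tM * g⁻¹) * g := by group
            _ = d⁻¹ * (d * tM * d⁻¹) * g := by rw [hdt, ht']
            _ = _ := by group
        exact congrArg Subtype.val h1
      rw [← hK.sup] at hdg
      have hle : theta t ⊔ (zpowers t ⊔ K) ≤
          ((zpowers (π tM) ⊔ K'.map π).comap π).map M.subtype := by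
        refine sup_le (fun w hw => ?_) (sup_le ?_ fun w hw => ?_)
        · have hwW := theta_le_coreJoinS htS ht1 hw
          refine ⟨⟨w, le_normalizer hwW⟩, ?_, rfl⟩
          rw [SetLike.mem_coe, mem_comap, show π ⟨w, le_normalizer hwW⟩ = 1 from (QuotientGroup.eq_one_iff _).2
            (hWO (mem_subgroupOf.2 hwW))]
          exact one_mem _
        · exact zpowers_le.2 ⟨tM, mem_sup_left (mem_zpowers _), rfl⟩
        · exact ⟨⟨w, hKM hw⟩, mem_sup_right (mem_map_of_mem π (mem_subgroupOf.2 hw)), rfl⟩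
      obtain ⟨y, hy, hye⟩ := hle hdg
      obtain rfl : y = d⁻¹ * g := Subtype.ext hye
      have : π (d⁻¹ * g) = π g := by
        rw [map_mul, map_inv, show π d = 1 from (QuotientGroup.eq_one_iff _).2 hdO, inv_one, one_mul]
      exact this ▸ hy
    · rintro _ ⟨k, hk, rfl⟩
      exact mem_centralizer_singleton_iff.2 ((hKc ⟨k, hk⟩).map π).eq
  have eK : ↥(K'.map π) ≃* Matrix.ProjectiveSpecialLinearGroup (Fin 2) F :=
    (MulEquiv.ofBijective (π.subgroupMap K') ⟨fun a b e => hKinj (congrArg Subtype.val e),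
      MonoidHom.subgroupMap_surjective π K'⟩).symm.trans eK'
  rcases janko_or_large hQO hQinv SQ hSQ8 hSQc hSQe hmod h5 hF hf hπt (K'.map π)
    (hCQ ▸ le_sup_right) hCQ htK eK with hJ | ⟨h27, h81⟩
  · exact no_janko M hse hJ
  · exact h81' h27
      (h81.trans ((card_dvd_of_surjective π hπ).trans M.card_subgroup_dvd_card))

/-- The first Janko group from the shape of the centralizers of involutions. -/
theorem janko_of_shape {G : Type u} [Group G] [Finite G] (h : AllConj G) (hO : Cfsg.oddCore G = ⊥)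
    (S : Sylow 2 G) (hS8 : Nat.card (S : Subgroup G) = 8)
    (hc : ∀ a ∈ (S : Subgroup G), ∀ b ∈ (S : Subgroup G), a * b = b * a)
    (he : ∀ a ∈ (S : Subgroup G), a ^ 2 = 1) {F : Type} [Field F] [Fintype F]
    (hmod : Fintype.card F % 8 = 3 ∨ Fintype.card F % 8 = 5) (h5 : 5 ≤ Fintype.card F) {p f : ℕ}
    [Fact p.Prime] (hF : Fintype.card F = p ^ f) (hf : f = 1 ∨ f = 3)
    (hshape : ∀ t : G, orderOf t = 2 → ∃ K : Subgroup G, K ≤ centralizer ({t} : Set G) ∧ t ∉ K ∧
      Nonempty (↥K ≃* Matrix.ProjectiveSpecialLinearGroup (Fin 2) F) ∧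
      SEAbelian.theta t ⊔ (zpowers t ⊔ K) = centralizer ({t} : Set G) ∧
      (Nat.card ↥(SEAbelian.theta t)).Coprime (2 * Nat.card K)) : Cfsg.IsJ1 G :=
  janko_of_shape_cyc h.cycConj h.oddSylow hO S hS8 hc he hmod h5 hF hf hshape fun h27 =>
    not_eightyone (fun t ht => by
      obtain ⟨K, h1, h2, h3, h4, h5'⟩ := hshape t ht
      exact ⟨K, ⟨h1, h2, h3, h4, h5'⟩⟩) S hS8 hc he h.cycConj hF h27

end Cfsg.Agent.EqConjOdd
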