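import Cfsg.Agent.Lib.EqConjOdd.Degree
import Cfsg.Agent.Lib.GW.MainFinal
import Cfsg.Agent.Lib.GW.ConsQuaternion
import Cfsg.Agent.Lib.GW.ConsTwoClasses
import Cfsg.Agent.Lib.GW.ConsCover
import Cfsg.Agent.Lib.PLocal.QuaternionSection
import Cfsg.Agent.Lib.Classical.SmallIso
import Cfsg.Agent.S0251
import Cfsg.Agent.S2427

/-!
# Sylow `2`-subgroups of order four or quaternion of order eight

With all prime power subgroups of equal order fused, the groups without odd core are `L₂(q)` and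
`SL₂(q)` with `q = p` or `p³` congruent to `±3` modulo `8`.
-/

set_option autoImplicit false
set_option linter.style.haveILetI false
set_option linter.unusedSectionVars false

namespace Cfsg.Agent.EqConjOdd

open Subgroup

universe u

variable {G : Type u} [Group G] [Finite G]

theorem not_eight_of_four (S : Sylow 2 G) (hS : Nat.card (S : Subgroup G) = 4) :
    ¬ 8 ∣ Nat.card G := by
  haveI : Fact (Nat.Prime 2) := ⟨Nat.prime_two⟩
  intro h
  rw [← (S : Subgroup G).card_mul_index, hS] at h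
  obtain ⟨k, hk⟩ := h
  exact S.not_dvd_index ⟨k, by omega⟩

theorem mod_eight {q N : ℕ} (hq : Odd q) (hN : 2 * N = q * ((q - 1) * (q + 1))) (h8 : ¬ 8 ∣ N) :
    q % 8 = 3 ∨ q % 8 = 5 := by
  have hodd := Nat.odd_iff.1 hq
  by_contra hcon
  refine h8 ?_
  obtain ⟨k, rfl | rfl⟩ : ∃ k, q = 8 * k + 1 ∨ q = 8 * k + 7 := ⟨q / 8, by omega⟩
  · exact ⟨(8 * k + 1) * (k * (4 * k + 1)), by
      rw [show 8 * k + 1 - 1 = 8 * k by omega] at hN; nlinarith [hN]⟩
  · exact ⟨(8 * k + 7) * ((4 * k + 3) * (k + 1)), by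
      rw [show 8 * k + 7 - 1 = 8 * k + 6 by omega] at hN; nlinarith [hN]⟩

theorem pow_mod_eight {p f : ℕ} (hp : p % 2 = 1) :
    p ^ f % 8 = if f % 2 = 0 then 1 else p % 8 := by
  have h2 : p * p % 8 = 1 := by
    rw [Nat.mul_mod]
    have : p % 8 = 1 ∨ p % 8 = 3 ∨ p % 8 = 5 ∨ p % 8 = 7 := by omega
    rcases this with h | h | h | h <;> rw [h]
  induction f using Nat.twoStepInduction with
  | zero => simp
  | one => simp
  | more n ih _ =>
    rw [show n + 2 = n + 1 + 1 from rfl, pow_succ, pow_succ, mul_assoc, Nat.mul_mod, h2, ih,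
      show (n + 1 + 1) % 2 = n % 2 by omega]
    split_ifs <;> simp

/-- Over `L₂(q)`, the group is `L₂(q)`, of degree one or three. -/
theorem eq_top_of_component (h : AllConj G) (S : Sylow 2 G) (hS : Nat.card (S : Subgroup G) = 4)
    (hc : ∀ a ∈ (S : Subgroup G), ∀ b ∈ (S : Subgroup G), a * b = b * a)
    (he : ∀ a ∈ (S : Subgroup G), a ^ 2 = 1) {L : Subgroup G} [L.Normal]
    (hC : centralizer (L : Set G) = ⊥) {F : Type} [Field F] [Fintype F]
    (hodd : Odd (Fintype.card F)) (h3 : 3 < Fintype.card F)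
    (e : L ≃* Matrix.ProjectiveSpecialLinearGroup (Fin 2) F) :
    L = ⊤ ∧ ∃ (p : ℕ) (_ : Fact p.Prime), (p % 8 = 3 ∨ p % 8 = 5) ∧
      (Fintype.card F = p ∨ Fintype.card F = p ^ 3) := by
  haveI : Fact (Nat.Prime 2) := ⟨Nat.prime_two⟩
  obtain ⟨p, hchar⟩ := CharP.exists F
  obtain ⟨f, hp, hF⟩ := FiniteField.card F p
  haveI : Fact p.Prime := ⟨hp⟩
  set q := Fintype.card F with hq
  have hp2 : p ≠ 2 := fun h => by
    rw [hF, h, Nat.odd_pow_iff f.ne_zero] at hodd
    exact absurd hodd (by decide)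
  have hcard : 2 * Nat.card (Matrix.ProjectiveSpecialLinearGroup (Fin 2) F) =
      q * ((q - 1) * (q + 1)) := by
    rw [← Forms.DicksonCor.gcd_mul_natCard (F := F)]
    congr 1
    exact (Nat.gcd_eq_left (Nat.dvd_of_mod_eq_zero (by have := Nat.odd_iff.1 hodd; omega))).symm
  have h8 := not_eight_of_four S hS
  have hmod : q % 8 = 3 ∨ q % 8 = 5 := mod_eight hodd hcard fun h' => h8 (by
    rw [← Nat.card_congr e.toEquiv] at h'
    exact h'.trans L.card_subgroup_dvd_card)
  have hL : LFacts L q p := (exists_lfacts hF hmod h3).of_equiv e.symm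
  have hpodd : p % 2 = 1 := (hp.eq_two_or_odd).resolve_left hp2
  have hpf := pow_mod_eight (f := (f : ℕ)) hpodd
  rw [← hF] at hpf
  have hfodd : (f : ℕ) % 2 = 1 := by
    by_contra hcon
    rw [if_pos (by omega)] at hpf
    omega
  rw [if_neg (by omega)] at hpf
  -- the index is odd
  have h4L : 4 ∣ Nat.card L := by
    rw [Nat.card_congr e.toEquiv]
    rcases hmod with hm | hm
    · refine Nat.dvd_of_mul_dvd_mul_left (k := 2) two_pos ?_
      rw [hcard, show q - 1 = 2 * (q / 2) by omega, show q + 1 = 4 * ((q + 1) / 4) by omega]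
      exact ⟨q * ((q / 2) * ((q + 1) / 4)), by ring⟩
    · refine Nat.dvd_of_mul_dvd_mul_left (k := 2) two_pos ?_
      rw [hcard, show q - 1 = 4 * (q / 4) by omega, show q + 1 = 2 * ((q + 1) / 2) by omega]
      exact ⟨q * ((q / 4) * ((q + 1) / 2)), by ring⟩
  have hindex : Odd L.index := by
    refine Nat.odd_iff.2 (Nat.two_dvd_ne_zero.1 fun h' => h8 ?_)
    rw [← L.card_mul_index]
    exact Nat.mul_dvd_mul h4L h'
  have hidx : L.index ∣ (f : ℕ) := index_dvd hC hindex f.pos hF h3 hp2 e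
  have hconj : ∀ A B : Subgroup G, A ≤ L → B ≤ L → Nat.card A = p ^ 2 → Nat.card B = p ^ 2 →
      ∃ g : G, A.map (MulAut.conj g).toMonoidHom = B := by
    intro A B _ _ hA hB
    obtain ⟨g, hg⟩ := h p hp A B (IsPGroup.of_card hA) (IsPGroup.of_card hB) (hA.trans hB.symm)
    exact ⟨g, hg.symm⟩
  have hf5 : (f : ℕ) < 5 := degree_lt_five (hp.two_le.lt_of_ne' hp2) (hF ▸ hL) hidx hconj
  have hf13 : (f : ℕ) = 1 ∨ (f : ℕ) = 3 := by omega
  -- the four-group
  have hSL : (S : Subgroup G) ≤ L := by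
    intro a ha
    rw [← QuotientGroup.eq_one_iff]
    have hd : orderOf (a : G ⧸ L) ∣ Nat.gcd 2 L.index := by
      refine Nat.dvd_gcd (orderOf_dvd_of_pow_eq_one ?_) ?_
      · rw [← QuotientGroup.mk_pow, he a ha, QuotientGroup.mk_one]
      · rw [Subgroup.index_eq_card]; exact orderOf_dvd_natCard _
    rw [Nat.coprime_two_left.2 hindex, Nat.dvd_one, orderOf_eq_one_iff] at hd
    exact hd
  refine ⟨?_, p, ⟨hp⟩, by omega, hf13.imp (fun h1 => by rw [hF, h1, pow_one])
    (fun h3' => by rw [hF, h3'])⟩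
  by_contra htop
  have hne1 : L.index ≠ 1 := fun h1 => htop (index_eq_one.1 h1)
  have h3f : 3 ∣ L.index := by
    rcases hf13 with h1 | h1 <;> rw [h1] at hidx
    · exact absurd (Nat.dvd_one.1 hidx) hne1
    · exact ((Nat.dvd_prime Nat.prime_three).1 hidx).resolve_left hne1 ▸ dvd_rfl
  obtain ⟨a, b, ha, hb, ha2, hb2, hne⟩ : ∃ a b, a ∈ (S : Subgroup G) ∧ b ∈ (S : Subgroup G) ∧
      orderOf a = 2 ∧ orderOf b = 2 ∧ a ≠ b := by
    haveI := Fintype.ofFinite (S : Subgroup G)
    have h2 : 2 < Fintype.card (S : Subgroup G) := by rw [← Nat.card_eq_fintype_card, hS]; norm_num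
    obtain ⟨x, y, z, hxy, hxz, hyz⟩ := Fintype.two_lt_card_iff.1 h2
    have hord : ∀ x : (S : Subgroup G), x ≠ 1 → orderOf (x : G) = 2 := fun x hx =>
      orderOf_eq_prime (he x x.2) fun e => hx (Subtype.ext e)
    by_cases hx : x = 1
    · exact ⟨y, z, y.2, z.2, hord y (fun e => hxy (hx.trans e.symm)),
        hord z (fun e => hxz (hx.trans e.symm)), fun e => hyz (Subtype.ext e)⟩
    by_cases hy : y = 1
    · exact ⟨x, z, x.2, z.2, hord x hx, hord z (fun e => hyz (hy.trans e.symm)),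
        fun e => hxz (Subtype.ext e)⟩
    exact ⟨x, y, x.2, y.2, hord x hx, hord y hy, fun e => hxy (Subtype.ext e)⟩
  haveI : Fact (Nat.Prime 3) := ⟨Nat.prime_three⟩
  obtain ⟨w, hw, -, -, hwL⟩ := exists_central_outer hL hindex (hSL ha) (hSL hb) ha2 hb2
    (hc a ha b hb) hne h3f
  obtain ⟨y, hy, -, -⟩ := hL.rot ⟨a, hSL ha⟩ ⟨b, hSL hb⟩ (by rwa [← Subgroup.orderOf_coe])
    (by rwa [← Subgroup.orderOf_coe]) (Subtype.ext (hc a ha b hb))
    fun e' => hne (congrArg Subtype.val e')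
  obtain ⟨g, hg, -⟩ := h.exists_conj_mem Nat.prime_three hw
    (show orderOf (y : G) = 3 by rw [Subgroup.orderOf_coe, hy])
  have h1 := (inferInstance : L.Normal).conj_mem _ (zpowers_le.2 y.2 hg) g⁻¹
  exact hwL (by simpa [mul_assoc] using h1)

/-- The conclusion for a field of order `p` or `p³`. -/
theorem psl_cases {F : Type} [Field F] [Fintype F] {p : ℕ} [Fact p.Prime]
    (hF : Fintype.card F = p ∨ Fintype.card F = p ^ 3) {X : Type*} [Group X]
    (e : X ≃* Matrix.ProjectiveSpecialLinearGroup (Fin 2) F) :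
    Nonempty (X ≃* Matrix.ProjectiveSpecialLinearGroup (Fin 2) (ZMod p)) ∨
      Nonempty (X ≃* Matrix.ProjectiveSpecialLinearGroup (Fin 2) (GaloisField p 3)) := by
  letI : Fintype (GaloisField p 3) := Fintype.ofFinite _
  refine hF.imp (fun h1 => ⟨e.trans (Classical.SmallIso.pslCongr (FiniteField.ringEquivOfCardEq ?_))⟩)
    (fun h1 => ⟨e.trans (Classical.SmallIso.pslCongr (FiniteField.ringEquivOfCardEq ?_))⟩)
  · rw [h1, ZMod.card]
  · rw [h1, ← Nat.card_eq_fintype_card, GaloisField.card p 3 three_ne_zero]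

/-- A four-group as Sylow subgroup. -/
theorem four_case (h : AllConj G) (hO : Cfsg.oddCore G = ⊥) (S : Sylow 2 G)
    (hc : ∀ a ∈ (S : Subgroup G), ∀ b ∈ (S : Subgroup G), a * b = b * a)
    (he : ∀ a ∈ (S : Subgroup G), a ^ 2 = 1) (hS : Nat.card (S : Subgroup G) = 4) :
    ∃ (p : ℕ) (_ : Fact p.Prime), (p % 8 = 3 ∨ p % 8 = 5) ∧
      (Nonempty (G ≃* Matrix.ProjectiveSpecialLinearGroup (Fin 2) (ZMod p)) ∨
        Nonempty (G ≃* Matrix.ProjectiveSpecialLinearGroup (Fin 2) (GaloisField p 3))) := by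
  haveI : Fact (Nat.Prime 2) := ⟨Nat.prime_two⟩
  haveI : Nontrivial (S : Subgroup G) := Finite.one_lt_card_iff_nontrivial.1 (by omega)
  haveI : IsKleinFour (S : Subgroup G) := ⟨hS, by
    refine ((Nat.dvd_prime Nat.prime_two).1 (Monoid.exponent_dvd_of_forall_pow_eq_one fun g =>
      Subtype.ext (he _ g.2))).resolve_left fun e1 => ?_
    exact not_subsingleton (S : Subgroup G) (Monoid.exp_eq_one_iff.1 e1)⟩
  obtain ⟨eS⟩ : Nonempty ((S : Subgroup G) ≃* DihedralGroup 2) := IsKleinFour.nonempty_mulEquiv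
  by_cases hs : Group.IsSolvable G
  · have hnt : (S : Subgroup G) ≠ ⊤ := by
      intro htop
      haveI := hs
      obtain ⟨x, y, hxy, hx, hy⟩ : ∃ x y : G, x ≠ y ∧ orderOf x = 2 ∧ orderOf y = 2 := by
        have h2 : ∀ x : G, x ≠ 1 → orderOf x = 2 := fun x hx =>
          orderOf_eq_prime (he x (htop ▸ mem_top x)) hx
        have hG : Nat.card G = 4 := by rw [← hS, htop, Subgroup.card_top]
        haveI := Fintype.ofFinite G
        obtain ⟨x, y, z, hxy, hxz, hyz⟩ := Fintype.two_lt_card_iff.1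
          (show 2 < Fintype.card G by rw [← Nat.card_eq_fintype_card, hG]; norm_num)
        by_cases hx : x = 1
        · exact ⟨y, z, hyz, h2 y (fun e => hxy (hx.trans e.symm)), h2 z fun e => hxz (hx.trans e.symm)⟩
        by_cases hy : y = 1
        · exact ⟨x, z, hxz, h2 x hx, h2 z fun e => hyz (hy.trans e.symm)⟩
        exact ⟨x, y, hxy, h2 x hx, h2 y hy⟩
      obtain ⟨g, hg⟩ := isConj_iff.1 (h.isConj_invol hx hy)
      rw [hc g (htop ▸ mem_top g) x (htop ▸ mem_top x), mul_inv_cancel_right] at hg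
      exact hxy hg
    haveI := hs
    rcases GW.Cons.TwoClasses.solvable_case hO S le_rfl eS hnt with ⟨⟨e⟩⟩ | ⟨⟨e⟩⟩
    · haveI : Fact (Nat.Prime 3) := ⟨Nat.prime_three⟩
      obtain ⟨e'⟩ := S0251.result (F := ZMod 3) (ZMod.card 3)
      exact ⟨3, inferInstance, Or.inl rfl, Or.inl ⟨e.trans e'.symm⟩⟩
    · refine absurd ⟨3, ?_⟩ (not_eight_of_four S hS)
      rw [Nat.card_congr e.toEquiv, Nat.card_perm, Nat.card_fin]
      rfl
  · obtain ⟨L, hLn, hCL, -, -, ⟨F, hF, hfin, hodd, h3, ⟨e⟩⟩ | ⟨⟨e⟩⟩⟩ :=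
      GW.Cons.full_gw GW.perfectGW hO S le_rfl eS hs
    swap
    · refine absurd ((Dvd.intro 315 ?_).trans L.card_subgroup_dvd_card) (not_eight_of_four S hS)
      rw [Nat.card_congr e.toEquiv, nat_card_alternatingGroup, Nat.card_fin]
      norm_num [Nat.factorial]
    haveI := hLn
    obtain ⟨htop, p, hp, hp8, hq⟩ := eq_top_of_component h S hS hc he hCL hodd h3 e
    subst htop
    exact ⟨p, hp, hp8, psl_cases hq (Subgroup.topEquiv.symm.trans e)⟩

/-- The double cover. -/
theorem sl_of_quotient (F : Type) [Field F] [Fintype F] (hodd : Odd (Fintype.card F))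
    (h3 : 3 < Fintype.card F) {z : G} (hz : orderOf z = 2) (hzc : z ∈ center G)
    (huniq : ∀ y : G, orderOf y = 2 → y = z) [(zpowers z).Normal]
    (eQ : G ⧸ zpowers z ≃* Matrix.ProjectiveSpecialLinearGroup (Fin 2) F)
    (T : Sylow 2 (G ⧸ zpowers z)) {n : ℕ} [NeZero n]
    (eT : (T : Subgroup (G ⧸ zpowers z)) ≃* DihedralGroup n) :
    Nonempty (G ≃* Matrix.SpecialLinearGroup (Fin 2) F) := by
  haveI : Fact (Nat.Prime 2) := ⟨Nat.prime_two⟩
  have hsl := GW.Cons.sl_double F hodd h3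
  set ξ : G →* Matrix.ProjectiveSpecialLinearGroup (Fin 2) F :=
    eQ.toMonoidHom.comp (QuotientGroup.mk' (zpowers z)) with hξ
  have hξs : Function.Surjective ξ := eQ.surjective.comp (QuotientGroup.mk'_surjective _)
  have hker : ξ.ker = zpowers z := by
    ext x
    simp [hξ]
  have hPperf : commutator (Matrix.ProjectiveSpecialLinearGroup (Fin 2) F) = ⊤ := by
    rw [_root_.commutator_def, ← Subgroup.map_top_of_surjective _ hsl.surj, ← Subgroup.map_commutator,
      ← _root_.commutator_def, hsl.perfect]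
  have hperf : commutator G = ⊤ := by
    have hmap : (commutator G).map ξ = ⊤ := by
      rw [_root_.commutator_def, Subgroup.map_commutator, Subgroup.map_top_of_surjective _ hξs,
        ← _root_.commutator_def, hPperf]
    have h2D : 2 ∣ Nat.card (commutator G) := by
      refine dvd_trans ?_ (Subgroup.card_map_dvd (commutator G) ξ)
      rw [hmap, Subgroup.card_top]
      have hc := Forms.DicksonCor.gcd_mul_natCard (F := F)
      obtain ⟨k, hk⟩ := hodd
      rw [Nat.gcd_eq_left (Nat.dvd_of_mod_eq_zero (by omega)),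
        show Fintype.card F - 1 = 2 * k by omega, show Fintype.card F + 1 = 2 * (k + 1) by omega] at hc
      obtain ⟨s, hs⟩ := Nat.even_mul_succ_self k
      refine ⟨Fintype.card F * (2 * s), Nat.eq_of_mul_eq_mul_left two_pos (hc.trans ?_)⟩
      linear_combination (4 * Fintype.card F) * hs
    obtain ⟨y, hy⟩ := exists_prime_orderOf_dvd_card' (G := commutator G) 2 h2D
    have hyz : (y : G) = z := huniq _ (by rw [Subgroup.orderOf_coe, hy])
    have hzD : zpowers z ≤ commutator G := zpowers_le.2 (hyz ▸ y.2)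
    rw [← Subgroup.comap_map_eq_self (hker.le.trans hzD), hmap, Subgroup.comap_top]
  have h₁ : GW.Cons.IsDouble ξ := ⟨hperf, hξs, hker.le.trans (zpowers_le.2 hzc),
    by rw [hker, Nat.card_zpowers, hz]⟩
  exact GW.Cons.double_unique h₁ hsl (T.mapSurjective (f := eQ.toMonoidHom) eQ.surjective)
    (((T : Subgroup (G ⧸ zpowers z)).equivMapOfInjective eQ.toMonoidHom eQ.injective).symm.trans eT)

/-- A quaternion Sylow subgroup of order eight. -/
theorem quaternion_case (h : AllConj G) (hO : Cfsg.oddCore G = ⊥) (S : Sylow 2 G)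
    (e : (S : Subgroup G) ≃* QuaternionGroup 2) :
    ∃ (p : ℕ) (_ : Fact p.Prime), (p % 8 = 3 ∨ p % 8 = 5) ∧
      (Nonempty (G ≃* Matrix.SpecialLinearGroup (Fin 2) (ZMod p)) ∨
        Nonempty (G ≃* Matrix.SpecialLinearGroup (Fin 2) (GaloisField p 3))) := by
  haveI : Fact (Nat.Prime 2) := ⟨Nat.prime_two⟩
  have h1 : Cfsg.PRankLE 2 1 G := GW.Cons.prankLE_of_sylow S
    (GW.Cons.prankLE_of_injective (f := e.toMonoidHom) e.injective (GW.Cons.prankLE_quaternion _))
  have hScard : Nat.card (S : Subgroup G) = 8 := by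
    rw [Nat.card_congr e.toEquiv, Nat.card_eq_fintype_card, QuaternionGroup.card]
  have h2 : Even (Nat.card G) :=
    even_iff_two_dvd.2 ((show 2 ∣ 8 by norm_num).trans (hScard ▸ (S : Subgroup G).card_subgroup_dvd_card))
  obtain ⟨z, hz, hzc, huniq⟩ := GW.Cons.exists_center_involution h1 h2 hO
  haveI : (zpowers z).Normal := ⟨fun x hx g => by
    rw [mem_center_iff.1 (zpowers_le.2 hzc hx) g, mul_inv_cancel_right]; exact hx⟩
  have hO' := GW.Cons.oddCore_quotient_eq_bot hO hz hzc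
  obtain ⟨T, ⟨eT⟩⟩ := GW.Cons.sylow_quotient_dihedral S (m := 1) le_rfl
    (e.trans (MulEquiv.refl _)) hz hzc huniq
  have hT4 : Nat.card (T : Subgroup (G ⧸ zpowers z)) = 4 := by
    rw [Nat.card_congr eT.toEquiv, DihedralGroup.nat_card]; rfl
  have hd : ∀ a b : DihedralGroup (2 ^ 1), a * b = b * a ∧ a * a = 1 := by decide
  have hcT : ∀ a ∈ (T : Subgroup (G ⧸ zpowers z)), ∀ b ∈ (T : Subgroup (G ⧸ zpowers z)),
      a * b = b * a := fun a ha b hb => congrArg Subtype.val (eT.injective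
        (a₁ := ⟨a, ha⟩ * ⟨b, hb⟩) (a₂ := ⟨b, hb⟩ * ⟨a, ha⟩) (by rw [map_mul, map_mul]; exact (hd _ _).1))
  have heT : ∀ a ∈ (T : Subgroup (G ⧸ zpowers z)), a ^ 2 = 1 := fun a ha => congrArg Subtype.val
    (eT.injective (a₁ := ⟨a, ha⟩ ^ 2) (a₂ := 1) (by rw [map_pow, map_one, pow_two]; exact (hd _ 1).2))
  obtain ⟨p, hp, hp8, hiso⟩ := four_case (h.quotient (zpowers z)) hO' T hcT heT hT4
  refine ⟨p, hp, hp8, ?_⟩
  letI : Fintype (GaloisField p 3) := Fintype.ofFinite _
  have hpodd : p % 2 = 1 := by omega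
  rcases hiso with ⟨⟨eQ⟩⟩ | ⟨⟨eQ⟩⟩
  · left
    by_cases hp3 : p = 3
    · subst hp3
      have hG : Nat.card G = 24 := by
        obtain ⟨e4⟩ := S0251.result (F := ZMod 3) (ZMod.card 3)
        rw [Subgroup.card_eq_card_quotient_mul_card_subgroup (zpowers z), Nat.card_zpowers, hz,
          Nat.card_congr (eQ.trans e4).toEquiv, nat_card_alternatingGroup, Nat.card_fin]
        decide
      rcases PLocal.QuaternionSection.complement_or_section S 1 ⟨e⟩ with
        ⟨P, N, hN, hNP⟩ | ⟨H, K, hK, ⟨eH⟩⟩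
      · exfalso
        have hNodd : Odd (Nat.card N) := by
          rw [← hNP.index_eq_card, ← Nat.not_even_iff_odd, even_iff_two_dvd]
          exact P.not_dvd_index
        rw [le_bot_iff.1 (hO ▸ Cores.le_oddCore hNodd : N ≤ ⊥), Subgroup.isComplement'_bot_left] at hNP
        have h8 : Nat.card (P : Subgroup G) = 8 := hScard ▸ Nat.card_congr (P.equiv S).toEquiv
        rw [hNP, Subgroup.card_top, hG] at h8
        omega
      · have hcH := Subgroup.card_eq_card_quotient_mul_card_subgroup (K.subgroupOf H)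
        rw [Nat.card_congr eH.toEquiv, S2427.result.1] at hcH
        have hle := Nat.le_of_dvd Nat.card_pos H.card_subgroup_dvd_card
        have hK1 : Nat.card (K.subgroupOf H) = 1 := by
          have := Nat.card_pos (α := K.subgroupOf H)
          rw [hG] at hle
          omega
        have hH : H = ⊤ := H.eq_top_of_card_eq (by rw [hcH, hK1, hG])
        subst hH
        exact ⟨(((QuotientGroup.quotientBot).symm.trans
          (QuotientGroup.quotientMulEquivOfEq (Subgroup.card_eq_one.1 hK1).symm)).trans eH |>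
            (Subgroup.topEquiv (G := G)).symm.trans)⟩
    · exact sl_of_quotient (ZMod p) (Nat.odd_iff.2 (by rw [ZMod.card]; exact hpodd))
        (by rw [ZMod.card]; omega) hz hzc huniq eQ T eT
  · right
    have hc3 : Fintype.card (GaloisField p 3) = p ^ 3 := by
      rw [← Nat.card_eq_fintype_card, GaloisField.card p 3 three_ne_zero]
    refine sl_of_quotient (GaloisField p 3) ?_ ?_ hz hzc huniq eQ T eT
    · rw [hc3]; exact (Nat.odd_iff.2 hpodd).pow
    · rw [hc3]
      have : 3 ≤ p := by omega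
      calc 3 < 3 ^ 3 := by norm_num
        _ ≤ p ^ 3 := Nat.pow_le_pow_left this 3

end Cfsg.Agent.EqConjOdd
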