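import Cfsg.Agent.Lib.EqConjOdd.Basic
import Cfsg.Agent.Lib.Transfer.Fusion
import Cfsg.Agent.S0205

/-!
# Tools on abelian Sylow 2-subgroups
-/

set_option autoImplicit false
set_option linter.style.haveILetI false
set_option linter.unusedSectionVars false

namespace Cfsg.Agent.EqConjOdd

open Subgroup

universe u v

variable {G : Type u} [Group G] [Finite G]

/-- The normalizer of an abelian Sylow `2`-subgroup controls the fusion in it. -/
theorem exists_normalizer_conj (S : Sylow 2 G)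
    (hc : ∀ a ∈ (S : Subgroup G), ∀ b ∈ (S : Subgroup G), a * b = b * a) {s t g : G}
    (hs : s ∈ (S : Subgroup G)) (ht : t ∈ (S : Subgroup G)) (hg : g * s * g⁻¹ = t) :
    ∃ n ∈ normalizer ((S : Subgroup G) : Set G), n * s * n⁻¹ = t := by
  haveI : Fact (Nat.Prime 2) := ⟨Nat.prime_two⟩
  have hfix : ∀ {y : G}, y ∈ (S : Subgroup G) → ∀ x ∈ (S : Subgroup G),
      (fun z => x * z * x⁻¹) '' ({y} : Set G) = {y} := fun {y} hy x hx => by
    rw [Set.image_singleton, hc x hx y hy, mul_inv_cancel_right]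
  obtain ⟨n, hn, hns⟩ := Transfer.Fusion.burnside_fusion_set S (hfix hs) (hfix ht) (g := g)
    (by rw [Set.image_singleton, hg])
  rw [Set.image_singleton, Set.singleton_eq_singleton_iff] at hns
  exact ⟨n, hn, hns⟩

theorem AllConj.transitive (h : AllConj G) (S : Sylow 2 G)
    (hc : ∀ a ∈ (S : Subgroup G), ∀ b ∈ (S : Subgroup G), a * b = b * a) {s t : G}
    (hs : s ∈ (S : Subgroup G)) (ht : t ∈ (S : Subgroup G)) (hs2 : orderOf s = 2)
    (ht2 : orderOf t = 2) : ∃ n ∈ normalizer ((S : Subgroup G) : Set G), n * s * n⁻¹ = t := by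
  obtain ⟨g, hg⟩ := isConj_iff.1 (h.isConj_invol hs2 ht2)
  exact exists_normalizer_conj S hc hs ht hg

/-- A Sylow subgroup centralized by its normalizer gives a solvable group. -/
theorem solvable_of_control {K : Type v} [Group K] [Finite K] (S : Sylow 2 K)
    (hc : ∀ a ∈ (S : Subgroup K), ∀ b ∈ (S : Subgroup K), a * b = b * a)
    (hN : normalizer ((S : Subgroup K) : Set K) ≤ centralizer ((S : Subgroup K) : Set K)) :
    Group.IsSolvable K := by
  haveI : Fact (Nat.Prime 2) := ⟨Nat.prime_two⟩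
  have hcompl := MonoidHom.ker_transferSylow_isComplement' S hN
  set N := (MonoidHom.transferSylow S hN).ker with hNdef
  haveI : Group.IsSolvable N := S0205.result (Nat.odd_iff.2 (Nat.two_dvd_ne_zero.1 (by
    rw [← hcompl.index_eq_card]
    exact S.not_dvd_index)))
  haveI : IsMulCommutative (S : Subgroup K) := ⟨⟨fun a b => Subtype.ext (hc _ a.2 _ b.2)⟩⟩
  haveI : Group.IsSolvable (S : Subgroup K) := Group.isSolvable_of_comm fun a b => mul_comm' a b
  exact Group.isSolvable_of_ker_le_range N.subtype (MonoidHom.transferSylow S hN)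
    (by rw [range_subtype, hNdef])

/-- Elements normalizing the image of a Sylow subgroup lift to its normalizer. -/
theorem exists_normalizer_lift {Y : Type v} [Group Y] {p : ℕ} [Fact p.Prime] (f : G →* Y)
    (hf : Function.Surjective f) (S : Sylow p G) {y : Y}
    (hy : y ∈ normalizer ((S : Subgroup G).map f : Set Y)) :
    ∃ n ∈ normalizer ((S : Subgroup G) : Set G), f n = y := by
  obtain ⟨g, rfl⟩ := hf y
  set P := ((S : Subgroup G).map f).comap f with hP
  have hSP : (S : Subgroup G) ≤ P := le_comap_map f _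
  have hgS : ((g • S : Sylow p G) : Subgroup G) ≤ P := by
    intro x hx
    have hx' := Transfer.Fusion.mem_smul_sylow_iff.1 hx
    have h1 := (mem_normalizer_iff.1 hy (f (g⁻¹ * x * g))).1 ⟨_, hx', rfl⟩
    simpa [hP, mul_assoc] using h1
  obtain ⟨k, hkP, hk⟩ := Transfer.Fusion.exists_conj_eq_of_le (P := S) (R := g • S) hSP hgS
  obtain ⟨s, hs, hsk⟩ := hkP
  have hn : k⁻¹ * g ∈ normalizer ((S : Subgroup G) : Set G) :=
    Sylow.smul_eq_iff_mem_normalizer.1 (by
      have hk' : k • S = g • S := Sylow.ext (by rw [Transfer.Fusion.coe_smul_eq_map, hk])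
      rw [mul_smul, ← hk', inv_smul_smul])
  exact ⟨s * (k⁻¹ * g), mul_mem (le_normalizer hs) hn, by rw [map_mul, map_mul, map_inv, hsk, mul_inv_cancel_left]⟩

/-- A transitive action on the nontrivial elements of `M` with fifth powers acting trivially. -/
theorem card_sub_one_of_transitive {M : Subgroup G} (N : Subgroup G)
    (hMN : ∀ n ∈ N, ∀ x ∈ M, n * x * n⁻¹ ∈ M) (h5 : ∀ n ∈ N, ∀ x ∈ M, n ^ 5 * x * (n ^ 5)⁻¹ = x)
    (hne : ∃ x ∈ M, x ≠ 1)
    (htrans : ∀ x ∈ M, ∀ y ∈ M, x ≠ 1 → y ≠ 1 → ∃ n ∈ N, n * x * n⁻¹ = y) :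
    ∃ j : ℕ, Nat.card M = 5 ^ j + 1 := by
  classical
  haveI : Fact (Nat.Prime 5) := ⟨Nat.prime_five⟩
  let act : N →* Equiv.Perm {v : M // v ≠ 1} :=
    { toFun := fun n =>
        { toFun := fun v => ⟨⟨n * v.1.1 * (n : G)⁻¹, hMN n n.2 _ v.1.2⟩, fun e => v.2 (Subtype.ext
            (conj_eq_one_iff.1 (congrArg Subtype.val e)))⟩
          invFun := fun v => ⟨⟨(n : G)⁻¹ * v.1.1 * n, by simpa using hMN _ (inv_mem n.2) _ v.1.2⟩,
            fun e => v.2 (Subtype.ext (by
              have := congrArg Subtype.val e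
              simpa [mul_assoc, inv_mul_eq_iff_eq_mul] using this))⟩
          left_inv := fun v => Subtype.ext (Subtype.ext (by simp [mul_assoc]))
          right_inv := fun v => Subtype.ext (Subtype.ext (by simp [mul_assoc])) }
      map_one' := Equiv.ext fun v => Subtype.ext (Subtype.ext (by simp))
      map_mul' := fun a b => Equiv.ext fun v => Subtype.ext (Subtype.ext (by simp [mul_assoc])) }
  have happ : ∀ (n : N) (v : {v : M // v ≠ 1}), ((act n v).1 : G) = n * v.1.1 * (n : G)⁻¹ := fun _ _ => rfl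
  have hP : IsPGroup 5 act.range := by
    rintro ⟨_, n, rfl⟩
    refine ⟨1, Subtype.ext (Equiv.ext fun v => Subtype.ext (Subtype.ext ?_))⟩
    rw [pow_one, Subgroup.coe_pow, ← map_pow, happ, Subgroup.coe_pow]
    exact h5 n n.2 _ v.1.2
  obtain ⟨x, hx, hx1⟩ := hne
  let v₀ : {v : M // v ≠ 1} := ⟨⟨x, hx⟩, fun e => hx1 (congrArg Subtype.val e)⟩
  obtain ⟨j, hj⟩ := hP.card_orbit v₀
  have horb : MulAction.orbit act.range v₀ = Set.univ := by
    refine Set.eq_univ_of_forall fun v => ?_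
    obtain ⟨n, hn, hnv⟩ := htrans x hx _ v.1.2 hx1 (fun e => v.2 (Subtype.ext e))
    exact ⟨⟨_, ⟨n, hn⟩, rfl⟩, Subtype.ext (Subtype.ext hnv)⟩
  rw [horb, Nat.card_univ] at hj
  refine ⟨j, ?_⟩
  haveI := Fintype.ofFinite M
  have hpos : 0 < Fintype.card M := Fintype.card_pos
  rw [← hj, Nat.card_eq_fintype_card, Nat.card_eq_fintype_card, Fintype.card_subtype_compl,
    Fintype.card_subtype_eq]
  omega

end Cfsg.Agent.EqConjOdd
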