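import Mathlib
import Cfsg.Prelude.Def_Involutions
import Cfsg.Agent.Lib.EqualOrderConj.Main
import Cfsg.Agent.Lib.Cores.Basic
import Cfsg.Agent.Lib.Forms.DicksonShapes

/-!
# Groups in which `p`-subgroups of equal order are conjugate, for every prime `p`

The property and its first consequences.
-/

set_option autoImplicit false
set_option linter.style.haveILetI false
set_option linter.unusedSectionVars false

namespace Cfsg.Agent.EqConjOdd

open Subgroup

universe u

/-- Any two `p`-subgroups of the same order are conjugate, for every prime `p`. -/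
def AllConj (G : Type*) [Group G] : Prop := ∀ p : ℕ, p.Prime → EqualOrderConj.EqConj p G

variable {G : Type u} [Group G] [Finite G]

theorem AllConj.quotient (h : AllConj G) (N : Subgroup G) [N.Normal] : AllConj (G ⧸ N) := by
  intro p hp H K hH hK hcard
  haveI : Fact p.Prime := ⟨hp⟩
  set f := QuotientGroup.mk' N with hf
  have hs : Function.Surjective f := QuotientGroup.mk'_surjective N
  have hlift : ∀ H : Subgroup (G ⧸ N), IsPGroup p H → ∃ P : Sylow p (H.comap f),
      ((P : Subgroup (H.comap f)).map (H.comap f).subtype).map f = H := by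
    intro H hH
    obtain ⟨P⟩ : Nonempty (Sylow p (H.comap f)) := inferInstance
    refine ⟨P, ?_⟩
    set φ : H.comap f →* H := f.subgroupComap H with hφ
    have hφs : Function.Surjective φ := fun y => by
      obtain ⟨x, hx⟩ := hs y
      exact ⟨⟨x, show f x ∈ H by rw [hx]; exact y.2⟩, Subtype.ext hx⟩
    have htop : (P : Subgroup (H.comap f)).map φ = ⊤ := by
      obtain ⟨k, hk⟩ := hH.exists_card_eq
      have h1 := P.not_dvd_index
      have h2 : ((P : Subgroup (H.comap f)).map φ).index ∣ p ^ k := hk ▸ index_dvd_card _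
      have h3 := (P : Subgroup (H.comap f)).index_map_dvd hφs
      obtain ⟨j, -, hj⟩ := (Nat.dvd_prime_pow hp).1 h2
      refine index_eq_one.1 ?_
      rw [hj] at h3 ⊢
      rcases j with - | j
      · rfl
      · exact absurd ((dvd_pow_self p j.succ_ne_zero).trans h3) h1
    rw [map_map, show f.comp (H.comap f).subtype = H.subtype.comp φ from rfl, ← map_map, htop,
      ← MonoidHom.range_eq_map, range_subtype]
  obtain ⟨P, hP⟩ := hlift H hH
  obtain ⟨Q, hQ⟩ := hlift K hK
  have hPQ : Nat.card ((P : Subgroup (H.comap f)).map (H.comap f).subtype) =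
      Nat.card ((Q : Subgroup (K.comap f)).map (K.comap f).subtype) := by
    rw [card_map_of_injective (subtype_injective _), card_map_of_injective (subtype_injective _),
      P.card_eq_multiplicity, Q.card_eq_multiplicity]
    rw [hf, Cores.card_comap_mk', Cores.card_comap_mk', hcard]
  obtain ⟨g, hg⟩ := h p hp _ _ (P.2.map _) (Q.2.map _) hPQ
  refine ⟨f g, ?_⟩
  refine hQ.symm.trans ?_
  rw [hg]
  conv_rhs => arg 2; rw [← hP]
  rw [map_map, map_map _ _ f]
  congr 1

/-- Sylow subgroups for odd primes are abelian. -/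
theorem AllConj.sylow_comm (h : AllConj G) {r : ℕ} [hr : Fact r.Prime] (hr2 : r ≠ 2) (P : Sylow r G) :
    ∀ a ∈ (P : Subgroup G), ∀ b ∈ (P : Subgroup G), a * b = b * a := by
  have hcomm : IsMulCommutative (P : Subgroup G) := by
    rcases EqualOrderConj.main h P with hc | he | ⟨⟨e⟩⟩
    · haveI := hc; infer_instance
    · exact he.1
    · exfalso
      obtain ⟨k, hk⟩ := P.2.exists_card_eq
      rw [Nat.card_congr e.toEquiv, Nat.card_eq_fintype_card, QuaternionGroup.card] at hk
      rcases k with - | k
      · simp at hk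
      · have h8 : r ∣ 2 ^ 3 := ⟨r ^ k, by rw [← pow_succ']; norm_num at hk ⊢; exact hk⟩
        exact hr2 ((Nat.prime_dvd_prime_iff_eq hr.out Nat.prime_two).1 (hr.out.dvd_of_dvd_pow h8))
  exact fun a ha b hb => congrArg Subtype.val (hcomm.is_comm.comm ⟨a, ha⟩ ⟨b, hb⟩)

theorem AllConj.comm_of_isPGroup (h : AllConj G) {r : ℕ} [hr : Fact r.Prime] (hr2 : r ≠ 2)
    {Q : Subgroup G} (hQ : IsPGroup r Q) {a b : G} (ha : a ∈ Q) (hb : b ∈ Q) : a * b = b * a := by
  obtain ⟨P, hP⟩ := hQ.exists_le_sylow
  exact h.sylow_comm hr2 P a (hP ha) b (hP hb)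

/-- An element of prime order can be moved into the group generated by another one. -/
theorem AllConj.exists_conj_mem (h : AllConj G) {r : ℕ} (hr : r.Prime) {x y : G} (hx : orderOf x = r)
    (hy : orderOf y = r) : ∃ g : G, g * x * g⁻¹ ∈ zpowers y ∧
      (zpowers x).map (MulAut.conj g).toMonoidHom = zpowers y := by
  haveI : Fact r.Prime := ⟨hr⟩
  obtain ⟨g, hg⟩ := h r hr (zpowers x) (zpowers y)
    (IsPGroup.of_card (n := 1) (by rw [Nat.card_zpowers, hx, pow_one]))
    (IsPGroup.of_card (n := 1) (by rw [Nat.card_zpowers, hy, pow_one]))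
    (by rw [Nat.card_zpowers, Nat.card_zpowers, hx, hy])
  exact ⟨g, hg ▸ ⟨x, mem_zpowers x, rfl⟩, hg.symm⟩

omit [Finite G] in
theorem centralizer_singleton_eq (x : G) :
    centralizer ({x} : Set G) = centralizer ((zpowers x : Subgroup G) : Set G) := by
  rw [zpowers_eq_closure, centralizer_closure]

/-- Elements of the same prime order have centralizers of the same order. -/
theorem AllConj.card_centralizer_eq (h : AllConj G) {r : ℕ} (hr : r.Prime) {x y : G}
    (hx : orderOf x = r) (hy : orderOf y = r) :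
    Nat.card (centralizer ({x} : Set G)) = Nat.card (centralizer ({y} : Set G)) := by
  obtain ⟨g, -, hg⟩ := h.exists_conj_mem hr hx hy
  rw [centralizer_singleton_eq x, centralizer_singleton_eq y, ← hg]
  refine Nat.card_congr (Equiv.subtypeEquiv (MulAut.conj g).toEquiv fun z => ?_)
  simp only [mem_centralizer_iff, SetLike.mem_coe, coe_map, Set.mem_image, forall_exists_index, and_imp,
    forall_apply_eq_imp_iff₂]
  refine forall₂_congr fun w _ => ?_
  constructor
  · intro e
    simpa using congrArg (MulAut.conj g) e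
  · intro e
    exact (MulAut.conj g).injective (by simpa using e)

/-- All involutions are conjugate. -/
theorem AllConj.isConj_invol (h : AllConj G) {s t : G} (hs : orderOf s = 2) (ht : orderOf t = 2) :
    IsConj s t := by
  obtain ⟨g, hg, -⟩ := h.exists_conj_mem Nat.prime_two hs ht
  obtain ⟨k, hk⟩ := mem_zpowers_iff.1 hg
  refine isConj_iff.2 ⟨g, ?_⟩
  have ht2 : t ^ (2 : ℤ) = 1 := by
    rw [show ((2 : ℤ)) = ((2 : ℕ) : ℤ) from rfl, zpow_natCast, ← ht]; exact pow_orderOf_eq_one t
  rcases Int.even_or_odd' k with ⟨j, rfl | rfl⟩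
  · rw [zpow_mul, ht2, one_zpow] at hk
    have := conj_eq_one_iff.1 hk.symm
    rw [this, orderOf_one] at hs
    omega
  · rwa [zpow_add, zpow_mul, ht2, one_zpow, one_mul, zpow_one, eq_comm] at hk

/-- A central element of an abelian Sylow subgroup lying in the derived group is trivial. -/
theorem eq_one_of_central {H : Type*} [Group H] [Finite H] {r : ℕ} [Fact r.Prime] (P : Sylow r H)
    (hc : ∀ a ∈ (P : Subgroup H), ∀ b ∈ (P : Subgroup H), a * b = b * a) {x : H}
    (hxP : x ∈ (P : Subgroup H)) (hxz : x ∈ center H) (hxd : x ∈ _root_.commutator H) : x = 1 := by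
  haveI : IsMulCommutative (P : Subgroup H) := ⟨⟨fun a b => Subtype.ext (hc _ a.2 _ b.2)⟩⟩
  open scoped IsMulCommutative in
  let V : H →* (P : Subgroup H) := MonoidHom.transfer (MonoidHom.id (P : Subgroup H))
  have hV : V x = 1 := by
    open scoped IsMulCommutative in
    exact Abelianization.commutator_subset_ker V hxd
  have key : ∀ (k : ℕ) (g₀ : H), g₀⁻¹ * x ^ k * g₀ ∈ (P : Subgroup H) → g₀⁻¹ * x ^ k * g₀ = x ^ k := by
    intro k g₀ _
    rw [mul_assoc, ← mem_center_iff.1 (pow_mem hxz k) g₀, inv_mul_cancel_left]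
  open scoped IsMulCommutative in
  rw [MonoidHom.transfer_eq_pow (MonoidHom.id (P : Subgroup H)) x key] at hV
  have h2 : x ^ (P : Subgroup H).index = 1 := congrArg Subtype.val hV
  obtain ⟨k, hk⟩ := P.2 ⟨x, hxP⟩
  have hk' : x ^ r ^ k = 1 := congrArg Subtype.val hk
  have hcop : ((P : Subgroup H).index).Coprime (r ^ k) :=
    Nat.Coprime.pow_right k (((Fact.out : r.Prime).coprime_iff_not_dvd.2 P.not_dvd_index).symm)
  exact orderOf_eq_one_iff.1 (Nat.eq_one_of_dvd_coprimes hcop (orderOf_dvd_of_pow_eq_one h2)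
    (orderOf_dvd_of_pow_eq_one hk'))

end Cfsg.Agent.EqConjOdd
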