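import Cfsg.Agent.Lib.EqConjOdd.Basic
import Cfsg.Agent.Lib.EqConjOdd.PSLLocal
import Cfsg.Agent.Lib.GW.ConsFull
import Cfsg.Agent.Lib.Classical.GL2
import Cfsg.Agent.S0813

/-!
# Groups over `PSL₂(q)` fusing the subgroups of order `p²` of a unipotent subgroup

The degree is at most four, and outer elements may be taken centralizing a four-group.
-/

set_option autoImplicit false
set_option linter.style.haveILetI false
set_option linter.unusedSectionVars false

namespace Cfsg.Agent.EqConjOdd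

open Subgroup

universe u

variable {X : Type u} [Group X] [Finite X] {L : Subgroup X}

theorem arith {p f : ℕ} (hp : 3 ≤ p) (hf : 5 ≤ f) : f * p ^ 4 < 2 * (p ^ f - p) := by
  obtain ⟨k, rfl⟩ := Nat.exists_eq_add_of_le hf
  have hk : 5 + k ≤ 5 * 3 ^ k := by
    induction k with
    | zero => norm_num
    | succ k ih =>
      have := Nat.one_le_pow k 3 (by norm_num)
      rw [pow_succ]
      omega
  have h1 : (5 + k) * p ^ 4 ≤ 5 * p ^ k * p ^ 4 :=
    Nat.mul_le_mul_right _ (hk.trans (Nat.mul_le_mul_left 5 (Nat.pow_le_pow_left hp k)))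
  have h2 : p ^ (5 + k) = p * (p ^ k * p ^ 4) := by ring
  have h3 : 3 * (p ^ k * p ^ 4) ≤ p * (p ^ k * p ^ 4) := Nat.mul_le_mul_right _ hp
  have h5 : 3 * p ≤ p ^ k * p ^ 4 := by
    have := Nat.one_le_pow k p (by omega)
    calc 3 * p ≤ p * p := Nat.mul_le_mul_right _ hp
      _ ≤ p ^ 4 := by rw [← pow_two]; exact Nat.pow_le_pow_right (by omega) (by norm_num)
      _ ≤ _ := Nat.le_mul_of_pos_left _ this
  have h4 : 5 * p ^ k * p ^ 4 = 5 * (p ^ k * p ^ 4) := by ring
  rw [h2]
  rw [h4] at h1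
  omega

theorem card_pairs {α : Type*} [Fintype α] [DecidableEq α] (one : α) (Z : α → Finset α) {q p : ℕ}
    (hq : Fintype.card α = q) (hZ : ∀ a, a ≠ one → (Z a).card = p) :
    (Finset.univ.filter fun ab : α × α => ab.1 ≠ one ∧ ab.2 ∉ Z ab.1).card = (q - 1) * (q - p) := by
  have h : ∀ a, (Finset.univ.filter fun b : α => a ≠ one ∧ b ∉ Z a).card = if a ≠ one then q - p else 0 := by
    intro a
    by_cases ha : a ≠ one
    · rw [if_pos ha]
      have : (Finset.univ.filter fun b : α => a ≠ one ∧ b ∉ Z a) = Finset.univ \ Z a := by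
        ext b; simp [ha]
      rw [this, Finset.card_sdiff, Finset.inter_univ, Finset.card_univ, hq, hZ a ha]
    · rw [if_neg ha]; simp [ha]
  calc _ = ∑ a : α, (Finset.univ.filter fun b : α => a ≠ one ∧ b ∉ Z a).card := by
        rw [Finset.card_filter]
        simp only [Finset.card_filter]
        exact Fintype.sum_prod_type _
    _ = _ := by
        simp only [h]
        rw [Finset.sum_ite, Finset.sum_const, Finset.sum_const_zero, add_zero, smul_eq_mul]
        congr 1
        rw [Finset.filter_ne', Finset.card_erase_of_mem (Finset.mem_univ _), Finset.card_univ, hq]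

/-- The degree is small when subgroups of order `p²` of `L` are fused. -/
theorem degree_lt_five [L.Normal] {p f : ℕ} [hp : Fact p.Prime] (hp3 : 3 ≤ p)
    (hL : LFacts L (p ^ f) p) (hidx : L.index ∣ f)
    (hconj : ∀ A B : Subgroup X, A ≤ L → B ≤ L → Nat.card A = p ^ 2 → Nat.card B = p ^ 2 →
      ∃ g : X, A.map (MulAut.conj g).toMonoidHom = B) : f < 5 := by
  classical
  by_contra hf5
  push Not at hf5
  obtain ⟨U₀, hUq, hexp, hcomm, hcen, -, hN⟩ := hL.unipotent
  set U := U₀.map L.subtype with hU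
  have hUL : U ≤ L := map_subtype_le _
  have hUcard : Nat.card U = p ^ f := by rw [hU, card_map_of_injective L.subtype_injective, hUq]
  have hUexp : ∀ x ∈ U, x ^ p = 1 := by
    rintro _ ⟨x, hx, rfl⟩; rw [← map_pow, hexp x hx, map_one]
  have hUcomm : ∀ x ∈ U, ∀ y ∈ U, x * y = y * x := by
    rintro _ ⟨x, hx, rfl⟩ _ ⟨y, hy, rfl⟩; rw [← map_mul, hcomm x hx y hy, map_mul]
  have hUcen : ∀ x ∈ U, x ≠ 1 → ∀ g ∈ L, Commute g x → g ∈ U := by
    rintro _ ⟨x, hx, rfl⟩ h1 g hg hc
    exact ⟨⟨g, hg⟩, hcen x hx (fun e => h1 (by rw [e, map_one])) ⟨g, hg⟩ (Subtype.ext hc.eq), rfl⟩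
  set N := normalizer (U : Set X) with hNdef
  have hnorm : ∀ g : X, ∀ a ∈ U, a ≠ 1 → g * a * g⁻¹ ∈ U → g ∈ N := by
    intro g a ha ha1 hga
    refine EqualOrderConj.mem_normalizer_of_conj_mem fun b hb => ?_
    refine hUcen _ hga (fun e => ha1 (conj_eq_one_iff.1 e)) _
      ((inferInstance : L.Normal).conj_mem b (hUL hb) g) ?_
    show g * b * g⁻¹ * (g * a * g⁻¹) = g * a * g⁻¹ * (g * b * g⁻¹)
    rw [conj_mul, conj_mul, hUcomm b hb a ha]
  have hUN : U ≤ N := le_normalizer
  have hNL : Nat.card (L.subgroupOf N) = Nat.card (normalizer (U₀ : Set L)) := by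
    refine Nat.card_congr
      { toFun := fun x => ⟨⟨x.1.1, x.2⟩, EqualOrderConj.mem_normalizer_of_conj_mem fun a ha => ?_⟩
        invFun := fun x => ⟨⟨x.1.1, EqualOrderConj.mem_normalizer_of_conj_mem ?_⟩, x.1.2⟩
        left_inv := fun _ => rfl
        right_inv := fun _ => rfl }
    · obtain ⟨b, hb, hbe⟩ := (mem_normalizer_iff.1 x.1.2 (a : X)).1 ⟨a, ha, rfl⟩
      exact (Subtype.ext hbe : b = ⟨x.1.1, x.2⟩ * a * ⟨x.1.1, x.2⟩⁻¹) ▸ hb
    · rintro _ ⟨a, ha, rfl⟩
      exact ⟨_, (mem_normalizer_iff.1 x.2 a).1 ha, rfl⟩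
  have hNcard : 2 * Nat.card N ≤ f * (p ^ f * (p ^ f - 1)) := by
    rw [← (L.subgroupOf N).card_mul_index, ← mul_assoc, hNL, hN, mul_comm f]
    exact Nat.mul_le_mul_left _
      (Nat.le_of_dvd (by omega) ((L.relIndex_dvd_index_of_normal N).trans hidx))
  -- the pairs generating subgroups of order `p²`
  haveI := Fintype.ofFinite U
  haveI := Fintype.ofFinite (N ⧸ U.subgroupOf N)
  have hord : ∀ a : U, a ≠ 1 → orderOf (a : X) = p := fun a ha =>
    orderOf_eq_prime (hUexp _ a.2) fun e => ha (Subtype.ext e)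
  let Z : U → Finset U := fun a => Finset.univ.filter fun b => (b : X) ∈ zpowers (a : X)
  have hZ : ∀ a, a ≠ 1 → (Z a).card = p := by
    intro a ha
    rw [← hord a ha, ← Nat.card_zpowers, ← Nat.card_eq_finsetCard]
    exact Nat.card_congr
      { toFun := fun b => ⟨(b.1 : X), (Finset.mem_filter.1 b.2).2⟩
        invFun := fun b => ⟨⟨b.1, zpowers_le.2 a.2 b.2⟩, Finset.mem_filter.2 ⟨Finset.mem_univ _, b.2⟩⟩
        left_inv := fun _ => rfl
        right_inv := fun _ => rfl }
  have hUfin : Fintype.card U = p ^ f := by rw [← Nat.card_eq_fintype_card, hUcard]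
  set P := Finset.univ.filter fun ab : U × U => ab.1 ≠ 1 ∧ ab.2 ∉ Z ab.1 with hP
  have hPcard : P.card = (p ^ f - 1) * (p ^ f - p) := card_pairs 1 Z hUfin hZ
  have hdata : ∀ ab ∈ P, Nat.card ↥(zpowers (ab.1 : X) ⊔ zpowers (ab.2 : X)) = p ^ 2 := by
    rintro ⟨a, b⟩ hab
    obtain ⟨-, ha, hb⟩ := Finset.mem_filter.1 hab
    exact (EqualOrderConj.pair_data (hUexp _ a.2) (fun e => ha (Subtype.ext e)) (hUexp _ b.2)
      (fun e => hb (Finset.mem_filter.2 ⟨Finset.mem_univ _, e⟩)) (hUcomm _ b.2 _ a.2)).1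
  have h1p : p < p ^ f := lt_self_pow₀ (by omega) (by omega)
  obtain ⟨⟨a0, b0⟩, h0⟩ : P.Nonempty := by
    rw [← Finset.card_pos, hPcard]
    exact Nat.mul_pos (by omega) (by omega)
  have hA0 : Nat.card ↥(zpowers (a0 : X) ⊔ zpowers (b0 : X)) = p ^ 2 := hdata (a0, b0) h0
  set A := zpowers (a0 : X) ⊔ zpowers (b0 : X) with hA
  have hleU : ∀ a b : U, zpowers (a : X) ⊔ zpowers (b : X) ≤ U := fun a b =>
    sup_le (zpowers_le.2 a.2) (zpowers_le.2 b.2)
  haveI := Fintype.ofFinite A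
  have hAcard : Fintype.card A = p ^ 2 := Nat.card_eq_fintype_card.symm.trans hA0
  -- the map from representatives
  have hout : ∀ (m : N ⧸ U.subgroupOf N) (a : A), ((m.out : N) : X) * a * ((m.out : N) : X)⁻¹ ∈ U :=
    fun m a => (mem_normalizer_iff.1 m.out.2 _).1 (hleU a0 b0 a.2)
  let Φ : (N ⧸ U.subgroupOf N) × A × A → U × U := fun x =>
    (⟨_, hout x.1 x.2.1⟩, ⟨_, hout x.1 x.2.2⟩)
  have hsub : P ⊆ Finset.univ.image Φ := by
    rintro ⟨a, b⟩ hab
    obtain ⟨g, hg⟩ := hconj A (zpowers (a : X) ⊔ zpowers (b : X)) ((hleU a0 b0).trans hUL)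
      ((hleU a b).trans hUL) hA0 (hdata (a, b) hab)
    have ha0 : (a0 : X) ∈ A := mem_sup_left (mem_zpowers _)
    have hgN : g ∈ N := hnorm g a0 a0.2 (fun e => (Finset.mem_filter.1 h0).2.1 (Subtype.ext e))
      (hleU a b (hg ▸ ⟨_, ha0, rfl⟩))
    obtain ⟨u, hu⟩ := QuotientGroup.mk_out_eq_mul (U.subgroupOf N) ⟨g, hgN⟩
    have hget : ∀ c : X, c ∈ zpowers (a : X) ⊔ zpowers (b : X) → ∃ d : A,
        ((((⟨g, hgN⟩ : N) : N ⧸ U.subgroupOf N).out : N) : X) * d *
          ((((⟨g, hgN⟩ : N) : N ⧸ U.subgroupOf N).out : N) : X)⁻¹ = c := by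
      intro c hc
      obtain ⟨d, hd, rfl⟩ := hg.ge hc
      refine ⟨⟨d, hd⟩, ?_⟩
      rw [hu, Subgroup.coe_mul]
      have he : (u : N).1 * d = d * (u : N).1 := hUcomm _ u.2 _ (hleU a0 b0 hd)
      simp only [mul_inv_rev, MulEquiv.coe_toMonoidHom, MulAut.conj_apply]
      rw [mul_assoc g, he]
      group
    obtain ⟨da, hda⟩ := hget a (mem_sup_left (mem_zpowers _))
    obtain ⟨db, hdb⟩ := hget b (mem_sup_right (mem_zpowers _))
    exact Finset.mem_image.2 ⟨(((⟨g, hgN⟩ : N) : N ⧸ U.subgroupOf N), da, db), Finset.mem_univ _,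
      Prod.ext (Subtype.ext hda) (Subtype.ext hdb)⟩
  have hle := (Finset.card_le_card hsub).trans Finset.card_image_le
  rw [hPcard, Finset.card_univ, Fintype.card_prod, Fintype.card_prod, hAcard] at hle
  set i := Fintype.card (N ⧸ U.subgroupOf N) with hi
  have hiq : p ^ f * i = Nat.card N := by
    rw [← (U.subgroupOf N).card_mul_index, Nat.card_congr (subgroupOfEquivOfLe hUN).toEquiv, hUcard,
      hi, index_eq_card, Nat.card_eq_fintype_card]
  rw [← hiq] at hNcard
  have hi2 : 2 * i ≤ f * (p ^ f - 1) := by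
    refine Nat.le_of_mul_le_mul_left (?_ : p ^ f * (2 * i) ≤ p ^ f * (f * (p ^ f - 1))) (by omega)
    linarith [hNcard]
  have hmain : 2 * (p ^ f - p) ≤ f * p ^ 4 := by
    refine Nat.le_of_mul_le_mul_left
      (?_ : (p ^ f - 1) * (2 * (p ^ f - p)) ≤ (p ^ f - 1) * (f * p ^ 4)) (by omega)
    calc (p ^ f - 1) * (2 * (p ^ f - p)) ≤ 2 * (i * (p ^ 2 * p ^ 2)) := by linarith [hle]
      _ = (2 * i) * p ^ 4 := by ring
      _ ≤ f * (p ^ f - 1) * p ^ 4 := Nat.mul_le_mul_right _ hi2
      _ = _ := by ring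
  exact absurd hmain (not_le.2 (arith hp3 hf5))

/-- The odd index of `PSL₂(p^f)` divides `f`. -/
theorem index_dvd [L.Normal] (hC : centralizer (L : Set X) = ⊥) (hodd : Odd L.index)
    {F : Type} [Field F] [Fintype F] {p f : ℕ} [Fact p.Prime] (hf : 1 ≤ f)
    (hF : Fintype.card F = p ^ f) (h3 : 3 < Fintype.card F) (hp2 : p ≠ 2)
    (e : L ≃* Matrix.ProjectiveSpecialLinearGroup (Fin 2) F) : L.index ∣ f := by
  have hd : Nat.card X ∣ Nat.card (MulAut L) :=
    card_dvd_of_injective _ (GW.Cons.conjNormal_injective hC)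
  rw [Nat.card_congr (MulAut.congr e).toEquiv,
    S0813.result (F := F) p f hf hF 2 le_rfl (fun _ => by omega), if_pos rfl, one_mul] at hd
  have hoddq : Odd (Fintype.card F) := by
    rw [hF]; exact ((Fact.out : p.Prime).odd_of_ne_two hp2).pow
  have h2 : Nat.gcd 2 (Fintype.card F - 1) = 2 :=
    Nat.gcd_eq_left (Nat.dvd_of_mod_eq_zero (by have := Nat.odd_iff.1 hoddq; omega))
  have hG : Nat.card (Matrix.ProjGenLinGroup (Fin 2) F) = 2 * Nat.card L := by
    rw [Classical.Linear.natCard_PGL, Classical.GL2.natCard_SL_two, Nat.card_congr e.toEquiv]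
    have h := PSLOrderSpectrum.card_psl_two (F := F)
    rw [h2] at h
    exact h.symm
  rw [hG, ← L.card_mul_index] at hd
  have h3' : L.index ∣ 2 * f := by
    refine Nat.dvd_of_mul_dvd_mul_left (k := Nat.card L) Nat.card_pos ?_
    rwa [show Nat.card L * (2 * f) = f * (2 * Nat.card L) by ring]
  exact (Nat.coprime_two_right.2 hodd).dvd_of_dvd_mul_left h3'

/-- The quotient by `L` is covered by the centralizer of a four-group of `L`. -/
theorem exists_central_outer [hLn : L.Normal] {q p : ℕ} (hL : LFacts L q p) (hodd : Odd L.index)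
    {a b : X} (haL : a ∈ L) (hbL : b ∈ L) (ha : orderOf a = 2) (hb : orderOf b = 2)
    (hab : Commute a b) (hne : a ≠ b) {r : ℕ} [hr : Fact r.Prime] (hrL : r ∣ L.index) :
    ∃ w : X, orderOf w = r ∧ Commute w a ∧ Commute w b ∧ w ∉ L := by
  haveI : Fact (Nat.Prime 2) := ⟨Nat.prime_two⟩
  have hr2 : r ≠ 2 := by
    rintro rfl
    exact absurd hrL (Nat.two_dvd_ne_zero.2 (Nat.odd_iff.1 hodd))
  have ha1 : a ≠ 1 := fun e => by rw [e, orderOf_one] at ha; omega
  have hb1 : b ≠ 1 := fun e => by rw [e, orderOf_one] at hb; omega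
  have hb2 : b ^ 2 = 1 := by rw [← hb]; exact pow_orderOf_eq_one b
  have ha2 : a ^ 2 = 1 := by rw [← ha]; exact pow_orderOf_eq_one a
  have hbz : b ∉ zpowers a := by
    intro h
    obtain ⟨k, hk⟩ := mem_zpowers_iff.1 h
    rcases Int.even_or_odd' k with ⟨j, rfl | rfl⟩
    · rw [zpow_mul, zpow_two, ← pow_two, ha2, one_zpow] at hk
      exact hb1 hk.symm
    · rw [zpow_add, zpow_mul, zpow_two, ← pow_two, ha2, one_zpow, one_mul, zpow_one] at hk
      exact hne hk
  set V := zpowers a ⊔ zpowers b with hV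
  obtain ⟨hVcard, -, hVexp⟩ := EqualOrderConj.pair_data (p := 2) ha2 ha1 hb2 hbz hab.symm.eq
  have hVL : V ≤ L := sup_le (zpowers_le.2 haL) (zpowers_le.2 hbL)
  have haV : a ∈ V := mem_sup_left (mem_zpowers a)
  have hbV : b ∈ V := mem_sup_right (mem_zpowers b)
  have hmem : ∀ x ∈ V, x ≠ 1 → x = a ∨ x = b ∨ x = a * b := by
    classical
    intro x hx hx1
    haveI := Fintype.ofFinite V
    have hne' : a * b ≠ 1 := fun e => hne (by rw [← mul_one a, ← hb2, pow_two, ← mul_assoc, e, one_mul])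
    have hinj : Function.Injective (Subtype.val : V → X) := Subtype.val_injective
    have hsub : ({1, a, b, a * b} : Finset X) ⊆ Finset.univ.image (Subtype.val : V → X) := by
      intro y hy
      simp only [Finset.mem_insert, Finset.mem_singleton] at hy
      rw [Finset.mem_image]
      rcases hy with rfl | rfl | rfl | rfl
      exacts [⟨⟨_, one_mem V⟩, Finset.mem_univ _, rfl⟩, ⟨⟨_, haV⟩, Finset.mem_univ _, rfl⟩,
        ⟨⟨_, hbV⟩, Finset.mem_univ _, rfl⟩, ⟨⟨_, mul_mem haV hbV⟩, Finset.mem_univ _, rfl⟩]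
    have heq := Finset.eq_of_subset_of_card_le hsub (by
      rw [Finset.card_image_of_injective _ hinj, Finset.card_univ, ← Nat.card_eq_fintype_card, hVcard]
      rw [Finset.card_insert_of_notMem, Finset.card_insert_of_notMem, Finset.card_pair]
      · norm_num
      · exact fun e => ha1 (by simpa using e.symm)
      · simp only [Finset.mem_insert, Finset.mem_singleton]; push Not
        exact ⟨hne, fun e => hb1 (by simpa using e.symm)⟩
      · simp only [Finset.mem_insert, Finset.mem_singleton]; push Not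
        exact ⟨Ne.symm ha1, Ne.symm hb1, Ne.symm hne'⟩)
    have hxm : x ∈ ({1, a, b, a * b} : Finset X) :=
      heq ▸ Finset.mem_image.2 ⟨⟨x, hx⟩, Finset.mem_univ _, rfl⟩
    simp only [Finset.mem_insert, Finset.mem_singleton] at hxm
    exact hxm.resolve_left hx1
  -- a Sylow subgroup of `L`
  let T : Sylow 2 L := Sylow.ofCard (V.subgroupOf L) (by
    rw [Nat.card_congr (subgroupOfEquivOfLe hVL).toEquiv, hVcard]
    congr 1
    refine le_antisymm ((Nat.prime_two.pow_dvd_iff_le_factorization Nat.card_pos.ne').1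
      (hVcard ▸ card_dvd_of_le hVL)) (Nat.le_of_not_lt fun h3 => ?_)
    exact not_eight_dvd hL.q_mod hL.card
      ((Nat.prime_two.pow_dvd_iff_le_factorization Nat.card_pos.ne').2 h3))
  have hF : normalizer ((T : Subgroup L).map L.subtype : Set X) ⊔ L = ⊤ := Sylow.normalizer_sup_eq_top T
  have hTV : (T : Subgroup L).map L.subtype = V := by
    rw [Sylow.coe_ofCard, subgroupOf_map_subtype, inf_eq_left.2 hVL]
  rw [hTV] at hF
  set C := centralizer (V : Set X) with hC
  -- squares are covered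
  have hcover : ∀ g : X, ∃ c ∈ C, c⁻¹ * g ^ 2 ∈ L := by
    intro g
    obtain ⟨w, hwo, hw1, hw2⟩ := hL.rot ⟨a, haL⟩ ⟨b, hbL⟩ (by rwa [← Subgroup.orderOf_coe])
      (by rwa [← Subgroup.orderOf_coe]) (Subtype.ext hab.eq) (fun e => hne (congrArg Subtype.val e))
    have hwa : (w : X) * a * (w : X)⁻¹ = b := congrArg Subtype.val hw1
    have hwb : (w : X) * b * (w : X)⁻¹ = a * b := congrArg Subtype.val hw2
    have hwab : (w : X) * (a * b) * (w : X)⁻¹ = a := by
      rw [← conj_mul, hwa, hwb, ← mul_assoc, ← hab.eq, mul_assoc, ← pow_two, hb2, mul_one]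
    obtain ⟨n, hn, l, hl, rfl⟩ := (Coprime.mem_sup_of_le_normalizer
      (N := L) (H := normalizer (V : Set X)) (by rw [L.normalizer_eq_top]; exact le_top)
      (x := g)).1 (by rw [sup_comm, hF]; exact mem_top g)
    have hwN : (w : X) ∈ normalizer (V : Set X) := by
      refine EqualOrderConj.mem_normalizer_of_conj_mem fun x hx => ?_
      by_cases hx1 : x = 1
      · rw [hx1, mul_one, mul_inv_cancel]; exact one_mem V
      rcases hmem x hx hx1 with e | e | e <;> rw [e]
      · rw [hwa]; exact hbV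
      · rw [hwb]; exact mul_mem haV hbV
      · rw [hwab]; exact haV
    have hna := (mem_normalizer_iff.1 hl a).1 haV
    obtain ⟨m, hmL, hmN, hma⟩ : ∃ m ∈ L, m ∈ normalizer (V : Set X) ∧ m * (l * a * l⁻¹) * m⁻¹ = a := by
      rcases hmem _ hna (fun e => ha1 (conj_eq_one_iff.1 e)) with e | e | e <;> rw [e]
      · exact ⟨1, one_mem L, one_mem _, by group⟩
      · refine ⟨(w : X) * w, mul_mem w.2 w.2, mul_mem hwN hwN, ?_⟩
        calc (w : X) * w * b * ((w : X) * w)⁻¹ = (w : X) * ((w : X) * b * (w : X)⁻¹) * (w : X)⁻¹ := by group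
          _ = a := by rw [hwb, hwab]
      · exact ⟨w, w.2, hwN, hwab⟩
    set x := m * l with hx
    have hxN : x ∈ normalizer (V : Set X) := mul_mem hmN hl
    have hxa : x * a * x⁻¹ = a := by
      conv_rhs => rw [← hma]
      rw [hx]; group
    have hxb : x * (x * b * x⁻¹) * x⁻¹ = b := by
      rcases hmem _ ((mem_normalizer_iff.1 hxN b).1 hbV) (fun e => hb1 (conj_eq_one_iff.1 e)) with e | e | e
      · exact absurd (mul_left_cancel (mul_right_cancel (e.trans hxa.symm))) (Ne.symm hne)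
      · rw [e, e]
      · rw [e, ← conj_mul, hxa, e, ← mul_assoc, ← pow_two, ha2, one_mul]
    refine ⟨x ^ 2, ?_, ?_⟩
    · refine mem_centralizer_iff.2 fun y hy => ?_
      have hV' : V ≤ centralizer ({x ^ 2} : Set X) := by
        refine sup_le (zpowers_le.2 ?_) (zpowers_le.2 ?_) <;> rw [mem_centralizer_singleton_iff]
        · exact (((show Commute x a from mul_inv_eq_iff_eq_mul.1 hxa).pow_left 2)).symm.eq
        · refine (mul_inv_eq_iff_eq_mul.1 (?_ : x ^ 2 * b * (x ^ 2)⁻¹ = b)).symm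
          conv_rhs => rw [← hxb]
          rw [pow_two]; group
      exact mem_centralizer_singleton_iff.1 (hV' hy)
    · rw [← QuotientGroup.eq, QuotientGroup.mk_pow, QuotientGroup.mk_pow]
      congr 1
      rw [hx, QuotientGroup.mk_mul, QuotientGroup.mk_mul,
        (QuotientGroup.eq_one_iff (N := L) m).2 hmL, (QuotientGroup.eq_one_iff (N := L) n).2 hn]
  let π : C →* X ⧸ L := (QuotientGroup.mk' L).comp C.subtype
  have hπ : Function.Surjective π := by
    intro y
    obtain ⟨y', rfl⟩ := (powCoprime (G := X ⧸ L) (n := 2) (by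
      rw [← index_eq_card]; exact Nat.coprime_two_right.2 hodd)).surjective y
    obtain ⟨g, rfl⟩ := QuotientGroup.mk'_surjective L y'
    obtain ⟨c, hc, hcg⟩ := hcover g
    exact ⟨⟨c, hc⟩, (QuotientGroup.eq.2 hcg).trans rfl⟩
  have hrC : r ∣ Nat.card C := hrL.trans (by rw [index_eq_card]; exact card_dvd_of_surjective π hπ)
  obtain ⟨w, hw⟩ := exists_prime_orderOf_dvd_card' (G := C) r hrC
  have hwo : orderOf (w : X) = r := by rw [Subgroup.orderOf_coe, hw]
  have hwa : Commute (w : X) a := (mem_centralizer_iff.1 w.2 a haV).symm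
  have hwb : Commute (w : X) b := (mem_centralizer_iff.1 w.2 b hbV).symm
  refine ⟨w, hwo, hwa, hwb, fun hwL => ?_⟩
  have h1 := hL.fixfree ⟨a, haL⟩ ⟨b, hbL⟩ ⟨w, hwL⟩ (by rwa [← Subgroup.orderOf_coe])
    (by rwa [← Subgroup.orderOf_coe]) (Subtype.ext hab.eq) (fun e => hne (congrArg Subtype.val e))
    (by rw [← Subgroup.orderOf_coe]; exact hwo ▸ hr.out.odd_of_ne_two hr2) (Subtype.ext hwa.eq)
    (Subtype.ext hwb.eq)
  have h2 : (w : X) = 1 := congrArg Subtype.val h1
  rw [h2, orderOf_one] at hwo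
  exact hr.out.one_lt.ne hwo

end Cfsg.Agent.EqConjOdd
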