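import Cfsg.Agent.Lib.EqConjOdd.Tools
import Cfsg.Agent.Lib.EqConjOdd.Degree
import Cfsg.Agent.Lib.EqConjOdd.Cyc
import Cfsg.Agent.Lib.EqConjOdd.FourCase
import Cfsg.Agent.Lib.ZStar.CentralWeaklyClosed
import Cfsg.Agent.Lib.GW.ConsFull
import Cfsg.Agent.Lib.GW.MainFinal

/-!
# An insoluble centralizer of an involution

Its quotient by the odd core and the involution lies over some `PSL₂(q)`; the primes of
`|PSL₂(q)|` do not divide the order of its odd core.
-/

set_option autoImplicit false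
set_option linter.style.haveILetI false
set_option linter.unusedSectionVars false

namespace Cfsg.Agent.EqConjOdd

open Subgroup
open scoped commutatorElement

universe u v

variable {G : Type u} [Group G] [Finite G]

/-- A map of the centralizer of `t` onto a group over `PSL₂(q)`, with kernel `O(C(t))⟨t⟩`. -/
structure Cover (t : G) {X : Type v} [Group X] (L : Subgroup X)
    (π : ↥(centralizer ({t} : Set G)) →* X) (q p : ℕ) : Prop where
  surj : Function.Surjective π
  normal : L.Normal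
  lfacts : LFacts L q p
  odd_index : Odd L.index
  self : π ⟨t, mem_centralizer_singleton_iff.2 rfl⟩ = 1
  core : Cfsg.oddCore ↥(centralizer ({t} : Set G)) ≤ π.ker
  ker : ∀ c, π c = 1 → c ∈ Cfsg.oddCore ↥(centralizer ({t} : Set G)) ∨
    c * ⟨t, mem_centralizer_singleton_iff.2 rfl⟩ ∈ Cfsg.oddCore ↥(centralizer ({t} : Set G))

/-- The property defining an elementary abelian Sylow subgroup of order eight. -/
structure Eight (S : Sylow 2 G) : Prop where
  card : Nat.card (S : Subgroup G) = 8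
  comm : ∀ a ∈ (S : Subgroup G), ∀ b ∈ (S : Subgroup G), a * b = b * a
  exp : ∀ a ∈ (S : Subgroup G), a ^ 2 = 1

theorem Eight.smul {S : Sylow 2 G} (hS : Eight S) (T : Sylow 2 G) : Eight T := by
  haveI : Fact (Nat.Prime 2) := ⟨Nat.prime_two⟩
  obtain ⟨g, rfl⟩ := MulAction.exists_smul_eq G S T
  refine ⟨by rw [← hS.card]; exact Nat.card_congr ((g • S).equiv S).toEquiv, fun a ha b hb => ?_,
    fun a ha => ?_⟩
  · have := hS.comm _ (Transfer.Fusion.mem_smul_sylow_iff.1 ha) _ (Transfer.Fusion.mem_smul_sylow_iff.1 hb)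
    calc a * b = g * ((g⁻¹ * a * g) * (g⁻¹ * b * g)) * g⁻¹ := by group
      _ = g * ((g⁻¹ * b * g) * (g⁻¹ * a * g)) * g⁻¹ := by rw [this]
      _ = b * a := by group
  · have h2 := hS.exp _ (Transfer.Fusion.mem_smul_sylow_iff.1 ha)
    calc a ^ 2 = g * ((g⁻¹ * a * g) ^ 2) * g⁻¹ := by rw [pow_two, pow_two]; group
      _ = 1 := by rw [h2, mul_one, mul_inv_cancel]

/-- The cover of an insoluble centralizer. -/
theorem exists_cover {S : Sylow 2 G} (hS : Eight S) {t : G} (htS : t ∈ (S : Subgroup G))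
    (ht : orderOf t = 2) (hns : ¬ Group.IsSolvable ↥(centralizer ({t} : Set G))) :
    ∃ (X : Type u) (_ : Group X) (_ : Finite X) (L : Subgroup X)
      (π : ↥(centralizer ({t} : Set G)) →* X) (F : Type) (_ : Field F) (_ : Fintype F) (p f : ℕ)
      (_ : Fact p.Prime), Fintype.card F = p ^ f ∧ f % 2 = 1 ∧ 3 ≤ p ∧
      centralizer (L : Set X) = ⊥ ∧ Cover t L π (Fintype.card F) p ∧
      Nonempty (L ≃* Matrix.ProjectiveSpecialLinearGroup (Fin 2) F) := by
  haveI : Fact (Nat.Prime 2) := ⟨Nat.prime_two⟩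
  set C := centralizer ({t} : Set G) with hC
  have hSC : (S : Subgroup G) ≤ C := fun a ha => mem_centralizer_singleton_iff.2 (hS.comm a ha t htS)
  let SC : Sylow 2 C := S.subtype hSC
  set W := Cfsg.oddCore C with hW
  set tC : C := ⟨t, mem_centralizer_singleton_iff.2 rfl⟩ with htC
  have htCo : orderOf tC = 2 := by rw [← Subgroup.orderOf_coe]; exact ht
  have hWodd : Odd (Nat.card W) := Cores.oddCore_odd
  have htW : tC ∉ W := fun h1 => by
    have := W.orderOf_dvd_natCard h1
    rw [htCo] at this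
    exact Nat.not_even_iff_odd.2 hWodd (even_iff_two_dvd.2 this)
  set tb : C ⧸ W := (tC : C ⧸ W) with htb
  have htb1 : tb ≠ 1 := fun e => htW ((QuotientGroup.eq_one_iff tC).1 e)
  have htb2 : tb ^ 2 = 1 := by rw [htb, ← QuotientGroup.mk_pow, ← htCo, pow_orderOf_eq_one, QuotientGroup.mk_one]
  have htbo : orderOf tb = 2 := orderOf_eq_prime htb2 htb1
  have htbc : zpowers tb ≤ center (C ⧸ W) := zpowers_le.2 (mem_center_iff.2 fun x => by
    obtain ⟨x, rfl⟩ := QuotientGroup.mk_surjective x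
    rw [htb, ← QuotientGroup.mk_mul, ← QuotientGroup.mk_mul,
      show x * tC = tC * x from Subtype.ext (mem_centralizer_singleton_iff.1 x.2)])
  haveI : (zpowers tb).Normal := ⟨fun x hx g => by
    rw [mem_center_iff.1 (htbc hx) g, mul_inv_cancel_right]; exact hx⟩
  set π : C →* (C ⧸ W) ⧸ zpowers tb := (QuotientGroup.mk' _).comp (QuotientGroup.mk' W) with hπ
  have hπs : Function.Surjective π :=
    (QuotientGroup.mk'_surjective _).comp (QuotientGroup.mk'_surjective W)
  have hker : ∀ c, π c = 1 → c ∈ W ∨ c * tC ∈ W := by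
    intro c hc
    obtain ⟨k, hk⟩ := mem_zpowers_iff.1 ((QuotientGroup.eq_one_iff (c : C ⧸ W)).1 hc)
    rcases Int.even_or_odd' k with ⟨j, rfl | rfl⟩
    · rw [zpow_mul, zpow_two, ← pow_two, htb2, one_zpow] at hk
      exact Or.inl ((QuotientGroup.eq_one_iff c).1 hk.symm)
    · rw [zpow_add, zpow_mul, zpow_two, ← pow_two, htb2, one_zpow, one_mul, zpow_one] at hk
      refine Or.inr ((QuotientGroup.eq_one_iff _).1 ?_)
      rw [QuotientGroup.mk_mul, ← hk, ← htb, ← pow_two, htb2]
  have hOX : Cfsg.oddCore ((C ⧸ W) ⧸ zpowers tb) = ⊥ :=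
    ZStar.CentralWeaklyClosed.oddCore_quotient_central (Cores.pPrimeCore_quotient_self 2) _ htbc
      (IsPGroup.of_card (n := 1) (by rw [Nat.card_zpowers, htbo, pow_one]))
  let T : Sylow 2 ((C ⧸ W) ⧸ zpowers tb) := SC.mapSurjective hπs
  have hT4 : Nat.card (T : Subgroup ((C ⧸ W) ⧸ zpowers tb)) = 4 := by
    have h1 : Nat.card (SC : Subgroup C) = 8 :=
      (Nat.card_congr (subgroupOfEquivOfLe hSC).toEquiv).trans hS.card
    rw [SC.card_eq_multiplicity] at h1
    have hfac : (Nat.card C).factorization 2 = 3 :=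
      Nat.pow_right_injective le_rfl (h1.trans (by norm_num))
    rw [T.card_eq_multiplicity]
    have h2 : Nat.card C = Nat.card ((C ⧸ W) ⧸ zpowers tb) * 2 * Nat.card W := by
      rw [Subgroup.card_eq_card_quotient_mul_card_subgroup W,
        Subgroup.card_eq_card_quotient_mul_card_subgroup (zpowers tb), Nat.card_zpowers, htbo]
    rw [h2, Nat.factorization_mul (Nat.mul_ne_zero Nat.card_pos.ne' two_ne_zero) Nat.card_pos.ne',
      Nat.factorization_mul Nat.card_pos.ne' two_ne_zero, Finsupp.add_apply, Finsupp.add_apply,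
      Nat.factorization_eq_zero_of_not_dvd (fun h' => Nat.not_even_iff_odd.2 hWodd (even_iff_two_dvd.2 h')),
      Nat.prime_two.factorization, Finsupp.single_eq_same] at hfac
    rw [show (Nat.card ((C ⧸ W) ⧸ zpowers tb)).factorization 2 = 2 by omega]
    norm_num
  have hTe : ∀ a ∈ (T : Subgroup ((C ⧸ W) ⧸ zpowers tb)), a ^ 2 = 1 := by
    rintro _ ⟨a, ha, rfl⟩
    rw [← map_pow, show a ^ 2 = 1 from Subtype.ext (by rw [Subgroup.coe_pow]; exact hS.exp _ ha), map_one]
  haveI : Nontrivial (T : Subgroup ((C ⧸ W) ⧸ zpowers tb)) := Finite.one_lt_card_iff_nontrivial.1 (by omega)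
  haveI : IsKleinFour (T : Subgroup ((C ⧸ W) ⧸ zpowers tb)) := ⟨hT4, by
    refine ((Nat.dvd_prime Nat.prime_two).1 (Monoid.exponent_dvd_of_forall_pow_eq_one fun g =>
      Subtype.ext (hTe _ g.2))).resolve_left fun e1 => ?_
    exact not_subsingleton (T : Subgroup ((C ⧸ W) ⧸ zpowers tb)) (Monoid.exp_eq_one_iff.1 e1)⟩
  obtain ⟨eT⟩ : Nonempty ((T : Subgroup ((C ⧸ W) ⧸ zpowers tb)) ≃* DihedralGroup 2) :=
    IsKleinFour.nonempty_mulEquiv
  have hnsX : ¬ Group.IsSolvable ((C ⧸ W) ⧸ zpowers tb) := fun hs => hns (by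
    haveI := hs
    haveI : Group.IsSolvable (zpowers tb) := Group.isSolvable_of_comm fun a b => mul_comm' a b
    haveI : Group.IsSolvable (C ⧸ W) := Group.isSolvable_of_ker_le_range (zpowers tb).subtype
      (QuotientGroup.mk' (zpowers tb)) (by rw [QuotientGroup.ker_mk', range_subtype])
    haveI : Group.IsSolvable W := S0205.result hWodd
    exact Group.isSolvable_of_ker_le_range W.subtype (QuotientGroup.mk' W)
      (by rw [QuotientGroup.ker_mk', range_subtype]))
  have h8 := not_eight_of_four T hT4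
  obtain ⟨L, hLn, hCL, -, -, ⟨F, hF', hfin, hodd, h3, ⟨e⟩⟩ | ⟨⟨e⟩⟩⟩ :=
    GW.Cons.full_gw GW.perfectGW hOX T le_rfl eT hnsX
  swap
  · refine absurd ((Dvd.intro 315 ?_).trans L.card_subgroup_dvd_card) h8
    rw [Nat.card_congr e.toEquiv, nat_card_alternatingGroup, Nat.card_fin]
    norm_num [Nat.factorial]
  obtain ⟨p, hchar⟩ := CharP.exists F
  obtain ⟨f, hp, hF⟩ := FiniteField.card F p
  haveI : Fact p.Prime := ⟨hp⟩
  have hp2 : p ≠ 2 := fun h => by
    rw [hF, h, Nat.odd_pow_iff f.ne_zero] at hodd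
    exact absurd hodd (by decide)
  have hcard := PSLOrderSpectrum.card_psl_two (F := F)
  rw [Nat.gcd_eq_left (Nat.dvd_of_mod_eq_zero (by have := Nat.odd_iff.1 hodd; omega))] at hcard
  have hmod : Fintype.card F % 8 = 3 ∨ Fintype.card F % 8 = 5 := mod_eight hodd hcard fun h' => h8 (by
    rw [← Nat.card_congr e.toEquiv] at h'
    exact h'.trans L.card_subgroup_dvd_card)
  have hL : LFacts L (Fintype.card F) p := (exists_lfacts hF hmod h3).of_equiv e.symm
  have hpf := pow_mod_eight (f := (f : ℕ)) ((hp.eq_two_or_odd).resolve_left hp2)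
  rw [← hF] at hpf
  have hfodd : (f : ℕ) % 2 = 1 := by
    by_contra hcon
    rw [if_pos (by omega)] at hpf
    omega
  have h4L : 4 ∣ Nat.card L := by
    rw [Nat.card_congr e.toEquiv]
    rcases hmod with hm | hm
    · refine Nat.dvd_of_mul_dvd_mul_left (k := 2) two_pos ?_
      rw [hcard, show Fintype.card F - 1 = 2 * (Fintype.card F / 2) by omega,
        show Fintype.card F + 1 = 4 * ((Fintype.card F + 1) / 4) by omega]
      exact ⟨Fintype.card F * ((Fintype.card F / 2) * ((Fintype.card F + 1) / 4)), by ring⟩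
    · refine Nat.dvd_of_mul_dvd_mul_left (k := 2) two_pos ?_
      rw [hcard, show Fintype.card F - 1 = 4 * (Fintype.card F / 4) by omega,
        show Fintype.card F + 1 = 2 * ((Fintype.card F + 1) / 2) by omega]
      exact ⟨Fintype.card F * ((Fintype.card F / 4) * ((Fintype.card F + 1) / 2)), by ring⟩
  have hindex : Odd L.index := by
    refine Nat.odd_iff.2 (Nat.two_dvd_ne_zero.1 fun h' => h8 ?_)
    rw [← L.card_mul_index]
    exact Nat.mul_dvd_mul h4L h'
  exact ⟨_, inferInstance, inferInstance, L, π, F, hF', hfin, p, f, ⟨hp⟩, hF, hfodd,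
    hp.two_le.lt_of_ne' hp2, hCL,
    ⟨hπs, hLn, hL, hindex, by rw [hπ]; exact (QuotientGroup.eq_one_iff tb).2 (mem_zpowers tb),
      fun c hc => by
        show π c = 1
        rw [hπ, MonoidHom.comp_apply, show (QuotientGroup.mk' W) c = 1 from (QuotientGroup.eq_one_iff c).2 hc,
          map_one],
      hker⟩, ⟨e⟩⟩

variable {t : G} {X : Type v} [Group X] [Finite X] {L : Subgroup X}
  {π : ↥(centralizer ({t} : Set G)) →* X} {q p : ℕ}

theorem Cover.mem_of_two (h : Cover t L π q p) {a : X} (ha : a ^ 2 = 1) : a ∈ L := by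
  haveI := h.normal
  rw [← QuotientGroup.eq_one_iff]
  have hd : orderOf (a : X ⧸ L) ∣ Nat.gcd 2 L.index := by
    refine Nat.dvd_gcd (orderOf_dvd_of_pow_eq_one ?_) ?_
    · rw [← QuotientGroup.mk_pow, ha, QuotientGroup.mk_one]
    · rw [Subgroup.index_eq_card]; exact orderOf_dvd_natCard _
  rwa [Nat.coprime_two_left.2 h.odd_index, Nat.dvd_one, orderOf_eq_one_iff] at hd

/-- An element of the kernel of order dividing two is `1` or `t`. -/
theorem Cover.eq_or_eq (h : Cover t L π q p) (ht : orderOf t = 2)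
    {c : ↥(centralizer ({t} : Set G))} (hc : π c = 1) (hc2 : c ^ 2 = 1) : (c : G) = 1 ∨ (c : G) = t := by
  have hone : ∀ d ∈ Cfsg.oddCore ↥(centralizer ({t} : Set G)), d ^ 2 = 1 → d = 1 := by
    intro d hd hd2
    exact orderOf_eq_one_iff.1 (Nat.eq_one_of_dvd_coprimes
      (Nat.coprime_two_left.2 (Cores.oddCore_odd (G := ↥(centralizer ({t} : Set G)))))
      (orderOf_dvd_of_pow_eq_one hd2) (orderOf_dvd_natCard _ hd))
  rcases h.ker c hc with h1 | h1
  · exact Or.inl (congrArg Subtype.val (hone c h1 hc2))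
  · have ht2 : t ^ 2 = 1 := ht ▸ pow_orderOf_eq_one t
    have h2 := hone _ h1 (by
      rw [(show Commute c ⟨t, _⟩ from Subtype.ext (mem_centralizer_singleton_iff.1 c.2)).mul_pow, hc2,
        one_mul]
      exact Subtype.ext ht2)
    have h3 : (c : G) * t = 1 := congrArg Subtype.val h2
    exact Or.inr (by rw [eq_inv_of_mul_eq_one_left h3, inv_eq_of_mul_eq_one_right (by rw [← pow_two]; exact ht2)])

/-- No element of prime order over a nontrivial element of `L` has a centralizer of full two-part. -/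
theorem Cover.no_conj_central2 (h : Cover t L π q p) (hA : CycConj G) {S : Sylow 2 G} (hS : Eight S)
    (ht : orderOf t = 2) {r : ℕ} (hr : r.Prime) (hr2 : r ≠ 2) {x : G} (hx : orderOf x = r)
    (hx8 : 8 ∣ Nat.card (centralizer ({x} : Set G))) {y : ↥(centralizer ({t} : Set G))}
    (hy : orderOf y = r) (hyL : π y ∈ L) : π y = 1 := by
  haveI : Fact (Nat.Prime 2) := ⟨Nat.prime_two⟩
  have hy8 : 8 ∣ Nat.card (centralizer ({(y : G)} : Set G)) := by
    rwa [hA.card_centralizer_eq hr (by rw [Subgroup.orderOf_coe, hy]) hx]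
  set Cy := centralizer ({(y : G)} : Set G) with hCy
  have htCy : t ∈ Cy := mem_centralizer_singleton_iff.2 (mem_centralizer_singleton_iff.1 y.2).symm
  obtain ⟨P, hP⟩ := (IsPGroup.of_card (n := 1) (G := zpowers (⟨t, htCy⟩ : Cy))
    (by rw [Nat.card_zpowers, ← Subgroup.orderOf_coe, ht, pow_one])).exists_le_sylow
  have hPp : IsPGroup 2 ((P : Subgroup Cy).map Cy.subtype) := P.2.map _
  obtain ⟨T, hT⟩ := hPp.exists_le_sylow
  have hT8 := hS.smul T
  have hP8 : 8 ≤ Nat.card (P : Subgroup Cy) := by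
    have := P.card_eq_multiplicity
    rw [this, show 8 = 2 ^ 3 by norm_num]
    exact Nat.pow_le_pow_right two_pos
      ((Nat.prime_two.pow_dvd_iff_le_factorization Nat.card_pos.ne').1 (show 2 ^ 3 ∣ _ from hy8))
  have hTeq : (P : Subgroup Cy).map Cy.subtype = (T : Subgroup G) := by
    refine eq_of_le_of_card_ge hT ?_
    rw [hT8.card, card_map_of_injective Cy.subtype_injective]
    exact hP8
  have htT : t ∈ (T : Subgroup G) := hT ⟨⟨t, htCy⟩, hP (mem_zpowers _), rfl⟩
  have hTy : ∀ a ∈ (T : Subgroup G), Commute a (y : G) := by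
    intro a ha
    obtain ⟨b, -, rfl⟩ := hTeq.ge ha
    exact mem_centralizer_singleton_iff.1 b.2
  have hTC : ∀ a ∈ (T : Subgroup G), a ∈ centralizer ({t} : Set G) := fun a ha =>
    mem_centralizer_singleton_iff.2 (hT8.comm a ha t htT)
  classical
  haveI := Fintype.ofFinite (T : Subgroup G)
  let f : (T : Subgroup G) →* X := π.comp (Subgroup.inclusion hTC)
  have hf1 : ∀ a, f a = 1 → (a : G) = 1 ∨ (a : G) = t := fun a ha =>
    h.eq_or_eq ht ha (Subtype.ext (hT8.exp _ a.2))
  have hfker : Nat.card f.ker ≤ 2 := by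
    refine le_trans (Nat.card_le_card_of_injective (β := ({1, t} : Finset G))
      (fun a => ⟨((a : (T : Subgroup G)) : G), by
        rcases hf1 a.1 a.2 with e | e <;> simp [e]⟩)
      (fun a b e => Subtype.ext (Subtype.ext (congrArg (fun z : ({1, t} : Finset G) => (z : G)) e)))) ?_
    rw [Nat.card_eq_finsetCard]
    exact Finset.card_le_two
  have hrange : 4 ≤ Nat.card f.range := by
    have h1 := f.ker.card_mul_index
    rw [hT8.card, Subgroup.index_ker f] at h1
    nlinarith
  obtain ⟨a, b, ha1, hb1, hab⟩ : ∃ a b : f.range, a ≠ 1 ∧ b ≠ 1 ∧ a ≠ b := by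
    haveI := Fintype.ofFinite f.range
    obtain ⟨x, y, z, hxy, hxz, hyz⟩ := Fintype.two_lt_card_iff.1
      (show 2 < Fintype.card f.range by rw [← Nat.card_eq_fintype_card]; omega)
    by_cases hx : x = 1
    · exact ⟨y, z, fun e => hxy (hx.trans e.symm), fun e => hxz (hx.trans e.symm), hyz⟩
    by_cases hy : y = 1
    · exact ⟨x, z, hx, fun e => hyz (hy.trans e.symm), hxz⟩
    exact ⟨x, y, hx, hy, hxy⟩
  obtain ⟨a', ha'⟩ := a.2
  obtain ⟨b', hb'⟩ := b.2
  have ha2 : (a : X) ^ 2 = 1 := by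
    rw [← ha', ← map_pow, show a' ^ 2 = 1 from Subtype.ext (hT8.exp _ a'.2), map_one]
  have hb2 : (b : X) ^ 2 = 1 := by
    rw [← hb', ← map_pow, show b' ^ 2 = 1 from Subtype.ext (hT8.exp _ b'.2), map_one]
  have hcy : ∀ c : (T : Subgroup G), Commute (π y) (f c) := fun c =>
    (show Commute y (Subgroup.inclusion hTC c) from Subtype.ext (hTy _ c.2).symm.eq).map π
  have h1 := h.lfacts.fixfree ⟨a, h.mem_of_two ha2⟩ ⟨b, h.mem_of_two hb2⟩ ⟨π y, hyL⟩
    (orderOf_eq_prime (Subtype.ext ha2) fun e => ha1 (Subtype.ext (congrArg (fun z : L => (z : X)) e)))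
    (orderOf_eq_prime (Subtype.ext hb2) fun e => hb1 (Subtype.ext (congrArg (fun z : L => (z : X)) e)))
    (Subtype.ext (by
      show (a : X) * b = b * a
      rw [← ha', ← hb', ← map_mul, ← map_mul, show a' * b' = b' * a' from
        Subtype.ext (hT8.comm _ a'.2 _ b'.2)]))
    (fun e => hab (Subtype.ext (congrArg (fun z : L => (z : X)) e)))
    (by
      rw [← Subgroup.orderOf_coe]
      exact (hr.odd_of_ne_two hr2).of_dvd_nat (hy ▸ orderOf_map_dvd π y))
    (Subtype.ext (by have := hcy a'; rwa [ha'] at this))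
    (Subtype.ext (by have := hcy b'; rwa [hb'] at this))
  exact congrArg Subtype.val h1

/-- `no_conj_central2` for conjugate `p`-subgroups. -/
theorem Cover.no_conj_central (h : Cover t L π q p) (hA : AllConj G) {S : Sylow 2 G} (hS : Eight S)
    (ht : orderOf t = 2) {r : ℕ} (hr : r.Prime) (hr2 : r ≠ 2) {x : G} (hx : orderOf x = r)
    (hx8 : 8 ∣ Nat.card (centralizer ({x} : Set G))) {y : ↥(centralizer ({t} : Set G))}
    (hy : orderOf y = r) (hyL : π y ∈ L) : π y = 1 :=
  h.no_conj_central2 hA.cycConj hS ht hr hr2 hx hx8 hy hyL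

/-- The primes of `|L|` are coprime to the odd core. -/
theorem Cover.not_dvd_core2 (h : Cover t L π q p) (hA : CycConj G) {S : Sylow 2 G} (hS : Eight S)
    (ht : orderOf t = 2) {r : ℕ} (hr : r.Prime) (hr2 : r ≠ 2) (hrL : r ∣ Nat.card L)
    (hab : ∀ Q : Subgroup G, IsPGroup r Q → ∀ a ∈ Q, ∀ b ∈ Q, a * b = b * a) :
    ¬ r ∣ Nat.card (Cfsg.oddCore ↥(centralizer ({t} : Set G))) := by
  classical
  haveI : Fact (Nat.Prime 2) := ⟨Nat.prime_two⟩
  haveI : Fact r.Prime := ⟨hr⟩
  haveI := h.normal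
  haveI := h.lfacts.simple
  set W := Cfsg.oddCore (centralizer ({t} : Set G)) with hW
  intro hrW
  obtain ⟨R⟩ : Nonempty (Sylow r W) := inferInstance
  set R₀ := (R : Subgroup W).map W.subtype with hR₀
  set N := normalizer (R₀ : Set (centralizer ({t} : Set G))) with hN
  set M := centralizer (R₀ : Set (centralizer ({t} : Set G))) with hM
  have hMN : M ≤ N := Subgroup.centralizer_le_normalizer _
  have hF : N ⊔ W = ⊤ := Sylow.normalizer_sup_eq_top R
  -- the image of the centralizer is normal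
  have hNs : ∀ x : X, ∃ n ∈ N, π n = x := by
    intro x
    obtain ⟨c, rfl⟩ := h.surj x
    obtain ⟨w, hw, n, hn, rfl⟩ := (Coprime.mem_sup_of_le_normalizer (N := W) (H := N)
      (by rw [W.normalizer_eq_top]; exact le_top) (x := c)).1 (by rw [sup_comm, hF]; exact mem_top c)
    exact ⟨n, hn, by rw [map_mul, show π w = 1 from h.core hw, one_mul]⟩
  haveI hMn : (M.map π).Normal := by
    refine ⟨fun x hx g => ?_⟩
    obtain ⟨m, hm, rfl⟩ := hx
    obtain ⟨n, hn, rfl⟩ := hNs g
    refine ⟨n * m * n⁻¹, mem_centralizer_iff.2 fun s hs => ?_, by simp⟩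
    have hs' : n⁻¹ * s * n ∈ R₀ := by simpa using (mem_normalizer_iff.1 (inv_mem hn) s).1 hs
    calc s * (n * m * n⁻¹) = n * ((n⁻¹ * s * n) * m) * n⁻¹ := by group
      _ = n * (m * (n⁻¹ * s * n)) * n⁻¹ := by rw [mem_centralizer_iff.1 hm _ hs']
      _ = n * m * n⁻¹ * s := by group
  -- it meets `L`
  have hR₀p : IsPGroup r R₀ := R.2.map _
  obtain ⟨P, hP⟩ := hR₀p.exists_le_sylow
  have hPc : ∀ a ∈ (P : Subgroup (centralizer ({t} : Set G))), ∀ b ∈ (P : Subgroup (centralizer ({t} : Set G))), a * b = b * a := fun a ha b hb =>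
    Subtype.ext (hab _ (P.2.map (centralizer ({t} : Set G)).subtype) _ ⟨a, ha, rfl⟩ _ ⟨b, hb, rfl⟩)
  have hPM : (P : Subgroup (centralizer ({t} : Set G))) ≤ M := fun a ha => mem_centralizer_iff.2 fun s hs => hPc s (hP hs) a ha
  obtain ⟨l, hl⟩ := exists_prime_orderOf_dvd_card' (G := L) r hrL
  have hlo : orderOf (l : X) = r := by rw [Subgroup.orderOf_coe, hl]
  have hlM : (l : X) ∈ M.map π := by
    obtain ⟨T, hT⟩ := (IsPGroup.of_card (n := 1) (G := zpowers (l : X))
      (by rw [Nat.card_zpowers, hlo, pow_one])).exists_le_sylow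
    obtain ⟨g, rfl⟩ := MulAction.exists_smul_eq X (P.mapSurjective h.surj) T
    obtain ⟨a, ha, hae⟩ := Transfer.Fusion.mem_smul_sylow_iff.1 (hT (mem_zpowers (l : X)))
    have := hMn.conj_mem _ ⟨a, hPM ha, hae⟩ g
    simpa [mul_assoc] using this
  have hLM : L ≤ M.map π := by
    rcases IsSimpleGroup.eq_bot_or_eq_top_of_normal ((M.map π).subgroupOf L)
      (hMn.subgroupOf L) with e | e
    · have : l ∈ (M.map π).subgroupOf L := hlM
      rw [e, mem_bot] at this
      rw [this, orderOf_one] at hl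
      exact absurd hl hr.one_lt.ne
    · intro x hx
      exact (e ▸ mem_top (⟨x, hx⟩ : L) : (⟨x, hx⟩ : L) ∈ (M.map π).subgroupOf L)
  -- elements of `R₀` have centralizers of full two-part
  set tC : (centralizer ({t} : Set G)) := ⟨t, mem_centralizer_singleton_iff.2 rfl⟩ with htC
  have htM : tC ∈ M := mem_centralizer_iff.2 fun s _ => Subtype.ext (mem_centralizer_singleton_iff.1 s.2)
  have hM8 : 8 ∣ Nat.card M := by
    set g : M →* X := π.comp M.subtype with hg
    have h1 := g.ker.card_mul_index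
    rw [Subgroup.index_ker g] at h1
    rw [← h1]
    have h4 : 4 ∣ Nat.card g.range := by
      have hrg : g.range = M.map π := by rw [hg, MonoidHom.range_comp, range_subtype]
      rw [hrg]
      refine dvd_trans ?_ (card_dvd_of_le hLM)
      have hcard := h.lfacts.card
      have hq := h.lfacts.q_mod
      rcases hq with hm | hm
      · refine Nat.dvd_of_mul_dvd_mul_left (k := 2) two_pos ?_
        rw [hcard, show q - 1 = 2 * (q / 2) by omega, show q + 1 = 4 * ((q + 1) / 4) by omega]
        exact ⟨q * ((q / 2) * ((q + 1) / 4)), by ring⟩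
      · refine Nat.dvd_of_mul_dvd_mul_left (k := 2) two_pos ?_
        rw [hcard, show q - 1 = 4 * (q / 4) by omega, show q + 1 = 2 * ((q + 1) / 2) by omega]
        exact ⟨q * ((q / 4) * ((q + 1) / 2)), by ring⟩
    have h2 : 2 ∣ Nat.card g.ker := by
      have hmem : (⟨tC, htM⟩ : M) ∈ g.ker := h.self
      have := g.ker.orderOf_dvd_natCard hmem
      rwa [← Subgroup.orderOf_coe, ← Subgroup.orderOf_coe, ht] at this
    exact Nat.mul_dvd_mul h2 h4
  have hR₀ne : r ∣ Nat.card R₀ := by
    rw [hR₀, card_map_of_injective W.subtype_injective, R.card_eq_multiplicity]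
    exact dvd_pow_self r (hr.factorization_pos_of_dvd Nat.card_pos.ne' hrW).ne'
  obtain ⟨x, hx⟩ := exists_prime_orderOf_dvd_card' (G := R₀) r hR₀ne
  have hxo : orderOf ((x : (centralizer ({t} : Set G))) : G) = r := by rw [Subgroup.orderOf_coe, Subgroup.orderOf_coe, hx]
  have hx8 : 8 ∣ Nat.card (centralizer ({((x : (centralizer ({t} : Set G))) : G)} : Set G)) := by
    refine hM8.trans ?_
    rw [← card_map_of_injective (f := (centralizer ({t} : Set G)).subtype) (centralizer ({t} : Set G)).subtype_injective (K := M)]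
    refine card_dvd_of_le ?_
    rintro _ ⟨m, hm, rfl⟩
    exact mem_centralizer_singleton_iff.2 (congrArg Subtype.val (mem_centralizer_iff.1 hm x x.2)).symm
  -- a perfect subgroup over `L`
  obtain ⟨M₀, ⟨hM₀M, hM₀L⟩, hmin⟩ := Set.Finite.exists_minimal
    (Set.toFinite {K : Subgroup (centralizer ({t} : Set G)) | K ≤ M ∧ K.map π = L}) ⟨M ⊓ L.comap π, inf_le_left, by
      refine le_antisymm ((map_mono inf_le_right).trans (map_comap_le _ _)) fun y hy => ?_
      obtain ⟨m, hm, rfl⟩ := hLM hy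
      exact ⟨m, ⟨hm, hy⟩, rfl⟩⟩
  have hperfL : ⁅L, L⁆ = L := by
    have hnc : ∃ a b : L, a * b ≠ b * a := by
      by_contra hcon
      push Not at hcon
      obtain ⟨k, hk⟩ : ∃ k : L, orderOf k = 2 := by
        refine exists_prime_orderOf_dvd_card' 2 ?_
        have h4 := h.lfacts.card
        have hq := h.lfacts.q_mod
        obtain ⟨c, hc⟩ := Nat.even_mul_succ_self (q / 2)
        refine ⟨2 * q * c, Nat.eq_of_mul_eq_mul_left two_pos ?_⟩
        rw [h4, show q - 1 = 2 * (q / 2) by omega, show q + 1 = 2 * (q / 2 + 1) by omega]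
        calc q * (2 * (q / 2) * (2 * (q / 2 + 1))) = 4 * q * (q / 2 * (q / 2 + 1)) := by ring
          _ = _ := by rw [hc]; ring
      obtain ⟨u, hu, -, huk⟩ := h.lfacts.four k hk
      obtain ⟨g, hg⟩ := isConj_iff.1 (h.lfacts.conj k u hk hu)
      rw [hcon g k, mul_inv_cancel_right] at hg
      exact huk hg.symm
    rcases IsSimpleGroup.eq_bot_or_eq_top_of_normal (_root_.commutator L) inferInstance with e | e
    · obtain ⟨a, b, hab⟩ := hnc
      have h1 : ⁅a, b⁆ ∈ _root_.commutator L := commutator_mem_commutator (mem_top a) (mem_top b)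
      rw [e, mem_bot, commutatorElement_eq_one_iff_mul_comm] at h1
      exact absurd h1 hab
    · have := congrArg (Subgroup.map L.subtype) e
      rwa [_root_.commutator_def, Subgroup.map_commutator, ← MonoidHom.range_eq_map,
        Subgroup.range_subtype] at this
  have hperf : ⁅M₀, M₀⁆ = M₀ := by
    refine le_antisymm (commutator_le.2 fun a ha b hb => mul_mem (mul_mem (mul_mem ha hb) (inv_mem ha)) (inv_mem hb)) (hmin ⟨(commutator_le.2 fun a ha b hb => mul_mem (mul_mem (mul_mem ha hb) (inv_mem ha)) (inv_mem hb)).trans hM₀M, ?_⟩ (commutator_le.2 fun a ha b hb => mul_mem (mul_mem (mul_mem ha hb) (inv_mem ha)) (inv_mem hb)))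
    rw [Subgroup.map_commutator, hM₀L, hperfL]
  obtain ⟨Q⟩ : Nonempty (Sylow r M₀) := inferInstance
  have hQinj : ∀ z ∈ (Q : Subgroup M₀), π (z : (centralizer ({t} : Set G))) = 1 → z = 1 := by
    intro z hz hπz
    obtain ⟨k, hk⟩ := Q.2 ⟨z, hz⟩
    have hzk : (z : (centralizer ({t} : Set G))) ^ r ^ k = 1 := congrArg (fun w : (Q : Subgroup M₀) => ((w : M₀) : (centralizer ({t} : Set G)))) hk
    have hodd : Odd (r ^ k) := (hr.odd_of_ne_two hr2).pow
    have hzW : (z : (centralizer ({t} : Set G))) ∈ W := by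
      rcases h.ker _ hπz with e | e
      · exact e
      · exfalso
        have ho : Odd (orderOf ((z : (centralizer ({t} : Set G))) * tC)) :=
          (Cores.oddCore_odd (G := (centralizer ({t} : Set G)))).of_dvd_nat (W.orderOf_dvd_natCard e)
        have h1 : ((z : (centralizer ({t} : Set G))) * tC) ^ (r ^ k * 2) = 1 := by
          rw [(show Commute (z : (centralizer ({t} : Set G))) tC from Subtype.ext (mem_centralizer_singleton_iff.1 (z : (centralizer ({t} : Set G))).2)).mul_pow,
            pow_mul, hzk, one_pow, one_mul, mul_comm, pow_mul, show tC ^ 2 = 1 from Subtype.ext (by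
              rw [Subgroup.coe_pow]; exact ht ▸ pow_orderOf_eq_one t), one_pow]
        have h2 : ((z : (centralizer ({t} : Set G))) * tC) ^ (r ^ k) = 1 := orderOf_dvd_iff_pow_eq_one.1
          ((Nat.coprime_two_right.2 ho).dvd_of_dvd_mul_right (orderOf_dvd_of_pow_eq_one h1))
        rw [(show Commute (z : (centralizer ({t} : Set G))) tC from Subtype.ext (mem_centralizer_singleton_iff.1 (z : (centralizer ({t} : Set G))).2)).mul_pow,
          hzk, one_mul] at h2
        have h3 : orderOf tC ∣ r ^ k := orderOf_dvd_of_pow_eq_one h2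
        rw [← Subgroup.orderOf_coe, ht] at h3
        exact Nat.not_even_iff_odd.2 hodd (even_iff_two_dvd.2 h3)
    set z' : W := ⟨z, hzW⟩ with hz'
    have hzR : z' ∈ (R : Subgroup W) := by
      have hcomm : ∀ a ∈ (R : Subgroup W), z' * a = a * z' := fun a ha => Subtype.ext
        (mem_centralizer_iff.1 (hM₀M z.2) (a : (centralizer ({t} : Set G))) ⟨a, ha, rfl⟩).symm
      have hn : zpowers z' ≤ normalizer ((R : Subgroup W) : Set W) :=
        zpowers_le.2 (EqualOrderConj.mem_normalizer_of_conj_mem fun a ha => by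
          rw [hcomm a ha, mul_inv_cancel_right]; exact ha)
      have hp' : IsPGroup r (zpowers z') := by
        obtain ⟨j, -, hj⟩ := (Nat.dvd_prime_pow hr).1
          (orderOf_dvd_of_pow_eq_one (show z' ^ r ^ k = 1 from Subtype.ext hzk))
        exact IsPGroup.of_card (n := j) (by rw [Nat.card_zpowers, hj])
      have h1 := hp'.to_sup_of_normal_right' R.2 hn
      rw [← R.3 h1 le_sup_right]
      exact mem_sup_left (mem_zpowers z')
    have hzc : z ∈ center M₀ := mem_center_iff.2 fun m => Subtype.ext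
      (mem_centralizer_iff.1 (hM₀M m.2) (z : (centralizer ({t} : Set G))) ⟨z', hzR, rfl⟩).symm
    refine eq_one_of_central Q (fun a ha b hb => Subtype.ext (Subtype.ext ?_)) hz hzc ?_
    · exact hab _ ((Q.2.map M₀.subtype).map (centralizer ({t} : Set G)).subtype)
        _ ⟨(a : (centralizer ({t} : Set G))), ⟨a, ha, rfl⟩, rfl⟩ _ ⟨(b : (centralizer ({t} : Set G))), ⟨b, hb, rfl⟩, rfl⟩
    · have htop : _root_.commutator M₀ = ⊤ := Subgroup.map_injective M₀.subtype_injective (by
        rw [_root_.commutator_def, Subgroup.map_commutator, ← MonoidHom.range_eq_map,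
          Subgroup.range_subtype, hperf])
      rw [htop]; exact mem_top z
  have hrQ : r ∣ Nat.card (Q : Subgroup M₀) := by
    have h1 : r ∣ Nat.card M₀ := hrL.trans (by
      rw [← hM₀L]; exact Subgroup.card_map_dvd M₀ π)
    rw [Q.card_eq_multiplicity]
    exact dvd_pow_self r (hr.factorization_pos_of_dvd Nat.card_pos.ne' h1).ne'
  obtain ⟨y, hy⟩ := exists_prime_orderOf_dvd_card' (G := (Q : Subgroup M₀)) r hrQ
  have hyo : orderOf ((y : M₀) : (centralizer ({t} : Set G))) = r := by rw [Subgroup.orderOf_coe, Subgroup.orderOf_coe, hy]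
  have h1 := h.no_conj_central2 hA hS ht hr hr2 hxo hx8 hyo (hM₀L ▸ ⟨_, (y : M₀).2, rfl⟩)
  have h2 := hQinj (y : M₀) y.2 h1
  rw [h2, OneMemClass.coe_one, orderOf_one] at hyo
  exact hr.one_lt.ne hyo

/-- `not_dvd_core2` for conjugate `p`-subgroups. -/
theorem Cover.not_dvd_core (h : Cover t L π q p) (hA : AllConj G) {S : Sylow 2 G} (hS : Eight S)
    (ht : orderOf t = 2) {r : ℕ} (hr : r.Prime) (hr2 : r ≠ 2) (hrL : r ∣ Nat.card L) :
    ¬ r ∣ Nat.card (Cfsg.oddCore ↥(centralizer ({t} : Set G))) := by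
  haveI : Fact r.Prime := ⟨hr⟩
  exact h.not_dvd_core2 hA.cycConj hS ht hr hr2 hrL fun Q hQ a ha b hb =>
    hA.comm_of_isPGroup hr2 hQ ha hb

end Cfsg.Agent.EqConjOdd
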