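import Cfsg.Agent.Lib.EqConjOdd.Large
import Cfsg.Agent.Lib.EqConjOdd.Centralizer
import Cfsg.Agent.Lib.EqConjOdd.FourCase
import Cfsg.Agent.Lib.EqConjOdd.Endgame
import Cfsg.Agent.Lib.EqSubConj.Small

/-!
# Groups in which `p`-subgroups of equal order are conjugate
-/

set_option autoImplicit false
set_option linter.style.haveILetI false

namespace Cfsg.Agent.EqConjOdd

open Subgroup

universe u

/-- The groups on the list. -/
def Listed (G : Type u) [Group G] : Prop :=
  (IsCyclic G ∧ IsPGroup 2 G) ∨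
    Nonempty (G ≃* Cfsg.affineGroup (GaloisField 2 3)) ∨
    Nonempty (G ≃* Cfsg.semiaffineGroup (GaloisField 2 3)) ∨
    Nonempty (G ≃* Cfsg.semiaffineGroup (GaloisField 2 5)) ∨
    Cfsg.IsJ1 G ∨
    Nonempty (G ≃* Matrix.ProjectiveSpecialLinearGroup (Fin 2) (GaloisField 2 3)) ∨
    Nonempty (G ≃* MulAut (Matrix.ProjectiveSpecialLinearGroup (Fin 2) (GaloisField 2 5))) ∨
    (∃ (p : ℕ) (_ : Fact p.Prime), (p % 8 = 3 ∨ p % 8 = 5) ∧
      (Nonempty (G ≃* Matrix.ProjectiveSpecialLinearGroup (Fin 2) (ZMod p)) ∨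
       Nonempty (G ≃* Matrix.ProjectiveSpecialLinearGroup (Fin 2) (GaloisField p 3)) ∨
       Nonempty (G ≃* Matrix.SpecialLinearGroup (Fin 2) (ZMod p)) ∨
       Nonempty (G ≃* Matrix.SpecialLinearGroup (Fin 2) (GaloisField p 3))))

variable {G : Type u} [Group G] [Finite G]

/-- Conjugate elements have isomorphic centralizers. -/
theorem solvable_centralizer_of_conj {s t : G} (hst : IsConj s t)
    (h : Group.IsSolvable ↥(centralizer ({s} : Set G))) :
    Group.IsSolvable ↥(centralizer ({t} : Set G)) := by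
  obtain ⟨g, rfl⟩ := isConj_iff.1 hst
  haveI := h
  refine Group.isSolvable_of_isSolvable_injective
    (f := ((MulAut.conj g⁻¹).toMonoidHom.comp (centralizer ({g * s * g⁻¹} : Set G)).subtype).codRestrict
      (centralizer ({s} : Set G)) fun x => ?_) ?_
  · rw [mem_centralizer_singleton_iff]
    have := congrArg (fun z => g⁻¹ * z * g) (mem_centralizer_singleton_iff.1 x.2)
    simpa [mul_assoc] using this
  · exact fun a b e => Subtype.ext ((MulAut.conj g⁻¹).injective (congrArg Subtype.val e))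

theorem classify (h : AllConj G) (hO : Cfsg.oddCore G = ⊥) : Listed G := by
  haveI : Fact (Nat.Prime 2) := ⟨Nat.prime_two⟩
  obtain ⟨S⟩ : Nonempty (Sylow 2 G) := inferInstance
  rcases EqualOrderConj.two_structure (h 2 Nat.prime_two) S.2 with hcyc | ⟨hcomm, he⟩ | ⟨⟨e⟩⟩
  · exact Or.inl (EqSubConj.cyclic_case hO S hcyc)
  · have hc : ∀ a ∈ (S : Subgroup G), ∀ b ∈ (S : Subgroup G), a * b = b * a := fun a ha b hb =>
      congrArg Subtype.val (hcomm.is_comm.comm ⟨a, ha⟩ ⟨b, hb⟩)
    obtain ⟨n, hn⟩ := S.2.exists_card_eq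
    match n, hn with
    | 0, hn =>
      haveI : Subsingleton (S : Subgroup G) := (Nat.card_eq_one_iff_unique.1 (by rw [hn, pow_zero])).1
      exact Or.inl (EqSubConj.cyclic_case hO S inferInstance)
    | 1, hn => exact Or.inl (EqSubConj.cyclic_case hO S (isCyclic_of_prime_card (by rw [hn, pow_one])))
    | 2, hn =>
      obtain ⟨p, ip, hp, h4⟩ := four_case h hO S hc he (by rw [hn]; rfl)
      exact Or.inr (Or.inr (Or.inr (Or.inr (Or.inr (Or.inr (Or.inr
        ⟨p, ip, hp, h4.elim Or.inl fun h' => Or.inr (Or.inl h')⟩))))))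
    | n + 3, hn =>
      by_cases hC : ∀ t : G, orderOf t = 2 → Group.IsSolvable ↥(centralizer ({t} : Set G))
      · rcases large_solvable h S hc he hO (Nat.le_add_left 3 n) hn hC with h1 | h1 | h1 | h1 | h1
        · exact Or.inr (Or.inl h1)
        · exact Or.inr (Or.inr (Or.inl h1))
        · exact Or.inr (Or.inr (Or.inr (Or.inl h1)))
        · exact Or.inr (Or.inr (Or.inr (Or.inr (Or.inr (Or.inl h1)))))
        · exact Or.inr (Or.inr (Or.inr (Or.inr (Or.inr (Or.inr (Or.inl h1))))))
      push Not at hC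
      obtain ⟨s, hs, hns⟩ := hC
      have hne : (S : Subgroup G) ≠ ⊥ := fun e' => by
        rw [e', Subgroup.card_bot] at hn
        exact absurd hn.symm (Nat.ne_of_gt (Nat.one_lt_two_pow (by omega)))
      obtain ⟨t, htS, ht⟩ := EqSubConj.exists_involution hne he
      have hnt : ¬ Group.IsSolvable ↥(centralizer ({t} : Set G)) := fun h' =>
        hns (solvable_centralizer_of_conj (h.isConj_invol ht hs) h')
      obtain ⟨hn35, -⟩ := EqSubConj.model_two (h 2 Nat.prime_two) S hc he (Nat.le_add_left 3 n) hn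
      rcases hn35 with h3 | h5
      · rw [h3] at hn
        have hS : Eight S := ⟨hn.trans (by norm_num), hc, he⟩
        obtain ⟨F, iF, iT, p, f, ip, hF, hf, hmod, h5F, hshape⟩ := exists_shape h hS htS ht hnt
        exact Or.inr (Or.inr (Or.inr (Or.inr (Or.inl
          (janko_of_shape h hO S hS.card hc he hmod h5F hF hf hshape)))))
      · rw [h5] at hn
        exact absurd (five_centralizer_solvable h S hc he (hn.trans (by norm_num)) htS ht) hnt
  · obtain ⟨p, ip, hp, h4⟩ := quaternion_case h hO S e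
    exact Or.inr (Or.inr (Or.inr (Or.inr (Or.inr (Or.inr (Or.inr
      ⟨p, ip, hp, h4.elim (fun h' => Or.inr (Or.inr (Or.inl h'))) fun h' => Or.inr (Or.inr (Or.inr h'))⟩))))))

/-- The theorem for an arbitrary group. -/
theorem classify_quotient (h : AllConj G) : Listed (G ⧸ Cfsg.oddCore G) :=
  classify (h.quotient _) (Cores.pPrimeCore_quotient_self 2)

end Cfsg.Agent.EqConjOdd
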